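import Groth.Agent.AmpleLib.Relative

/-!
# Relative ampleness: composition, base change, products
-/

set_option autoImplicit false
set_option backward.isDefEq.respectTransparency.types false

universe u

open CategoryTheory CategoryTheory.Limits AlgebraicGeometry Opposite TopologicalSpace
open Groth.Agent.Coherent Groth.Agent.PicLib

namespace Groth.Agent.AmpleLib

variable {X Y : Scheme.{u}} {L M : X.Modules} {f : X ⟶ Y}

/-- Being invertible is local. -/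
theorem isInvertible_of_pullback_opens
    (h : ∀ x : X, ∃ P : X.Opens, x ∈ P ∧ PicF.IsInvertible ((Scheme.Modules.pullback P.ι).obj L)) :
    PicF.IsInvertible L := by
  refine isInvertible_of_gens fun x => ?_
  obtain ⟨P, hxP, hP⟩ := h x
  have hinv : PicF.IsInvertible (L.restrict P.ι) :=
    glocus_isInvertible_of_iso (restrictIsoPullback P.ι L).symm hP
  obtain ⟨W, hxW, s, hs⟩ := exists_isGen hinv ⟨x, hxP⟩
  refine ⟨P.ι ''ᵁ W, ⟨⟨x, hxP⟩, hxW, rfl⟩, (L.restrictAppIso P.ι W).hom s, fun T hT => ?_⟩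
  obtain ⟨T', rfl⟩ : ∃ T', P.ι ''ᵁ T' = T := ⟨P.ι ⁻¹ᵁ T, by
    rw [P.ι.image_preimage_eq_opensRange_inf, inf_eq_right]
    exact hT.trans (P.ι.image_le_opensRange W)⟩
  have hT' : T' ≤ W := by
    intro z hz
    obtain ⟨w, hw, he⟩ := hT ⟨z, hz, rfl⟩
    exact (Subtype.ext he : w = z) ▸ hw
  have hb := (ConcreteCategory.bijective_of_isIso (L.restrictAppIso P.ι T').hom).comp
    ((hs T' hT').comp (ConcreteCategory.bijective_of_isIso (P.ι.appIso T').hom))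
  convert hb using 1
  funext r
  refine Eq.trans ?_ (Scheme.Modules.smul_restrictAppIso_hom_apply _ L T' _ _).symm
  rw [← ConcreteCategory.comp_apply (P.ι.appIso T').hom, Iso.hom_inv_id]
  rfl

theorem isCompact_preimage_affine [QuasiCompact f] {V : Y.Opens} (hV : IsAffineOpen V) :
    IsCompact ((f ⁻¹ᵁ V : X.Opens) : Set X) :=
  QuasiCompact.isCompact_preimage _ V.2 hV.isCompact

theorem isRelAmple_tensor (hL : RelAmple.IsRelAmple f L) (hM : RelAmple.IsRelAmple f M) :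
    RelAmple.IsRelAmple f (CohB1.tensorMod L M) := by
  have hLi := isInvertible_of_isRelAmple f hL
  have hMi := isInvertible_of_isRelAmple f hM
  rw [isRelAmple_iff] at hL hM ⊢
  refine ⟨hL.1, fun V => ?_⟩
  obtain ⟨e⟩ := exists_pullTensorIso (f ⁻¹ᵁ V.1).ι hLi hMi
  exact isAmple_of_iso e.symm (isAmple_tensorMod (hL.2 V) (hM.2 V))

theorem isQuasiAffine_iff_isRelAmple [QuasiCompact f] :
    Mor2.IsQuasiAffine f ↔ RelAmple.IsRelAmple f (Coh.structureModule X) := by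
  rw [isRelAmple_iff]
  constructor
  · refine fun h => ⟨h.1, fun V => ?_⟩
    have := h.2 V.1 V.2
    obtain ⟨e⟩ := exists_pullStructureIso (f ⁻¹ᵁ V.1).ι
    exact isAmple_of_iso e.symm (isAmple_of_isQuasiAffine isInvertible_structureModule)
  · refine fun h => ⟨h.1, fun V hV => ?_⟩
    have : CompactSpace (f ⁻¹ᵁ V : Scheme.{u}) := isCompact_iff_compactSpace.1 (isCompact_preimage_affine hV)
    obtain ⟨e⟩ := exists_pullStructureIso (f ⁻¹ᵁ V).ι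
    exact isAmple_structureModule_iff.1 (isAmple_of_iso e (h.2 ⟨V, hV⟩))

/-- Left cancellation: a quasi-compact first factor inherits ampleness. -/
theorem isRelAmple_of_comp {Z : Scheme.{u}} (f : X ⟶ Y) (g : Y ⟶ Z) [QuasiCompact f]
    (hL : RelAmple.IsRelAmple (f ≫ g) L) : RelAmple.IsRelAmple f L := by
  have hLi := isInvertible_of_isRelAmple _ hL
  rw [isRelAmple_iff] at hL
  refine isRelAmple_of_affine_cover f hLi fun y => ?_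
  obtain ⟨V, hV, hyV, -⟩ := exists_isAffineOpen_mem_and_subset (x := g y) (U := ⊤) trivial
  obtain ⟨W, hW, hyW, hWV⟩ := exists_isAffineOpen_mem_and_subset (x := y) (U := g ⁻¹ᵁ V) hyV
  exact ⟨⟨W, hW⟩, hyW, isAmple_pullback_opens_mono (fun z hz => hWV hz) (isCompact_preimage_affine hW)
    (hL.2 ⟨V, hV⟩)⟩

/-- Relative ampleness is stable under base change. -/
theorem isRelAmple_baseChange {Y' : Scheme.{u}} (f : X ⟶ Y) [QuasiCompact f] (g : Y' ⟶ Y)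
    (hL : RelAmple.IsRelAmple f L) :
    RelAmple.IsRelAmple (pullback.snd f g) ((Scheme.Modules.pullback (pullback.fst f g)).obj L) := by
  have hLi := isInvertible_of_isRelAmple _ hL
  rw [isRelAmple_iff] at hL
  refine isRelAmple_of_affine_cover _ (PicLoc.isInvertible_pullback _ hLi) fun y => ?_
  obtain ⟨V, hV, hyV, -⟩ := exists_isAffineOpen_mem_and_subset (x := g y) (U := ⊤) trivial
  obtain ⟨V', hV', hyV', hV'V⟩ := exists_isAffineOpen_mem_and_subset (x := y) (U := g ⁻¹ᵁ V) hyV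
  refine ⟨⟨V', hV'⟩, hyV', ?_⟩
  show CohB1.IsAmple ((Scheme.Modules.pullback (pullback.snd f g ⁻¹ᵁ V').ι).obj _)
  have hle : pullback.snd f g ⁻¹ᵁ V' ≤ pullback.fst f g ⁻¹ᵁ (f ⁻¹ᵁ V) := fun z hz => by
    show f (pullback.fst f g z) ∈ V
    rw [← Scheme.Hom.comp_apply, pullback.condition, Scheme.Hom.comp_apply]
    exact hV'V hz
  let σ := (pullback.fst f g).resLE (f ⁻¹ᵁ V) (pullback.snd f g ⁻¹ᵁ V') hle
  have : IsAffineHom σ := ⟨fun A hA => by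
    have hAV : (f ⁻¹ᵁ V).ι ''ᵁ A ≤ f ⁻¹ᵁ V := ((f ⁻¹ᵁ V).ι.image_le_opensRange A).trans (Scheme.Opens.opensRange_ι _).le
    rw [← Scheme.Hom.isAffineOpen_iff_of_isOpenImmersion (pullback.snd f g ⁻¹ᵁ V').ι]
    have hpre : σ ⁻¹ᵁ A = (pullback.snd f g ⁻¹ᵁ V').ι ⁻¹ᵁ (pullback.fst f g ⁻¹ᵁ ((f ⁻¹ᵁ V).ι ''ᵁ A)) := by
      conv_lhs => rw [← (f ⁻¹ᵁ V).ι.preimage_image_eq A]
      simp only [← Scheme.Hom.comp_preimage, σ, Scheme.Hom.resLE_comp_ι]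
    rw [hpre, Scheme.Hom.image_preimage_eq_opensRange_inf, Scheme.Opens.opensRange_ι, inf_comm]
    exact isAffineOpen_fst_inf_snd f g hV (hA.image_of_isOpenImmersion _) hV' hAV hV'V⟩
  have h := isAmple_pullback_of_isAffineHom σ (hL.2 ⟨V, hV⟩)
  rw [isAmple_pullback_comp_iff] at h
  rw [isAmple_pullback_comp_iff]
  exact isAmple_pullback_congr (Scheme.Hom.resLE_comp_ι _ hle) h

theorem isRelAmple_pullback_of_isQuasiAffine {X' : Scheme.{u}} (f : X ⟶ Y) (g : X' ⟶ X)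
    (hg : Mor2.IsQuasiAffine g) (hL : RelAmple.IsRelAmple f L) :
    RelAmple.IsRelAmple (g ≫ f) ((Scheme.Modules.pullback g).obj L) := by
  have := hg.1
  exact isRelAmple_pullback f g (fun U M _ hM => isAmple_pullback_of_isQuasiAffine _ (isQuasiAffine_morphismRestrict g hg U) hM) hL

theorem isRelAmple_pullback_of_isEmbedding {X' : Scheme.{u}} (f : X ⟶ Y) (g : X' ⟶ X) [QuasiCompact g]
    (hg : Topology.IsEmbedding g.base) (hL : RelAmple.IsRelAmple f L) :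
    RelAmple.IsRelAmple (g ≫ f) ((Scheme.Modules.pullback g).obj L) := by
  refine isRelAmple_pullback f g (fun U M _ hM => isAmple_pullback_of_isEmbedding _ ?_ hM) hL
  refine Topology.IsEmbedding.of_comp (g ∣_ U).base.hom.continuous U.ι.base.hom.continuous ?_
  show Topology.IsEmbedding ((g ∣_ U ≫ U.ι).base : (g ⁻¹ᵁ U).toScheme → X)
  rw [morphismRestrict_ι]
  exact hg.comp (g ⁻¹ᵁ U).ι.isOpenEmbedding.isEmbedding

/-- Relative ampleness is local on the base. -/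
theorem isRelAmple_iff_of_openCover [QuasiCompact f] {ι : Type*} (U : ι → Y.Opens) (hU : ⨆ i, U i = ⊤) :
    RelAmple.IsRelAmple f L ↔
      ∀ i, RelAmple.IsRelAmple (f ∣_ U i) ((Scheme.Modules.pullback (f ⁻¹ᵁ U i).ι).obj L) := by
  constructor
  · intro h i
    rw [isRelAmple_iff] at h ⊢
    have hq : QuasiCompact (f ∣_ U i) := IsZariskiLocalAtTarget.restrict ‹QuasiCompact f› _
    refine ⟨hq, fun V => ?_⟩
    rw [isAmple_pullback_comp_iff]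
    have : CompactSpace ((f ∣_ U i) ⁻¹ᵁ V.1 : Scheme.{u}) :=
      isCompact_iff_compactSpace.1 (isCompact_preimage_affine V.2)
    refine isAmple_pullback_of_range_subset _ (Scheme.Hom.isOpenEmbedding _).isEmbedding _ ?_
      (h.2 ⟨_, V.2.image_of_isOpenImmersion (U i).ι⟩)
    rintro _ ⟨w, rfl⟩
    exact (image_morphismRestrict_preimage f (U i) V.1).le ⟨w.1, w.2, rfl⟩
  · intro h
    have hmem : ∀ y : Y, ∃ i, y ∈ U i := fun y => Opens.mem_iSup.1 (hU ▸ (trivial : y ∈ (⊤ : Y.Opens)))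
    have hLi : PicF.IsInvertible L := isInvertible_of_pullback_opens fun x => by
      obtain ⟨i, hi⟩ := hmem (f x)
      exact ⟨f ⁻¹ᵁ U i, hi, isInvertible_of_isRelAmple _ (h i)⟩
    refine isRelAmple_of_affine_cover f hLi fun y => ?_
    obtain ⟨i, hi⟩ := hmem y
    obtain ⟨W, hW, hyW, hWU⟩ := exists_isAffineOpen_mem_and_subset (x := y) (U := U i) hi
    refine ⟨⟨W, hW⟩, hyW, ?_⟩
    have hV : IsAffineOpen ((U i).ι ⁻¹ᵁ W) := hW.preimage_of_isOpenImmersion _ ((Scheme.Opens.opensRange_ι _).symm ▸ hWU)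
    have hP := ((isRelAmple_iff _).1 (h i)).2 ⟨_, hV⟩
    let σ : (f ⁻¹ᵁ W : Scheme.{u}) ⟶ (f ⁻¹ᵁ U i : Scheme.{u}) := X.homOfLE fun z hz => hWU hz
    have : CompactSpace (f ⁻¹ᵁ W : Scheme.{u}) := isCompact_iff_compactSpace.1 (isCompact_preimage_affine hW)
    have := isAmple_pullback_of_range_subset σ σ.isOpenEmbedding.isEmbedding _ (by
      rintro _ ⟨w, rfl⟩
      show (U i).ι ((f ∣_ U i) (σ w)) ∈ W
      simp only [← Scheme.Hom.comp_apply, σ, Category.assoc, morphismRestrict_ι, Scheme.homOfLE_ι_assoc]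
      exact w.2) hP
    rw [isAmple_pullback_comp_iff] at this
    exact isAmple_pullback_congr (X.homOfLE_ι _) this

/-- External tensor products. -/
theorem isRelAmple_externalTensor {X₁ X₂ Y₁ Y₂ S : Scheme.{u}} (a₁ : Y₁ ⟶ S) (a₂ : Y₂ ⟶ S)
    (f₁ : X₁ ⟶ Y₁) (f₂ : X₂ ⟶ Y₂) [QuasiCompact f₁] [QuasiCompact f₂] {L₁ : X₁.Modules} {L₂ : X₂.Modules}
    (hL₁ : RelAmple.IsRelAmple f₁ L₁) (hL₂ : RelAmple.IsRelAmple f₂ L₂)
    (φ : pullback (f₁ ≫ a₁) (f₂ ≫ a₂) ⟶ pullback a₁ a₂) [QuasiCompact φ]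
    (hφ₁ : φ ≫ pullback.fst a₁ a₂ = pullback.fst _ _ ≫ f₁) (hφ₂ : φ ≫ pullback.snd a₁ a₂ = pullback.snd _ _ ≫ f₂) :
    RelAmple.IsRelAmple φ
      (CohB1.tensorMod ((Scheme.Modules.pullback (pullback.fst (f₁ ≫ a₁) (f₂ ≫ a₂))).obj L₁)
        ((Scheme.Modules.pullback (pullback.snd (f₁ ≫ a₁) (f₂ ≫ a₂))).obj L₂)) := by
  have hi₁ := isInvertible_of_isRelAmple _ hL₁
  have hi₂ := isInvertible_of_isRelAmple _ hL₂
  rw [isRelAmple_iff] at hL₁ hL₂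
  let p₁ := pullback.fst (f₁ ≫ a₁) (f₂ ≫ a₂)
  let p₂ := pullback.snd (f₁ ≫ a₁) (f₂ ≫ a₂)
  have hp₁ := PicLoc.isInvertible_pullback p₁ hi₁
  have hp₂ := PicLoc.isInvertible_pullback p₂ hi₂
  refine isRelAmple_of_affine_cover _ (isInvertible_tensorMod hp₁ hp₂) fun y => ?_
  let y₁ := pullback.fst a₁ a₂ y
  let y₂ := pullback.snd a₁ a₂ y
  have hy : a₁ y₁ = a₂ y₂ := by
    simp only [y₁, y₂, ← Scheme.Hom.comp_apply, pullback.condition]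
  obtain ⟨V, hV, hsV, -⟩ := exists_isAffineOpen_mem_and_subset (x := a₁ y₁) (U := ⊤) trivial
  obtain ⟨V₁, hV₁, hy₁, hV₁V⟩ := exists_isAffineOpen_mem_and_subset (x := y₁) (U := a₁ ⁻¹ᵁ V) hsV
  obtain ⟨V₂, hV₂, hy₂, hV₂V⟩ := exists_isAffineOpen_mem_and_subset (x := y₂) (U := a₂ ⁻¹ᵁ V) (by
    show a₂ y₂ ∈ V
    rw [← hy]; exact hsV)
  let W : (pullback a₁ a₂).Opens := pullback.fst a₁ a₂ ⁻¹ᵁ V₁ ⊓ pullback.snd a₁ a₂ ⁻¹ᵁ V₂
  have hW : IsAffineOpen W := isAffineOpen_fst_inf_snd a₁ a₂ hV hV₁ hV₂ hV₁V hV₂V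
  refine ⟨⟨W, hW⟩, ⟨hy₁, hy₂⟩, ?_⟩
  show CohB1.IsAmple ((Scheme.Modules.pullback (φ ⁻¹ᵁ W).ι).obj _)
  let P := φ ⁻¹ᵁ W
  have hPdef : P = p₁ ⁻¹ᵁ (f₁ ⁻¹ᵁ V₁) ⊓ p₂ ⁻¹ᵁ (f₂ ⁻¹ᵁ V₂) := by
    simp only [P, W, Scheme.Hom.preimage_inf, ← Scheme.Hom.comp_preimage, hφ₁, hφ₂]
    rfl
  have hP1 : P ≤ p₁ ⁻¹ᵁ (f₁ ⁻¹ᵁ V₁) := hPdef.le.trans inf_le_left
  have hP2 : P ≤ p₂ ⁻¹ᵁ (f₂ ⁻¹ᵁ V₂) := hPdef.le.trans inf_le_right
  have : CompactSpace (φ ⁻¹ᵁ W : Scheme.{u}) := isCompact_iff_compactSpace.1 (isCompact_preimage_affine hW)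
  obtain ⟨e⟩ := exists_pullTensorIso P.ι hp₁ hp₂
  refine isAmple_of_iso e.symm ?_
  let σ₁ := p₁.resLE (f₁ ⁻¹ᵁ V₁) P hP1
  let σ₂ := p₂.resLE (f₂ ⁻¹ᵁ V₂) P hP2
  let e₁ : (Scheme.Modules.pullback σ₁).obj ((Scheme.Modules.pullback (f₁ ⁻¹ᵁ V₁).ι).obj L₁) ≅
      (Scheme.Modules.pullback P.ι).obj ((Scheme.Modules.pullback p₁).obj L₁) :=
    (Scheme.Modules.pullbackComp σ₁ (f₁ ⁻¹ᵁ V₁).ι).app L₁ ≪≫
      eqToIso (by rw [Scheme.Hom.resLE_comp_ι]) ≪≫ ((Scheme.Modules.pullbackComp P.ι p₁).app L₁).symm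
  let e₂ : (Scheme.Modules.pullback σ₂).obj ((Scheme.Modules.pullback (f₂ ⁻¹ᵁ V₂).ι).obj L₂) ≅
      (Scheme.Modules.pullback P.ι).obj ((Scheme.Modules.pullback p₂).obj L₂) :=
    (Scheme.Modules.pullbackComp σ₂ (f₂ ⁻¹ᵁ V₂).ι).app L₂ ≪≫
      eqToIso (by rw [Scheme.Hom.resLE_comp_ι]) ≪≫ ((Scheme.Modules.pullbackComp P.ι p₂).app L₂).symm
  refine isAmple_of_iso (tensorIso e₁ e₂) ?_
  have hq₁ := (hL₁.2 ⟨V₁, hV₁⟩).1
  have hq₂ := (hL₂.2 ⟨V₂, hV₂⟩).1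
  refine isAmple_tensor_of_joint (PicLoc.isInvertible_pullback σ₁ hq₁) (PicLoc.isInvertible_pullback σ₂ hq₂) fun z => ?_
  obtain ⟨m, hm, b, hb, -, hA⟩ := (isAmple_iff_affGlocus.1 (hL₁.2 ⟨V₁, hV₁⟩)).2.2 (σ₁ z)
  obtain ⟨n, hn, c, hc, -, hB⟩ := (isAmple_iff_affGlocus.1 (hL₂.2 ⟨V₂, hV₂⟩)).2.2 (σ₂ z)
  obtain ⟨eb, -⟩ := exists_pullPowIso σ₁ hq₁ m
  obtain ⟨ec, -⟩ := exists_pullPowIso σ₂ hq₂ n
  refine ⟨m, hm, n, hn, eb.hom.app ⊤ (pullSec σ₁ b), ec.hom.app ⊤ (pullSec σ₂ c), ?_⟩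
  rw [glocus_map_iso, glocus_map_iso, glocus_pullSec σ₁ (isInvertible_tensorPow hq₁ m),
    glocus_pullSec σ₂ (isInvertible_tensorPow hq₂ n)]
  refine ⟨⟨hb, hc⟩, ?_⟩
  let A := (f₁ ⁻¹ᵁ V₁).ι ''ᵁ glocus _ b
  let B := (f₂ ⁻¹ᵁ V₂).ι ''ᵁ glocus _ c
  have hA1 : A ≤ f₁ ⁻¹ᵁ V₁ := ((f₁ ⁻¹ᵁ V₁).ι.image_le_opensRange _).trans (Scheme.Opens.opensRange_ι _).le
  have hB2 : B ≤ f₂ ⁻¹ᵁ V₂ := ((f₂ ⁻¹ᵁ V₂).ι.image_le_opensRange _).trans (Scheme.Opens.opensRange_ι _).le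
  have haff := isAffineOpen_fst_inf_snd (f₁ ≫ a₁) (f₂ ≫ a₂) hV (hA.image_of_isOpenImmersion (f₁ ⁻¹ᵁ V₁).ι)
    (hB.image_of_isOpenImmersion (f₂ ⁻¹ᵁ V₂).ι) (fun w hw => hV₁V (hA1 hw)) (fun w hw => hV₂V (hB2 hw))
  have hle : p₁ ⁻¹ᵁ A ⊓ p₂ ⁻¹ᵁ B ≤ P := fun w hw => hPdef.ge ⟨hA1 hw.1, hB2 hw.2⟩
  have hpre : σ₁ ⁻¹ᵁ glocus _ b ⊓ σ₂ ⁻¹ᵁ glocus _ c = P.ι ⁻¹ᵁ (p₁ ⁻¹ᵁ A ⊓ p₂ ⁻¹ᵁ B) := by
    rw [Scheme.Hom.preimage_inf]
    congr 1
    · conv_lhs => rw [← (f₁ ⁻¹ᵁ V₁).ι.preimage_image_eq (glocus _ b)]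
      simp only [← Scheme.Hom.comp_preimage, σ₁, Scheme.Hom.resLE_comp_ι]
      rfl
    · conv_lhs => rw [← (f₂ ⁻¹ᵁ V₂).ι.preimage_image_eq (glocus _ c)]
      simp only [← Scheme.Hom.comp_preimage, σ₂, Scheme.Hom.resLE_comp_ι]
      rfl
  rw [hpre]
  exact haff.preimage_of_isOpenImmersion P.ι (hle.trans (Scheme.Opens.opensRange_ι _).ge)

end Groth.Agent.AmpleLib
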