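import Groth.Agent.AmpleLib.Ample
import Groth.Prelude.Def_LCI2

/-!
# Locality of ampleness on the base; relative ampleness
-/

set_option autoImplicit false
set_option backward.isDefEq.respectTransparency.types false

universe u

open CategoryTheory CategoryTheory.Limits AlgebraicGeometry Opposite TopologicalSpace
open Groth.Agent.Coherent Groth.Agent.PicLib

namespace Groth.Agent.AmpleLib

variable {X : Scheme.{u}} {L M : X.Modules} {U : X.Opens}

theorem glocus_isInvertible_of_iso (e : L ≅ M) (hL : PicF.IsInvertible L) : PicF.IsInvertible M := by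
  refine isInvertible_of_gens fun y => ?_
  obtain ⟨U, hy, g, hg⟩ := exists_isGen hL y
  refine ⟨U, hy, e.hom.app U g, fun V hV => ?_⟩
  have hb := ConcreteCategory.bijective_of_isIso (e.hom.app V)
  convert hb.comp (hg V hV) using 1
  funext r
  show _ = e.hom.app V (r • resM L hV g)
  rw [Scheme.Modules.Hom.app_smul, app_resM]

/-- Powers of the structure module are trivial. -/
theorem exists_structurePowIso (n : ℕ) :
    Nonempty (CohB1.tensorPow (Coh.structureModule X) n ≅ Coh.structureModule X) := by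
  obtain ⟨e, -⟩ := exists_iso_of_gens (fun _ : PUnit.{u + 1} => (⊤ : X.Opens)) (ciSup_const)
    (fun _ => powSec (oneSec (⊤ : X.Opens)) n) (fun _ => isGen_powSec (isGen_oneSec ⊤) n)
    (fun _ => oneSec (⊤ : X.Opens)) (fun _ => isGen_oneSec ⊤) (by
      intro i j V hi hj c hc
      rw [resM_powSec, resM_oneSec] at hc
      have := ((isGen_powSec (isGen_oneSec V) n) V le_rfl).1 (a₁ := 1) (a₂ := c) (by simpa only [resM_self, one_smul] using hc)
      rw [← this, one_smul])
  exact ⟨e⟩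

theorem isAmple_structureModule_iff [CompactSpace X] :
    CohB1.IsAmple (Coh.structureModule X) ↔ X.IsQuasiAffine := by
  refine ⟨fun h => ?_, fun _ => isAmple_of_isQuasiAffine isInvertible_structureModule⟩
  refine Scheme.IsQuasiAffine.of_forall_exists_mem_basicOpen X fun x => ?_
  obtain ⟨m, -, b, hx, -, ha⟩ := (isAmple_iff_affGlocus.1 h).2.2 x
  obtain ⟨e⟩ := exists_structurePowIso (X := X) m
  have hr : X.basicOpen (show Γ(X, ⊤) from e.hom.app ⊤ b) = glocus _ b :=
    (glocus_structureModule _).symm.trans (glocus_map_iso e b)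
  exact ⟨e.hom.app ⊤ b, hr ▸ ha, hr ▸ hx⟩

/-- Tensoring an ample module with one generated by sections of powers. -/
theorem isAmple_tensor_of_generated (hL : CohB1.IsAmple L) (hM : PicF.IsInvertible M)
    (h : ∀ x : X, ∃ n : ℕ, 0 < n ∧ ∃ c : Γ(CohB1.tensorPow M n, ⊤), x ∈ glocus _ c) :
    CohB1.IsAmple (CohB1.tensorMod L M) := by
  obtain ⟨hLi, hc, h1⟩ := isAmple_iff_affGlocus.1 hL
  refine isAmple_iff_affGlocus.2 ⟨isInvertible_tensorMod hLi hM, hc, fun x => ?_⟩
  obtain ⟨m, hm, a, hxa, -, haa⟩ := h1 x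
  obtain ⟨n, hn, c, hxc⟩ := h x
  obtain ⟨a', ha'⟩ := exists_glocus_pow hLi m a n hn
  obtain ⟨c', hc'⟩ := exists_glocus_pow hM n c m hm
  have key : ∀ k, k = m * n → ∃ c'' : Γ(CohB1.tensorPow M k, ⊤), glocus _ c'' = glocus _ c := by
    intro k hk
    obtain rfl : k = n * m := hk.trans (mul_comm m n)
    exact ⟨c', hc'⟩
  obtain ⟨c'', hc''⟩ := key _ rfl
  obtain ⟨e, -⟩ := exists_powTensorIso hLi hM (m * n)
  have hd : glocus _ (e.inv.app ⊤ (tmul a' c'')) = glocus _ a ⊓ glocus _ c := by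
    refine (glocus_map_iso e.symm (tmul a' c'')).trans ?_
    rw [glocus_tmul (isInvertible_tensorPow hLi _) (isInvertible_tensorPow hM _), ha', hc'']
  refine ⟨m * n, Nat.mul_pos hm hn, e.inv.app ⊤ (tmul a' c''), ?_, le_top, ?_⟩
  · rw [hd]; exact ⟨hxa, hxc⟩
  · rw [hd, inf_comm]; exact isAffineOpen_glocus_inf (isInvertible_tensorPow hM n) c haa

theorem isAmple_tensorMod (hL : CohB1.IsAmple L) (hM : CohB1.IsAmple M) :
    CohB1.IsAmple (CohB1.tensorMod L M) :=
  isAmple_tensor_of_generated hL hM.1 fun x => by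
    obtain ⟨n, hn, c, hx, -⟩ := (isAmple_iff_affGlocus.1 hM).2.2 x
    exact ⟨n, hn, c, hx⟩

/-- Pullback of sections is bijective where the morphism is an isomorphism on functions. -/
theorem bijective_pullSec_of_le {Z : Scheme.{u}} (σ : Z ⟶ X) (hL : PicF.IsInvertible L) (U : X.Opens)
    (hσ : ∀ V ≤ U, Function.Bijective (σ.app V)) :
    Function.Bijective (pullSec σ : Γ(L, U) → _) := by
  obtain ⟨W, z, hmem, hz⟩ := exists_cover hL
  let F := (Scheme.Modules.pushforward σ).obj ((Scheme.Modules.pullback σ).obj L)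
  let η : L ⟶ F := (Scheme.Modules.pullbackPushforwardAdjunction σ).unit.app L
  have hloc : ∀ (y : X) (V : X.Opens), V ≤ U → V ≤ W y → Function.Bijective (pullSec σ : Γ(L, V) → _) := by
    intro y V hVU h
    have h1 := isGen_pullSec σ ((hz y).restrict h) hL (σ ⁻¹ᵁ V) le_rfl
    simp only [resM_self] at h1
    have h0 : Function.Bijective (fun r : Γ(X, V) => r • resM L h (z y)) := hz y V h
    refine (Function.Bijective.of_comp_iff _ h0).1 ?_
    convert h1.comp (hσ V hVU) using 1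
    funext r
    exact pullSec_smul σ r _
  have hcov : ∀ V : X.Opens, V ≤ ⨆ y, V ⊓ W y := fun V x hx => Opens.mem_iSup.2 ⟨x, hx, hmem x⟩
  have hinj : ∀ V : X.Opens, V ≤ U → Function.Injective (pullSec σ : Γ(L, V) → _) := by
    intro V hV a b hab
    refine TopCat.Sheaf.eq_of_locally_eq' (⟨L.presheaf, L.isSheaf⟩ : TopCat.Sheaf Ab X)
      (fun y => V ⊓ W y) V (fun y => homOfLE inf_le_left) (hcov V) a b fun y =>
        (hloc y _ (inf_le_left.trans hV) inf_le_right).1 ?_
    exact ((resM_pullSec σ inf_le_left a).symm.trans (congrArg _ hab)).trans (resM_pullSec σ inf_le_left b)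
  refine ⟨hinj U le_rfl, fun t => ?_⟩
  let t' : Γ(F, U) := t
  choose x hx using fun y => (hloc y (U ⊓ W y) inf_le_left inf_le_right).2 (resM F (inf_le_left : U ⊓ W y ≤ U) t')
  obtain ⟨a, ha⟩ : ∃ a : Γ(L, U), ∀ y, resM L (inf_le_left : U ⊓ W y ≤ U) a = x y := by
    refine (TopCat.Sheaf.existsUnique_gluing' (⟨L.presheaf, L.isSheaf⟩ : TopCat.Sheaf Ab X)
      (fun y => U ⊓ W y) U (fun y => homOfLE inf_le_left) (hcov U) x
      (fun y y' => hinj _ (inf_le_left.trans inf_le_left) ?_)).exists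
    show η.app _ (resM L _ (x y)) = η.app _ (resM L _ (x y'))
    rw [app_resM, app_resM]
    show resM F _ (pullSec σ (x y)) = resM F _ (pullSec σ (x y'))
    rw [hx, hx]
    exact (resM_resM F _ _ t').trans (resM_resM F _ _ t').symm
  refine ⟨a, TopCat.Sheaf.eq_of_locally_eq' (⟨F.presheaf, F.isSheaf⟩ : TopCat.Sheaf Ab X)
      (fun y => U ⊓ W y) U (fun y => homOfLE inf_le_left) (hcov U) _ t' fun y => ?_⟩
  show resM F inf_le_left (η.app U a) = resM F inf_le_left t'
  rw [← app_resM, ha y]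
  exact hx y

theorem bijective_pullSec_opensRange {Z : Scheme.{u}} (σ : Z ⟶ X) [IsOpenImmersion σ]
    (hL : PicF.IsInvertible L) (U : X.Opens) (hU : U ≤ σ.opensRange) :
    Function.Bijective (pullSec σ : Γ(L, U) → _) :=
  bijective_pullSec_of_le σ hL U fun V hV => by
    have := σ.isIso_app V (hV.trans hU)
    exact ConcreteCategory.bijective_of_isIso (σ.app V)

/-- Restriction and pullback along an open immersion. -/
noncomputable def restrictIsoPullback {Z : Scheme.{u}} (σ : Z ⟶ X) [IsOpenImmersion σ] (L : X.Modules) :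
    L.restrict σ ≅ (Scheme.Modules.pullback σ).obj L :=
  (Scheme.Modules.restrictFunctorIsoPullback σ).app L

theorem isAmple_restrict_iff {Z : Scheme.{u}} (σ : Z ⟶ X) [IsOpenImmersion σ] :
    CohB1.IsAmple (L.restrict σ) ↔ CohB1.IsAmple ((Scheme.Modules.pullback σ).obj L) :=
  ⟨isAmple_of_iso (restrictIsoPullback σ L), isAmple_of_iso (restrictIsoPullback σ L).symm⟩

theorem isAmple_pullback_comp_iff {Z W : Scheme.{u}} (τ : W ⟶ Z) (σ : Z ⟶ X) :
    CohB1.IsAmple ((Scheme.Modules.pullback τ).obj ((Scheme.Modules.pullback σ).obj L)) ↔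
      CohB1.IsAmple ((Scheme.Modules.pullback (τ ≫ σ)).obj L) :=
  ⟨isAmple_of_iso ((Scheme.Modules.pullbackComp τ σ).app L),
    isAmple_of_iso ((Scheme.Modules.pullbackComp τ σ).app L).symm⟩

theorem isAmple_pullback_congr {Z : Scheme.{u}} {σ σ' : Z ⟶ X} (h : σ = σ')
    (hA : CohB1.IsAmple ((Scheme.Modules.pullback σ).obj L)) :
    CohB1.IsAmple ((Scheme.Modules.pullback σ').obj L) := h ▸ hA

/-- Ampleness is local for covers by the loci of functions. -/
theorem isAmple_of_basicOpen_cover [CompactSpace X] (hL : PicF.IsInvertible L) {ι : Type*} (r : ι → Γ(X, ⊤))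
    (hcov : ∀ x : X, ∃ i, x ∈ X.basicOpen (r i))
    (h : ∀ i, CohB1.IsAmple ((Scheme.Modules.pullback (X.basicOpen (r i)).ι).obj L)) : CohB1.IsAmple L := by
  have : QuasiSeparatedSpace X := by
    rw [quasiSeparatedSpace_iff_forall_affineOpens]
    intro A B
    obtain ⟨t, ht⟩ := isCompact_univ.elim_finite_subcover (fun i => (X.basicOpen (r i) : Set X))
      (fun i => (X.basicOpen (r i)).2) fun x _ => Set.mem_iUnion.2 (hcov x)
    have heq : (A.1 ∩ B.1 : Set X) = ⋃ i ∈ t, (X.basicOpen (r i)).ι ''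
        (((X.basicOpen (r i)).ι ⁻¹ᵁ A.1 : Set (X.basicOpen (r i) : Scheme.{u})) ∩ (X.basicOpen (r i)).ι ⁻¹ᵁ B.1) := by
      ext z
      simp only [Set.mem_iUnion, Set.mem_inter_iff, Set.mem_image]
      constructor
      · intro hz
        obtain ⟨i, hi, hzi⟩ := Set.mem_iUnion₂.1 (ht (Set.mem_univ z))
        exact ⟨i, hi, ⟨z, hzi⟩, hz, rfl⟩
      · rintro ⟨i, _, w, hw, rfl⟩
        exact hw
    rw [heq]
    refine t.isCompact_biUnion fun i _ => IsCompact.image ?_ (X.basicOpen (r i)).ι.continuous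
    obtain ⟨hi, hc, h'⟩ := isAmple_iff_affGlocus.1 (h i)
    have := quasiSeparatedSpace_of_affGlocus hi h'
    exact QuasiSeparatedSpace.inter_isCompact _ _ ((X.basicOpen (r i)).ι ⁻¹ᵁ A.1).2
      (A.2.preimage (X.basicOpen (r i)).ι).isCompact ((X.basicOpen (r i)).ι ⁻¹ᵁ B.1).2
      (B.2.preimage (X.basicOpen (r i)).ι).isCompact
  refine isAmple_iff_affGlocus.2 ⟨hL, inferInstance, fun x => ?_⟩
  obtain ⟨i, hxi⟩ := hcov x
  let D := X.basicOpen (r i)
  obtain ⟨m, hm, b, hxb, -, hba⟩ := (isAmple_iff_affGlocus.1 (h i)).2.2 ⟨x, hxi⟩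
  have hP := isInvertible_tensorPow hL m
  obtain ⟨e, he⟩ := exists_pullPowIso D.ι hL m
  let b' : Γ((Scheme.Modules.pullback D.ι).obj (CohB1.tensorPow L m), ⊤) := e.inv.app ⊤ b
  have hb' : glocus _ b' = glocus _ b := glocus_map_iso e.symm b
  let s : Γ(Coh.structureModule X, ⊤) := r i
  have hs : glocus (Coh.structureModule X) s = D := glocus_structureModule (r i)
  obtain ⟨c, hc⟩ : ∃ c : Γ(CohB1.tensorPow L m, glocus (Coh.structureModule X) s),
      resM _ (show (⊤ : D.toScheme.Opens) ≤ D.ι ⁻¹ᵁ glocus (Coh.structureModule X) s from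
        fun z _ => hs.ge z.2) (pullSec D.ι c) = b' := by
    obtain ⟨c, hc⟩ := (bijective_pullSec_opensRange D.ι hP _ (hs.le.trans (Scheme.Opens.opensRange_ι D).ge)).2
      (resM _ (le_top : D.ι ⁻¹ᵁ glocus (Coh.structureModule X) s ≤ ⊤) b')
    exact ⟨c, by rw [hc, resM_resM, resM_self]⟩
  have := isQCoh_of_isInvertible hP
  obtain ⟨n, t, ht⟩ := exists_extend (CohB1.tensorPow L m) s isInvertible_structureModule c
  have hO := isInvertible_tensorPow (isInvertible_structureModule (X := X)) n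
  let d := r i • t
  have hd : glocus _ d = D.ι ''ᵁ glocus _ b' := by
    rw [glocus_smul_eq (isInvertible_tensorMod hP hO)]
    -- compare inside `D`
    refine Opens.ext (Set.ext fun z => ?_)
    constructor
    · rintro ⟨hz, hzD⟩
      refine ⟨⟨z, hzD⟩, ?_, rfl⟩
      obtain ⟨W, hzW, g, hg⟩ := exists_isGen hP z
      let T := W ⊓ glocus (Coh.structureModule X) s
      have hzT : z ∈ T := ⟨hzW, hs.ge hzD⟩
      have hgT := hg.restrict (inf_le_left : T ≤ W)
      have h2 := isGen_tmul hgT (isGen_powSec ((isGen_glocus s).restrict (inf_le_right : T ≤ _)) n)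
      have h3 : resM _ (le_top : T ≤ ⊤) t = hgT.coef le_rfl (resM _ inf_le_right c) •
          tmul (resM _ inf_le_left g) (powSec (resM _ inf_le_right (resM _ le_top s)) n) := by
        rw [← resM_resM _ (le_top : glocus (Coh.structureModule X) s ≤ ⊤) (inf_le_right : T ≤ _), ht,
          resM_tmul, resM_powSec, ← tmul_smul_left]
        have := hgT.coef_spec le_rfl (resM _ inf_le_right c)
        rw [resM_self] at this
        rw [this]
      have h4 := glocus_inf t h2
      have h5 : h2.coef le_rfl (resM _ (le_top : T ≤ ⊤) t) = hgT.coef le_rfl (resM _ inf_le_right c) :=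
        h2.coef_eq _ (by rw [resM_self]; exact h3.symm)
      have hu : z ∈ X.basicOpen (hgT.coef le_rfl (resM _ (inf_le_right : T ≤ _) c)) := h5 ▸ h4.le ⟨hz, hzT⟩
      -- pull the coordinate back to `D`
      have hg' := isGen_pullSec D.ι hgT hP
      have h6 := glocus_inf b' hg'
      have h7 : hg'.coef le_rfl (resM _ (le_top : D.ι ⁻¹ᵁ T ≤ ⊤) b') =
          D.ι.app T (hgT.coef le_rfl (resM _ (inf_le_right : T ≤ _) c)) := by
        refine hg'.coef_eq _ ?_
        rw [resM_self, ← pullSec_smul]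
        have := hgT.coef_spec le_rfl (resM _ inf_le_right c)
        rw [resM_self] at this
        rw [this, ← resM_pullSec D.ι (inf_le_right : T ≤ glocus (Coh.structureModule X) s) c, ← hc, resM_resM]
      rw [h7, ← Scheme.preimage_basicOpen] at h6
      exact (h6.ge (show (⟨z, hzD⟩ : D.toScheme) ∈ D.ι ⁻¹ᵁ X.basicOpen _ from hu)).1
    · rintro ⟨w, hw, rfl⟩
      refine ⟨?_, w.2⟩
      obtain ⟨W, hzW, g, hg⟩ := exists_isGen hP (D.ι w)
      let T := W ⊓ glocus (Coh.structureModule X) s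
      have hzT : D.ι w ∈ T := ⟨hzW, hs.ge w.2⟩
      have hgT := hg.restrict (inf_le_left : T ≤ W)
      have hg' := isGen_pullSec D.ι hgT hP
      have h6 := glocus_inf b' hg'
      have h7 : hg'.coef le_rfl (resM _ (le_top : D.ι ⁻¹ᵁ T ≤ ⊤) b') =
          D.ι.app T (hgT.coef le_rfl (resM _ (inf_le_right : T ≤ _) c)) := by
        refine hg'.coef_eq _ ?_
        rw [resM_self, ← pullSec_smul]
        have := hgT.coef_spec le_rfl (resM _ inf_le_right c)
        rw [resM_self] at this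
        rw [this, ← resM_pullSec D.ι (inf_le_right : T ≤ glocus (Coh.structureModule X) s) c, ← hc, resM_resM]
      rw [h7, ← Scheme.preimage_basicOpen] at h6
      have hu : D.ι w ∈ X.basicOpen (hgT.coef le_rfl (resM _ (inf_le_right : T ≤ _) c)) := h6.le ⟨hw, hzT⟩
      have h2 := isGen_tmul hgT (isGen_powSec ((isGen_glocus s).restrict (inf_le_right : T ≤ _)) n)
      have h5 : h2.coef le_rfl (resM _ (le_top : T ≤ ⊤) t) = hgT.coef le_rfl (resM _ inf_le_right c) := by
        refine h2.coef_eq _ ?_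
        rw [resM_self, ← resM_resM _ (le_top : glocus (Coh.structureModule X) s ≤ ⊤) (inf_le_right : T ≤ _), ht,
          resM_tmul, resM_powSec, ← tmul_smul_left]
        have := hgT.coef_spec le_rfl (resM _ inf_le_right c)
        rw [resM_self] at this
        rw [this]
      exact ((glocus_inf t h2).ge (h5.symm ▸ hu)).1
  obtain ⟨e₀⟩ := exists_structurePowIso (X := X) n
  let e' : CohB1.tensorMod (CohB1.tensorPow L m) (CohB1.tensorPow (Coh.structureModule X) n) ≅ CohB1.tensorPow L m :=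
    tensorIso (Iso.refl _) e₀ ≪≫ tensorComm _ _ ≪≫ unitTensorIso _
  refine ⟨m, hm, e'.hom.app ⊤ d, ?_, le_top, ?_⟩
  · rw [glocus_map_iso, hd]
    exact ⟨⟨x, hxi⟩, hb'.ge hxb, rfl⟩
  · rw [glocus_map_iso, hd, hb']
    exact hba.image_of_isOpenImmersion _

variable {Y : Scheme.{u}} (f : X ⟶ Y)

theorem isRelAmple_iff : RelAmple.IsRelAmple f L ↔ QuasiCompact f ∧
    ∀ V : Y.affineOpens, CohB1.IsAmple ((Scheme.Modules.pullback (f ⁻¹ᵁ V.1).ι).obj L) :=
  and_congr_right fun _ => forall_congr' fun _ => isAmple_restrict_iff _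

theorem isInvertible_of_isRelAmple (h : RelAmple.IsRelAmple f L) : PicF.IsInvertible L := by
  rw [isRelAmple_iff] at h
  refine isInvertible_of_gens fun x => ?_
  obtain ⟨V, hV, hxV, -⟩ := exists_isAffineOpen_mem_and_subset (x := f x) (U := ⊤) trivial
  have hinv : PicF.IsInvertible (L.restrict (f ⁻¹ᵁ V).ι) :=
    glocus_isInvertible_of_iso (restrictIsoPullback _ L).symm (h.2 ⟨V, hV⟩).1
  obtain ⟨W, hxW, s, hs⟩ := exists_isGen hinv ⟨x, hxV⟩
  refine ⟨(f ⁻¹ᵁ V).ι ''ᵁ W, ⟨⟨x, hxV⟩, hxW, rfl⟩, (L.restrictAppIso (f ⁻¹ᵁ V).ι W).hom s, fun T hT => ?_⟩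
  obtain ⟨T', rfl⟩ : ∃ T', (f ⁻¹ᵁ V).ι ''ᵁ T' = T := ⟨(f ⁻¹ᵁ V).ι ⁻¹ᵁ T, by
    rw [(f ⁻¹ᵁ V).ι.image_preimage_eq_opensRange_inf, inf_eq_right]
    exact hT.trans ((f ⁻¹ᵁ V).ι.image_le_opensRange W)⟩
  have hT' : T' ≤ W := by
    intro z hz
    obtain ⟨w, hw, he⟩ := hT ⟨z, hz, rfl⟩
    exact (Subtype.ext he : w = z) ▸ hw
  have hb := (ConcreteCategory.bijective_of_isIso (L.restrictAppIso (f ⁻¹ᵁ V).ι T').hom).comp
    ((hs T' hT').comp (ConcreteCategory.bijective_of_isIso ((f ⁻¹ᵁ V).ι.appIso T').hom))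
  convert hb using 1
  funext r
  refine Eq.trans ?_ (Scheme.Modules.smul_restrictAppIso_hom_apply _ L T' _ _).symm
  rw [← ConcreteCategory.comp_apply ((f ⁻¹ᵁ V).ι.appIso T').hom, Iso.hom_inv_id]
  rfl

/-- It suffices to test relative ampleness on an affine open cover of the base. -/
theorem isRelAmple_of_affine_cover [QuasiCompact f] (hL : PicF.IsInvertible L)
    (hcov : ∀ y : Y, ∃ V : Y.affineOpens, y ∈ V.1 ∧ CohB1.IsAmple ((Scheme.Modules.pullback (f ⁻¹ᵁ V.1).ι).obj L)) :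
    RelAmple.IsRelAmple f L := by
  rw [isRelAmple_iff]
  refine ⟨inferInstance, fun V => ?_⟩
  have hV := V.2
  have : CompactSpace (f ⁻¹ᵁ V.1 : Scheme.{u}) :=
    isCompact_iff_compactSpace.1 (QuasiCompact.isCompact_preimage _ V.1.2 hV.isCompact)
  choose W hyW hW using hcov
  have h : ∀ y : V.1, ∃ r : Γ(Y, V.1), y.1 ∈ Y.basicOpen r ∧ ∃ r' : Γ(Y, (W y.1).1), Y.basicOpen r = Y.basicOpen r' := fun y => by
    obtain ⟨r, r', he, hy⟩ := exists_basicOpen_le_affine_inter hV (W y.1).2 y.1 ⟨y.2, hyW y.1⟩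
    exact ⟨r, hy, r', he⟩
  choose r hr r' hrr' using h
  let P := (f ⁻¹ᵁ V.1)
  let R : V.1 → Γ(P.toScheme, ⊤) := fun y => P.topIso.inv (f.app V.1 (r y))
  have hR : ∀ y, P.ι ''ᵁ (P.toScheme.basicOpen (R y)) = f ⁻¹ᵁ Y.basicOpen (r y) := fun y => by
    rw [Scheme.preimage_basicOpen, Scheme.image_basicOpen]
    simp only [R, Scheme.Opens.topIso_inv, Scheme.Opens.ι_appIso, Iso.refl_inv]
    rw [← Scheme.basicOpen_res_eq X (f.app V.1 (r y)) (eqToHom (Scheme.Opens.ι_image_top P)).op]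
    rfl
  refine isAmple_of_basicOpen_cover (PicLoc.isInvertible_pullback _ hL) R (fun z => ?_) fun y => ?_
  · refine ⟨⟨f (P.ι z), z.2⟩, ?_⟩
    have : P.ι z ∈ f ⁻¹ᵁ Y.basicOpen (r ⟨f (P.ι z), z.2⟩) := hr ⟨f (P.ι z), z.2⟩
    rw [← hR] at this
    obtain ⟨w, hw, he⟩ := this
    exact (Subtype.ext he : w = z) ▸ hw
  · rw [isAmple_pullback_comp_iff]
    let Q := f ⁻¹ᵁ (W y.1).1
    have hle : P.ι ''ᵁ (P.toScheme.basicOpen (R y)) ≤ Q := by
      rw [hR, hrr' y]
      exact fun z hz => Y.basicOpen_le _ hz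
    have hrange : Set.range ((P.toScheme.basicOpen (R y)).ι ≫ P.ι) ⊆ Set.range Q.ι := by
      rintro _ ⟨w, rfl⟩
      rw [Scheme.Opens.range_ι]
      exact hle ⟨w.1, w.2, rfl⟩
    let σ := IsOpenImmersion.lift Q.ι _ hrange
    refine isAmple_pullback_congr (IsOpenImmersion.lift_fac Q.ι _ hrange) ?_
    rw [← isAmple_pullback_comp_iff]
    have : CompactSpace (P.toScheme.basicOpen (R y) : Scheme.{u}) := by
      refine isCompact_iff_compactSpace.1 (P.ι.isOpenEmbedding.isInducing.isCompact_iff.2 ?_)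
      show IsCompact ((P.ι ''ᵁ P.toScheme.basicOpen (R y) : X.Opens) : Set X)
      rw [hR]
      exact QuasiCompact.isCompact_preimage _ (Y.basicOpen (r y)).2 (hV.basicOpen _).isCompact
    have : IsOpenImmersion (σ ≫ Q.ι) := (IsOpenImmersion.lift_fac Q.ι _ hrange).symm ▸ inferInstance
    have : IsOpenImmersion σ := IsOpenImmersion.of_comp σ Q.ι
    exact isAmple_pullback_of_isOpenImmersion σ (hW y.1)

end Groth.Agent.AmpleLib
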