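import Groth.Agent.AmpleLib.Local
import Groth.Prelude.Def_Mor2

/-!
# Permanence properties of relative ampleness
-/

set_option autoImplicit false
set_option backward.isDefEq.respectTransparency.types false

universe u

open CategoryTheory CategoryTheory.Limits AlgebraicGeometry Opposite TopologicalSpace
open Groth.Agent.Coherent Groth.Agent.PicLib

namespace Groth.Agent.AmpleLib

variable {X Y : Scheme.{u}} {L M : X.Modules} {U : X.Opens}

/-- Pullback commutes with tensor products of invertible modules. -/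
theorem exists_pullTensorIso {Z : Scheme.{u}} (σ : Z ⟶ X) (hL : PicF.IsInvertible L) (hM : PicF.IsInvertible M) :
    Nonempty ((Scheme.Modules.pullback σ).obj (CohB1.tensorMod L M) ≅
      CohB1.tensorMod ((Scheme.Modules.pullback σ).obj L) ((Scheme.Modules.pullback σ).obj M)) := by
  have key : ∀ x : X, ∃ W : X.Opens, x ∈ W ∧ (∃ g : Γ(L, W), IsGen L W g) ∧ ∃ h : Γ(M, W), IsGen M W h := fun x => by
    obtain ⟨W₁, hx₁, g₁, hg₁⟩ := exists_isGen hL x
    obtain ⟨W₂, hx₂, g₂, hg₂⟩ := exists_isGen hM x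
    exact ⟨W₁ ⊓ W₂, ⟨hx₁, hx₂⟩, ⟨_, hg₁.restrict inf_le_left⟩, ⟨_, hg₂.restrict inf_le_right⟩⟩
  choose W hmem g' h' using key
  choose g hg using g'
  choose h hh using h'
  have hcov : (⨆ x : ULift.{u} X, σ ⁻¹ᵁ W x.down) = ⊤ :=
    top_le_iff.1 fun z _ => Opens.mem_iSup.2 ⟨⟨σ z⟩, hmem (σ z)⟩
  obtain ⟨e, -⟩ := exists_iso_of_gens (fun x : ULift.{u} X => σ ⁻¹ᵁ W x.down) hcov
    (fun x => pullSec σ (tmul (g x.down) (h x.down)))
    (fun x => isGen_pullSec σ (isGen_tmul (hg _) (hh _)) (isInvertible_tensorMod hL hM))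
    (fun x => tmul (pullSec σ (g x.down)) (pullSec σ (h x.down)))
    (fun x => isGen_tmul (isGen_pullSec σ (hg _) hL) (isGen_pullSec σ (hh _) hM)) (by
      intro i j V hi hj c hc
      let T := W i.down ⊓ W j.down
      have hTi : T ≤ W i.down := inf_le_left
      have hTj : T ≤ W j.down := inf_le_right
      have hVT : V ≤ σ ⁻¹ᵁ T := fun w hw => ⟨hi hw, hj hw⟩
      obtain ⟨a, ha⟩ : ∃ a : Γ(X, T), a • resM L hTj (g j.down) = resM L hTi (g i.down) := (hg j.down T hTj).2 _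
      obtain ⟨b, hb⟩ : ∃ b : Γ(X, T), b • resM M hTj (h j.down) = resM M hTi (h i.down) := (hh j.down T hTj).2 _
      have e1 : resM _ hi (pullSec σ (tmul (g i.down) (h i.down))) = res hVT (σ.app T (a * b)) •
          resM _ hj (pullSec σ (tmul (g j.down) (h j.down))) := by
        rw [← resM_resM _ ((Opens.map σ.base).map (homOfLE hTi)).le hVT,
          resM_pullSec σ hTi, resM_tmul, ← ha, ← hb, tmul_smul_left, tmul_smul_right, ← mul_smul, pullSec_smul,
          resM_smul, ← resM_tmul, ← resM_pullSec, resM_resM]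
      have hinj := ((isGen_pullSec σ (isGen_tmul (hg j.down) (hh j.down)) (isInvertible_tensorMod hL hM)) V hj).1
      have hcd : c = res hVT (σ.app T (a * b)) := hinj (hc.symm.trans e1)
      rw [hcd, resM_tmul, resM_tmul, ← resM_resM _ ((Opens.map σ.base).map (homOfLE hTi)).le hVT (pullSec σ (g i.down)),
        ← resM_resM _ ((Opens.map σ.base).map (homOfLE hTi)).le hVT (pullSec σ (h i.down)),
        resM_pullSec σ hTi, resM_pullSec σ hTi, ← ha, ← hb, pullSec_smul, pullSec_smul, resM_smul, resM_smul,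
        tmul_smul_left, tmul_smul_right, ← mul_smul, map_mul, map_mul, ← resM_pullSec, ← resM_pullSec,
        resM_resM, resM_resM])
  exact ⟨e⟩

/-- The pullback of the structure module is the structure module. -/
theorem exists_pullStructureIso {Z : Scheme.{u}} (σ : Z ⟶ X) :
    Nonempty ((Scheme.Modules.pullback σ).obj (Coh.structureModule X) ≅ Coh.structureModule Z) := by
  have hgen : IsGen ((Scheme.Modules.pullback σ).obj (Coh.structureModule X)) (σ ⁻¹ᵁ ⊤)
      (pullSec σ (oneSec (⊤ : X.Opens))) := isGen_pullSec σ (isGen_oneSec ⊤) isInvertible_structureModule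
  obtain ⟨e, -⟩ := exists_iso_of_gens (fun _ : PUnit.{u + 1} => σ ⁻¹ᵁ (⊤ : X.Opens)) ciSup_const
    (fun _ => pullSec σ (oneSec (⊤ : X.Opens))) (fun _ => hgen)
    (fun _ => oneSec (σ ⁻¹ᵁ ⊤)) (fun _ => isGen_oneSec _) (by
      intro i j V hi hj c hc
      have := (hgen V hi).1 (a₁ := 1) (a₂ := c) (by simpa only [one_smul] using hc)
      rw [← this, one_smul])
  exact ⟨e⟩

/-- Ampleness on a compact space from sections with affine loci. -/
theorem isAmple_tensor_of_joint [CompactSpace X] (hL : PicF.IsInvertible L) (hM : PicF.IsInvertible M)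
    (h : ∀ x : X, ∃ m : ℕ, 0 < m ∧ ∃ n : ℕ, 0 < n ∧ ∃ a : Γ(CohB1.tensorPow L m, ⊤),
      ∃ c : Γ(CohB1.tensorPow M n, ⊤), x ∈ glocus _ a ⊓ glocus _ c ∧ IsAffineOpen (glocus _ a ⊓ glocus _ c)) :
    CohB1.IsAmple (CohB1.tensorMod L M) := by
  refine isAmple_iff_affGlocus.2 ⟨isInvertible_tensorMod hL hM, inferInstance, fun x => ?_⟩
  obtain ⟨m, hm, n, hn, a, c, hx, haff⟩ := h x
  obtain ⟨a', ha'⟩ := exists_glocus_pow hL m a n hn
  obtain ⟨c', hc'⟩ := exists_glocus_pow hM n c m hm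
  have key : ∀ k, k = m * n → ∃ c'' : Γ(CohB1.tensorPow M k, ⊤), glocus _ c'' = glocus _ c := by
    intro k hk
    obtain rfl : k = n * m := hk.trans (mul_comm m n)
    exact ⟨c', hc'⟩
  obtain ⟨c'', hc''⟩ := key _ rfl
  obtain ⟨e, -⟩ := exists_powTensorIso hL hM (m * n)
  have hd : glocus _ (e.inv.app ⊤ (tmul a' c'')) = glocus _ a ⊓ glocus _ c := by
    refine (glocus_map_iso e.symm (tmul a' c'')).trans ?_
    rw [glocus_tmul (isInvertible_tensorPow hL _) (isInvertible_tensorPow hM _), ha', hc'']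
  exact ⟨m * n, Nat.mul_pos hm hn, e.inv.app ⊤ (tmul a' c''), hd ▸ hx, le_top, hd ▸ haff⟩

/-- A quasi-affine locus of a section gives affine loci. -/
theorem affGlocus_of_isQuasiAffine_glocus [CompactSpace X] [QuasiSeparatedSpace X] (hL : PicF.IsInvertible L)
    {m : ℕ} (hm : 0 < m) (a : Γ(CohB1.tensorPow L m, ⊤)) [(glocus _ a : Scheme.{u}).IsQuasiAffine]
    {x : X} (hx : x ∈ glocus _ a) : AffGlocus L x ⊤ := by
  let A := glocus _ a
  have hP := isInvertible_tensorPow hL m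
  obtain ⟨_, ⟨r, hr, rfl⟩, hxr, -⟩ := Opens.isBasis_iff_nbhd.1
    (Scheme.IsQuasiAffine.isBasis_basicOpen A.toScheme) (show (⟨x, hx⟩ : A) ∈ (⊤ : A.toScheme.Opens) from trivial)
  let f : Γ(X, A) := A.topIso.hom r
  have hf : A.ι ''ᵁ A.toScheme.basicOpen r = X.basicOpen f := by
    rw [Scheme.image_basicOpen]
    simp only [f, Scheme.Opens.topIso_hom, Scheme.Opens.ι_appIso, Iso.refl_inv]
    exact ((Scheme.basicOpen_res_eq X _ (eqToHom (Scheme.Opens.ι_image_top A).symm).op).trans rfl).symm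
  have hfaff : IsAffineOpen (X.basicOpen f) := hf ▸ hr.image_of_isOpenImmersion A.ι
  have hxf : x ∈ X.basicOpen f := hf ▸ ⟨⟨x, hx⟩, hxr, rfl⟩
  obtain ⟨n, t, ht⟩ := exists_extend_pow a hP f
  let g := powSec (resM (CohB1.tensorPow L m) (le_top : A ≤ ⊤) a) n
  have hg : IsGen _ A g := isGen_powSec (isGen_glocus a) n
  have htA : glocus _ t ⊓ A = X.basicOpen f := by
    rw [glocus_inf t hg]
    congr 1
    exact IsGen.coef_eq _ _ (by rw [resM_self]; exact ht.symm)
  obtain ⟨e, -⟩ := exists_powPowIso hL m (n + 1)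
  let d : Γ(CohB1.tensorPow (CohB1.tensorPow L m) (n + 1), ⊤) := tmul t a
  have hd : glocus _ d = X.basicOpen f :=
    (glocus_tmul (isInvertible_tensorPow hP n) hP t a).trans htA
  refine ⟨m * (n + 1), Nat.mul_pos hm n.succ_pos, e.hom.app ⊤ d, ?_, le_top, ?_⟩
  · rw [glocus_map_iso, hd]; exact hxf
  · rw [glocus_map_iso, hd]; exact hfaff

/-- Pullback along a quasi-affine morphism. -/
theorem isAmple_pullback_of_isQuasiAffine {Z : Scheme.{u}} (σ : Z ⟶ X) (hσ : Mor2.IsQuasiAffine σ)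
    (h : CohB1.IsAmple L) : CohB1.IsAmple ((Scheme.Modules.pullback σ).obj L) := by
  obtain ⟨hL, hc, h'⟩ := isAmple_iff_affGlocus.1 h
  have := hσ.1
  have := quasiSeparatedSpace_of_affGlocus hL h'
  have : QuasiSeparated σ := (HasAffineProperty.iff_of_iSup_eq_top
    (P := @QuasiSeparated) (fun U : X.affineOpens => U) (iSup_affineOpens_eq_top X)).2 fun U => by
      have := hσ.2 U.1 U.2
      infer_instance
  have : CompactSpace Z := QuasiCompact.compactSpace_of_compactSpace σ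
  have : QuasiSeparatedSpace Z := quasiSeparatedSpace_of_quasiSeparated σ
  refine isAmple_iff_affGlocus.2 ⟨PicLoc.isInvertible_pullback σ hL, inferInstance, fun z => ?_⟩
  obtain ⟨m, hm, b, hx, -, ha⟩ := h' (σ z)
  obtain ⟨e, -⟩ := exists_pullPowIso σ hL m
  have hd : glocus _ (e.hom.app ⊤ (pullSec σ b)) = σ ⁻¹ᵁ glocus _ b := by
    rw [glocus_map_iso, glocus_pullSec σ (isInvertible_tensorPow hL m)]
  have : (glocus _ (e.hom.app ⊤ (pullSec σ b)) : Scheme.{u}).IsQuasiAffine := by rw [hd]; exact hσ.2 _ ha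
  exact affGlocus_of_isQuasiAffine_glocus (PicLoc.isInvertible_pullback σ hL) hm _ (hd.ge hx)

/-- Pullback along a quasi-compact topological embedding. -/
theorem isAmple_pullback_of_isEmbedding {Z : Scheme.{u}} (σ : Z ⟶ X) [CompactSpace Z]
    (hσ : Topology.IsEmbedding σ.base) (h : CohB1.IsAmple L) :
    CohB1.IsAmple ((Scheme.Modules.pullback σ).obj L) := by
  have hL := h.1
  have hL' := PicLoc.isInvertible_pullback σ hL
  refine isAmple_iff_affGlocus.2 ⟨hL', inferInstance, fun z => ?_⟩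
  obtain ⟨W, hW, hzW, -⟩ := exists_isAffineOpen_mem_and_subset (x := z) (U := ⊤) trivial
  obtain ⟨s, hs, hsW⟩ := hσ.isInducing.isOpen_iff.1 W.2
  let O : X.Opens := ⟨s, hs⟩
  obtain ⟨m, hm, b, hx, hbO, -⟩ := affGlocus_of_mem (x := σ z) (U := O) h (by
    show σ z ∈ s
    rw [← Set.mem_preimage]
    exact hsW.symm.subset hzW)
  obtain ⟨e, -⟩ := exists_pullPowIso σ hL m
  have hd : glocus _ (e.hom.app ⊤ (pullSec σ b)) = σ ⁻¹ᵁ glocus _ b := by
    rw [glocus_map_iso, glocus_pullSec σ (isInvertible_tensorPow hL m)]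
  have hle : glocus _ (e.hom.app ⊤ (pullSec σ b)) ≤ W := fun w hw => hsW.subset (hbO (hd.le hw))
  refine ⟨m, hm, e.hom.app ⊤ (pullSec σ b), hd.ge hx, le_top, ?_⟩
  rw [← inf_eq_left.2 hle]
  exact isAffineOpen_glocus_inf (isInvertible_tensorPow hL' m) _ hW

/-- Ampleness over an open passes to compact subschemes topologically embedded in it. -/
theorem isAmple_pullback_of_range_subset {Z : Scheme.{u}} [CompactSpace Z] (σ : Z ⟶ X)
    (hσ : Topology.IsEmbedding σ.base) (P : X.Opens) (hP : Set.range σ ⊆ P)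
    (h : CohB1.IsAmple ((Scheme.Modules.pullback P.ι).obj L)) :
    CohB1.IsAmple ((Scheme.Modules.pullback σ).obj L) := by
  have hr : Set.range σ ⊆ Set.range P.ι := by rwa [Scheme.Opens.range_ι]
  let τ := IsOpenImmersion.lift P.ι σ hr
  refine isAmple_pullback_congr (IsOpenImmersion.lift_fac P.ι σ hr) ?_
  rw [← isAmple_pullback_comp_iff]
  refine isAmple_pullback_of_isEmbedding τ ?_ h
  refine Topology.IsEmbedding.of_comp τ.base.hom.continuous P.ι.base.hom.continuous ?_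
  have := hσ
  rw [← IsOpenImmersion.lift_fac P.ι σ hr] at this
  exact this

theorem isAmple_pullback_opens_mono {P Q : X.Opens} (hle : Q ≤ P) (hQ : IsCompact (Q : Set X))
    (h : CohB1.IsAmple ((Scheme.Modules.pullback P.ι).obj L)) :
    CohB1.IsAmple ((Scheme.Modules.pullback Q.ι).obj L) := by
  have : CompactSpace (Q : Scheme.{u}) := isCompact_iff_compactSpace.1 hQ
  exact isAmple_pullback_of_range_subset Q.ι Q.ι.isOpenEmbedding.isEmbedding P
    (by rw [Scheme.Opens.range_ι]; exact hle) h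

/-- Intersections of preimages of affine opens in a fibre product over an affine open. -/
theorem isAffineOpen_fst_inf_snd {S X₁ X₂ : Scheme.{u}} (f : X₁ ⟶ S) (g : X₂ ⟶ S) {V : S.Opens}
    (hV : IsAffineOpen V) {A : X₁.Opens} {B : X₂.Opens} (hA : IsAffineOpen A) (hB : IsAffineOpen B)
    (hAV : A ≤ f ⁻¹ᵁ V) (hBV : B ≤ g ⁻¹ᵁ V) :
    IsAffineOpen (pullback.fst f g ⁻¹ᵁ A ⊓ pullback.snd f g ⁻¹ᵁ B) := by
  have : IsAffine (V : Scheme.{u}) := hV
  have : IsAffine (A : Scheme.{u}) := hA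
  have : IsAffine (B : Scheme.{u}) := hB
  let j := pullback.map (f.resLE V A hAV) (g.resLE V B hBV) f g A.ι B.ι V.ι
    (Scheme.Hom.resLE_comp_ι f hAV) (Scheme.Hom.resLE_comp_ι g hBV)
  have hj : j.opensRange = pullback.fst f g ⁻¹ᵁ A ⊓ pullback.snd f g ⁻¹ᵁ B := by
    refine Opens.ext ?_
    show Set.range j = _
    rw [Scheme.Pullback.range_map, Scheme.Opens.range_ι, Scheme.Opens.range_ι]
    rfl
  exact hj ▸ isAffineOpen_opensRange j

/-- Restrictions of quasi-affine morphisms are quasi-affine. -/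
theorem isQuasiAffine_morphismRestrict (g : X ⟶ Y) (hg : Mor2.IsQuasiAffine g) (U : Y.Opens) :
    Mor2.IsQuasiAffine (g ∣_ U) := by
  have := hg.1
  refine ⟨IsZariskiLocalAtTarget.restrict hg.1 U, fun V hV => ?_⟩
  have := hg.2 _ (hV.image_of_isOpenImmersion U.ι)
  let e : ((g ∣_ U) ⁻¹ᵁ V : Scheme.{u}) ≅ (g ⁻¹ᵁ (U.ι ''ᵁ V) : Scheme.{u}) :=
    (g ⁻¹ᵁ U).ι.isoImage _ ≪≫ Scheme.isoOfEq _ (image_morphismRestrict_preimage g U V)
  have : CompactSpace ((g ∣_ U) ⁻¹ᵁ V : Scheme.{u}) := e.inv.homeomorph.compactSpace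
  exact Scheme.IsQuasiAffine.of_isImmersion e.hom

/-- Pullback of a relatively ample module. -/
theorem isRelAmple_pullback {X' : Scheme.{u}} (f : X ⟶ Y) (g : X' ⟶ X) [QuasiCompact g]
    (hg : ∀ (U : X.Opens) (M : (U : Scheme.{u}).Modules), CompactSpace (g ⁻¹ᵁ U : Scheme.{u}) → CohB1.IsAmple M →
      CohB1.IsAmple ((Scheme.Modules.pullback (g ∣_ U)).obj M))
    (hL : RelAmple.IsRelAmple f L) :
    RelAmple.IsRelAmple (g ≫ f) ((Scheme.Modules.pullback g).obj L) := by
  rw [isRelAmple_iff] at hL ⊢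
  obtain ⟨_, hV⟩ := hL
  refine ⟨inferInstance, fun V => ?_⟩
  have hc : CompactSpace (g ⁻¹ᵁ (f ⁻¹ᵁ V.1) : Scheme.{u}) :=
    isCompact_iff_compactSpace.1 (QuasiCompact.isCompact_preimage (f := g) _ (f ⁻¹ᵁ V.1).2
      (QuasiCompact.isCompact_preimage (f := f) _ V.1.2 V.2.isCompact))
  have h := hg _ _ hc (hV V)
  rw [isAmple_pullback_comp_iff] at h
  show CohB1.IsAmple ((Scheme.Modules.pullback (g ⁻¹ᵁ (f ⁻¹ᵁ V.1)).ι).obj _)
  rw [isAmple_pullback_comp_iff]
  exact isAmple_pullback_congr (morphismRestrict_ι g _) h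

end Groth.Agent.AmpleLib
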