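import Groth.Agent.PicLib.PullbackGen
import Groth.Agent.ModStalk.Tensor
import Groth.Prelude.Def_CohB1

/-!
# Tensor products of modules on a scheme through sections

`tmul a b` is the image of `a ⊗ b` in the sheafified tensor product.
-/

set_option autoImplicit false
set_option backward.isDefEq.respectTransparency.types false

universe u

open CategoryTheory CategoryTheory.Limits AlgebraicGeometry Opposite TopologicalSpace MonoidalCategory
open Groth.Agent.Coherent Groth.Agent.PicLib
open scoped TensorProduct

namespace Groth.Agent.AmpleLib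

variable {X : Scheme.{u}} (L M : X.Modules)

/-- The tensor product presheaf, as a presheaf of modules. -/
noncomputable abbrev preT : X.PresheafOfModules := CohB1.tensorPre L M

/-- The sheafification map. -/
noncomputable def unitT :
    preT L M ⟶ (PresheafOfModules.restrictScalars (𝟙 X.ringCatSheaf.obj)).obj (CohB1.tensorMod L M).val :=
  PresheafOfModules.sheafificationHomEquiv (𝟙 X.ringCatSheaf.obj) (𝟙 (CohB1.tensorMod L M))

variable {L M} {U V : X.Opens}

/-- The tensor product of two sections. -/
noncomputable def tmul (a : Γ(L, U)) (b : Γ(M, U)) : Γ(CohB1.tensorMod L M, U) :=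
  (unitT L M).app (op U) (ModStalk.secTmul (CohB1.toPMod L) (CohB1.toPMod M) a b)

theorem tmul_add_left (a a' : Γ(L, U)) (b : Γ(M, U)) : tmul (a + a') b = tmul a b + tmul a' b := by
  exact (congrArg ((unitT L M).app (op U)) (ModStalk.secTmul_add_left _ _ a a' b)).trans
    (map_add ((unitT L M).app (op U)).hom _ _)

theorem tmul_add_right (a : Γ(L, U)) (b b' : Γ(M, U)) : tmul a (b + b') = tmul a b + tmul a b' := by
  exact (congrArg ((unitT L M).app (op U)) (ModStalk.secTmul_add_right _ _ a b b')).trans
    (map_add ((unitT L M).app (op U)).hom _ _)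

theorem tmul_smul_left (r : Γ(X, U)) (a : Γ(L, U)) (b : Γ(M, U)) : tmul (r • a) b = r • tmul a b := by
  unfold tmul
  erw [ModStalk.secTmul_smul_left]
  exact map_smul ((unitT L M).app (op U)).hom r _

theorem tmul_smul_right (r : Γ(X, U)) (a : Γ(L, U)) (b : Γ(M, U)) : tmul a (r • b) = r • tmul a b := by
  unfold tmul
  erw [ModStalk.secTmul_smul_right]
  exact map_smul ((unitT L M).app (op U)).hom r _

theorem tmul_smul_smul (r r' : Γ(X, U)) (a : Γ(L, U)) (b : Γ(M, U)) :
    tmul (r • a) (r' • b) = (r * r') • tmul a b := by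
  rw [tmul_smul_left, tmul_smul_right, mul_smul]

theorem tmul_zero_left (b : Γ(M, U)) : tmul (0 : Γ(L, U)) b = 0 := by
  have h := tmul_add_left (0 : Γ(L, U)) 0 b
  rwa [add_zero, left_eq_add] at h

theorem resM_tmul (h : V ≤ U) (a : Γ(L, U)) (b : Γ(M, U)) :
    resM (CohB1.tensorMod L M) h (tmul a b) = tmul (resM L h a) (resM M h b) :=
  (PresheafOfModules.naturality_apply (unitT L M) (homOfLE h).op
    (ModStalk.secTmul (CohB1.toPMod L) (CohB1.toPMod M) a b)).symm

theorem homEquiv_apply {N : X.Modules} (φ : CohB1.tensorMod L M ⟶ N)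
    (z : (preT L M).obj (op U)) :
    (PresheafOfModules.sheafificationHomEquiv (𝟙 X.ringCatSheaf.obj) φ).app (op U) z =
      φ.app U ((unitT L M).app (op U) z) := rfl

theorem hom_ext {N : X.Modules} {φ ψ : CohB1.tensorMod L M ⟶ N}
    (h : ∀ (U : X.Opens) (a : Γ(L, U)) (b : Γ(M, U)), φ.app U (tmul a b) = ψ.app U (tmul a b)) : φ = ψ := by
  apply (PresheafOfModules.sheafificationHomEquiv (𝟙 X.ringCatSheaf.obj)).injective
  refine PresheafOfModules.hom_ext fun W => ModuleCat.MonoidalCategory.tensor_ext fun a b => ?_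
  exact h W.unop a b

/-- Data of a bilinear map. -/
structure Bilin (L M N : X.Modules) where
  /-- The map on sections. -/
  app : ∀ U : X.Opens, Γ(L, U) → Γ(M, U) → Γ(N, U)
  add_left : ∀ U a a' b, app U (a + a') b = app U a b + app U a' b
  add_right : ∀ U a b b', app U a (b + b') = app U a b + app U a b'
  smul_left : ∀ (U : X.Opens) (r : Γ(X, U)) a b, app U (r • a) b = r • app U a b
  smul_right : ∀ (U : X.Opens) (r : Γ(X, U)) a b, app U a (r • b) = r • app U a b
  res : ∀ (U V : X.Opens) (h : V ≤ U) a b, resM N h (app U a b) = app V (resM L h a) (resM M h b)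

/-- The presheaf map of a bilinear map. -/
noncomputable def Bilin.pre {N : X.Modules} (f : Bilin L M N) :
    preT L M ⟶ (PresheafOfModules.restrictScalars (𝟙 X.ringCatSheaf.obj)).obj N.val where
  app W := ModuleCat.MonoidalCategory.tensorLift (M₁ := (CohB1.toPMod L).obj W) (M₂ := (CohB1.toPMod M).obj W)
    (fun a b => f.app W.unop a b) (f.add_left W.unop) (f.smul_left W.unop) (f.add_right W.unop) (f.smul_right W.unop)
  naturality {U V} i := ModuleCat.MonoidalCategory.tensor_ext fun a b =>
    (f.res U.unop V.unop (leOfHom i.unop) a b).symm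

/-- The map out of a tensor product given by a bilinear map. -/
noncomputable def Bilin.desc {N : X.Modules} (f : Bilin L M N) : CohB1.tensorMod L M ⟶ N :=
  (PresheafOfModules.sheafificationHomEquiv (𝟙 X.ringCatSheaf.obj)).symm f.pre

theorem Bilin.desc_tmul {N : X.Modules} (f : Bilin L M N) (U : X.Opens) (a : Γ(L, U)) (b : Γ(M, U)) :
    f.desc.app U (tmul a b) = f.app U a b := by
  unfold tmul
  rw [← homEquiv_apply, Bilin.desc, Equiv.apply_symm_apply]
  rfl

/-- Sections of a tensor product are locally images of tensors. -/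
theorem exists_local_rep (z : Γ(CohB1.tensorMod L M, U)) (y : X) (hy : y ∈ U) :
    ∃ (W : X.Opens) (h : W ≤ U), y ∈ W ∧
      ∃ ξ : (preT L M).obj (op W), (unitT L M).app (op W) ξ = resM (CohB1.tensorMod L M) h z := by
  have hs : TopCat.Presheaf.IsLocallySurjective (X := X.toTopCat)
      (CategoryTheory.toSheafify (Opens.grothendieckTopology X) (preT L M).presheaf) :=
    inferInstanceAs (CategoryTheory.Presheaf.IsLocallySurjective (Opens.grothendieckTopology X)
      (CategoryTheory.toSheafify (Opens.grothendieckTopology X) (preT L M).presheaf))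
  obtain ⟨W, h, ⟨ξ, hξ⟩, hyW⟩ := (TopCat.Presheaf.isLocallySurjective_iff _).1 hs U z y hy
  exact ⟨W, h, hyW, ξ, hξ⟩

/-- Induction for local properties of sections of a tensor product. -/
theorem induction_local {P : ∀ U : X.Opens, Γ(CohB1.tensorMod L M, U) → Prop}
    (hadd : ∀ U z z', P U z → P U z' → P U (z + z'))
    (hzero : ∀ U, P U 0)
    (hloc : ∀ U z, (∀ y ∈ U, ∃ (W : X.Opens) (h : W ≤ U), y ∈ W ∧ P W (resM _ h z)) → P U z)
    (htmul : ∀ U a b, P U (tmul a b)) (U : X.Opens) (z : Γ(CohB1.tensorMod L M, U)) : P U z := by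
  refine hloc U z fun y hy => ?_
  obtain ⟨W, h, hyW, ξ, hξ⟩ := exists_local_rep z y hy
  refine ⟨W, h, hyW, hξ ▸ ?_⟩
  clear hξ
  induction ξ using TensorProduct.induction_on with
  | zero => exact (congrArg (P W) (map_zero ((unitT L M).app (op W)).hom)).mpr (hzero W)
  | tmul a b => exact htmul W a b
  | add a b ha hb => exact (congrArg (P W) (map_add ((unitT L M).app (op W)).hom a b)).mpr (hadd W _ _ ha hb)

/-- Functoriality. -/
noncomputable def tensorMap {L' M' : X.Modules} (φ : L ⟶ L') (ψ : M ⟶ M') :
    CohB1.tensorMod L M ⟶ CohB1.tensorMod L' M' :=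
  Bilin.desc
    { app := fun U a b => tmul (φ.app U a) (ψ.app U b)
      add_left := fun U a a' b => by rw [map_add, tmul_add_left]
      add_right := fun U a b b' => by rw [map_add, tmul_add_right]
      smul_left := fun U r a b => by rw [Scheme.Modules.Hom.app_smul, tmul_smul_left]
      smul_right := fun U r a b => by rw [Scheme.Modules.Hom.app_smul, tmul_smul_right]
      res := fun U V h a b => by rw [resM_tmul, app_resM, app_resM] }

theorem tensorMap_tmul {L' M' : X.Modules} (φ : L ⟶ L') (ψ : M ⟶ M') (a : Γ(L, U)) (b : Γ(M, U)) :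
    (tensorMap φ ψ).app U (tmul a b) = tmul (φ.app U a) (ψ.app U b) :=
  Bilin.desc_tmul _ U a b

/-- Functoriality for isomorphisms. -/
noncomputable def tensorIso {L' M' : X.Modules} (φ : L ≅ L') (ψ : M ≅ M') :
    CohB1.tensorMod L M ≅ CohB1.tensorMod L' M' where
  hom := tensorMap φ.hom ψ.hom
  inv := tensorMap φ.inv ψ.inv
  hom_inv_id := hom_ext fun U a b => by
    show (tensorMap φ.inv ψ.inv).app U ((tensorMap φ.hom ψ.hom).app U (tmul a b)) = tmul a b
    rw [tensorMap_tmul, tensorMap_tmul]
    exact congrArg₂ tmul (ConcreteCategory.congr_hom (congrArg (fun α => α.app U) φ.hom_inv_id) a)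
      (ConcreteCategory.congr_hom (congrArg (fun α => α.app U) ψ.hom_inv_id) b)
  inv_hom_id := hom_ext fun U a b => by
    show (tensorMap φ.hom ψ.hom).app U ((tensorMap φ.inv ψ.inv).app U (tmul a b)) = tmul a b
    rw [tensorMap_tmul, tensorMap_tmul]
    exact congrArg₂ tmul (ConcreteCategory.congr_hom (congrArg (fun α => α.app U) φ.inv_hom_id) a)
      (ConcreteCategory.congr_hom (congrArg (fun α => α.app U) ψ.inv_hom_id) b)

variable (L M) in
/-- Commutativity. -/
noncomputable def tensorSwap : CohB1.tensorMod L M ⟶ CohB1.tensorMod M L :=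
  Bilin.desc
    { app := fun U a b => tmul b a
      add_left := fun U a a' b => tmul_add_right _ _ _
      add_right := fun U a b b' => tmul_add_left _ _ _
      smul_left := fun U r a b => tmul_smul_right _ _ _
      smul_right := fun U r a b => tmul_smul_left _ _ _
      res := fun U V h a b => resM_tmul h b a }

variable (L M) in
/-- Commutativity. -/
noncomputable def tensorComm : CohB1.tensorMod L M ≅ CohB1.tensorMod M L where
  hom := tensorSwap L M
  inv := tensorSwap M L
  hom_inv_id := hom_ext fun U a b => by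
    exact (congrArg ((tensorSwap M L).app U) (Bilin.desc_tmul _ U a b)).trans (Bilin.desc_tmul _ U b a)
  inv_hom_id := hom_ext fun U a b => by
    exact (congrArg ((tensorSwap L M).app U) (Bilin.desc_tmul _ U a b)).trans (Bilin.desc_tmul _ U b a)

variable (M) in
/-- The bilinear map behind the left unitor. -/
noncomputable def unitBilin : Bilin (Coh.structureModule X) M M where
  app U r b := (show Γ(X, U) from r) • b
  add_left U a a' b := add_smul (show Γ(X, U) from a) (show Γ(X, U) from a') b
  add_right U a b b' := smul_add (show Γ(X, U) from a) b b'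
  smul_left U r a b := mul_smul r (show Γ(X, U) from a) b
  smul_right U r a b := smul_comm (show Γ(X, U) from a) r b
  res U V h a b := resM_smul M h (show Γ(X, U) from a) b

variable (M) in
/-- The inverse of the left unitor. -/
noncomputable def toUnitTensor : M ⟶ CohB1.tensorMod (Coh.structureModule X) M :=
  ⟨PresheafOfModules.homMk
    { app := fun W => AddCommGrpCat.ofHom (AddMonoidHom.mk'
        (fun b => tmul (show Γ(Coh.structureModule X, W.unop) from (1 : Γ(X, W.unop))) b)
        (fun b b' => tmul_add_right _ b b'))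
      naturality := fun V W i => ConcreteCategory.hom_ext _ _ fun b => by
        show tmul _ (resM M (leOfHom i.unop) b) = resM _ (leOfHom i.unop) (tmul _ b)
        rw [resM_tmul]
        exact congrArg (tmul · _) (map_one (X.presheaf.map i).hom).symm }
    (fun W r b => tmul_smul_right r _ b)⟩

variable (M) in
/-- The left unitor. -/
noncomputable def unitTensorIso : CohB1.tensorMod (Coh.structureModule X) M ≅ M where
  hom := (unitBilin M).desc
  inv := toUnitTensor M
  hom_inv_id := hom_ext fun U a b => by
    show (toUnitTensor M).app U ((unitBilin M).desc.app U (tmul a b)) = tmul a b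
    rw [Bilin.desc_tmul]
    show tmul (show Γ(Coh.structureModule X, U) from (1 : Γ(X, U))) ((show Γ(X, U) from a) • b) = tmul a b
    rw [tmul_smul_right, ← tmul_smul_left]
    exact congrArg (tmul · b) (mul_one (show Γ(X, U) from a))
  inv_hom_id := Scheme.Modules.hom_ext _ _ fun U => by
    ext b
    show (unitBilin M).desc.app U (tmul _ b) = b
    rw [Bilin.desc_tmul]
    show (1 : Γ(X, U)) • b = b
    exact one_smul Γ(X, U) b

section Gen

variable {N : X.Modules} {s : Γ(L, U)} {t : Γ(M, U)} (hs : IsGen L U s) (ht : IsGen M U t)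

include hs ht in
/-- The coordinate in a product of generators, with values in functions on the smaller open. -/
theorem exists_coordinate : ∃ ψ : CohB1.tensorMod L M ⟶
      (Scheme.Modules.pushforward U.ι).obj (Coh.structureModule U.toScheme),
    ∀ (V : X.Opens) (h : V ≤ U) (r : Γ(X, V)),
      ψ.app V (r • tmul (resM L h s) (resM M h t)) = (show Γ(U.toScheme, U.ι ⁻¹ᵁ V) from U.ι.app V r) := by
  let N' := (Scheme.Modules.pushforward U.ι).obj (Coh.structureModule U.toScheme)
  have hle : ∀ W : X.Opens, U.ι ⁻¹ᵁ W ≤ U.ι ⁻¹ᵁ (W ⊓ U) := fun W z hz => ⟨hz, z.2⟩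
  let c : ∀ W : X.Opens, Γ(L, W) → Γ(M, W) → Γ(X, W ⊓ U) := fun W a b =>
    hs.coef inf_le_right (resM L inf_le_left a) * ht.coef inf_le_right (resM M inf_le_left b)
  let e : ∀ W : X.Opens, Γ(X, W ⊓ U) →+* Γ(U.toScheme, U.ι ⁻¹ᵁ W) := fun W =>
    (U.ι.appLE (W ⊓ U) (U.ι ⁻¹ᵁ W) (hle W)).hom
  have he : ∀ (W : X.Opens) (r : Γ(X, W)), e W (res inf_le_left r) = U.ι.app W r := fun W r => by
    show (X.presheaf.map _ ≫ U.ι.appLE _ _ _) r = _
    rw [Scheme.Hom.map_appLE, Scheme.Hom.appLE_eq_app]
  let f : Bilin L M N' :=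
    { app := fun W a b => (show Γ(N', W) from e W (c W a b))
      add_left := fun W a a' b => by
        show e W (c W (a + a') b) = e W (c W a b) + e W (c W a' b)
        rw [← map_add]; simp only [c, map_add, hs.coef_add, add_mul]
      add_right := fun W a b b' => by
        show e W (c W a (b + b')) = e W (c W a b) + e W (c W a b')
        rw [← map_add]; simp only [c, map_add, ht.coef_add, mul_add]
      smul_left := fun W r a b => by
        show e W (c W (r • a) b) = U.ι.app W r * e W (c W a b)
        rw [← he, ← map_mul]; simp only [c, resM_smul, hs.coef_smul]; rw [mul_assoc]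
      smul_right := fun W r a b => by
        show e W (c W a (r • b)) = U.ι.app W r * e W (c W a b)
        rw [← he, ← map_mul]; simp only [c, resM_smul, ht.coef_smul]; rw [mul_left_comm]
      res := fun W W' h a b => by
        show (U.toScheme).presheaf.map _ (U.ι.appLE _ _ _ (c W a b)) = U.ι.appLE _ _ _ (c W' _ _)
        have hc : c W' (resM L h a) (resM M h b) = res (inf_le_inf_right U h) (c W a b) := by
          simp only [c, map_mul, resM_resM]
          rw [← resM_resM L inf_le_left (inf_le_inf_right U h) a, hs.coef_res inf_le_right,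
            ← resM_resM M inf_le_left (inf_le_inf_right U h) b, ht.coef_res inf_le_right]
        rw [hc]
        show (U.ι.appLE _ _ _ ≫ (U.toScheme).presheaf.map _) _ = (X.presheaf.map _ ≫ U.ι.appLE _ _ _) _
        rw [Scheme.Hom.appLE_map, Scheme.Hom.map_appLE] }
  refine ⟨f.desc, fun V h r => ?_⟩
  rw [Scheme.Modules.Hom.app_smul, Bilin.desc_tmul]
  show U.ι.app V r * e V (c V (resM L h s) (resM M h t)) = _
  have hc : c V (resM L h s) (resM M h t) = 1 := by
    simp only [c, resM_resM, hs.coef_self, ht.coef_self, one_mul]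
  rw [hc, map_one, mul_one]

include hs ht in
/-- A tensor product of generators is a generator. -/
theorem isGen_tmul : IsGen (CohB1.tensorMod L M) U (tmul s t) := by
  obtain ⟨ψ, hψ⟩ := exists_coordinate hs ht
  have hinj : ∀ (V : X.Opens) (h : V ≤ U),
      Function.Injective (fun r : Γ(X, V) => r • tmul (resM L h s) (resM M h t)) := by
    intro V h r r' hr
    have h1 := congrArg (ψ.app V) hr
    simp only [hψ] at h1
    have : IsIso (U.ι.app V) := U.ι.isIso_app _ (by rw [Scheme.Opens.opensRange_ι]; exact h)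
    exact (ConcreteCategory.bijective_of_isIso (U.ι.app V)).1 h1
  suffices hP : ∀ (V : X.Opens) (z : Γ(CohB1.tensorMod L M, V)), ∀ h : V ≤ U,
      ∃ r : Γ(X, V), r • tmul (resM L h s) (resM M h t) = z by
    intro V h
    simp only [resM_tmul]
    exact ⟨hinj V h, fun z => hP V z h⟩
  refine induction_local (fun V z z' hz hz' h => ?_) (fun V h => ⟨0, zero_smul _ _⟩)
    (fun V z hz h => ?_) fun V a b h => ?_
  · obtain ⟨r, rfl⟩ := hz h
    obtain ⟨r', rfl⟩ := hz' h
    exact ⟨r + r', add_smul _ _ _⟩
  · have hz' : ∀ y : V, ∃ (W : X.Opens) (hW : W ≤ V), y.1 ∈ W ∧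
        ∃ r : Γ(X, W), r • tmul (resM L (hW.trans h) s) (resM M (hW.trans h) t) = resM _ hW z := fun y => by
      obtain ⟨W, hW, hy, h'⟩ := hz y.1 y.2
      exact ⟨W, hW, hy, h' (hW.trans h)⟩
    choose W hWle hyW r hr using hz'
    have hcov : V ≤ ⨆ y : V, W y := fun y hy => Opens.mem_iSup.2 ⟨⟨y, hy⟩, hyW ⟨y, hy⟩⟩
    obtain ⟨ρ, hρ, -⟩ := TopCat.Sheaf.existsUnique_gluing' X.sheaf W V (fun y => homOfLE (hWle y)) hcov r
      (fun i j => by
        refine hinj (W i ⊓ W j) ((inf_le_left.trans (hWle i)).trans h) ?_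
        have hl := congrArg (resM _ (inf_le_left : W i ⊓ W j ≤ W i)) (hr i)
        have hr' := congrArg (resM _ (inf_le_right : W i ⊓ W j ≤ W j)) (hr j)
        rw [resM_smul, resM_tmul, resM_resM, resM_resM, resM_resM] at hl hr'
        exact hl.trans hr'.symm)
    refine ⟨(show Γ(X, V) from ρ), TopCat.Sheaf.eq_of_locally_eq' (⟨(CohB1.tensorMod L M).presheaf, (CohB1.tensorMod L M).isSheaf⟩ :
      TopCat.Sheaf Ab X) W V (fun y => homOfLE (hWle y)) hcov _ _ fun y => ?_⟩
    show resM _ (hWle y) ((show Γ(X, V) from ρ) • tmul (resM L h s) (resM M h t)) = resM _ (hWle y) z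
    rw [resM_smul, resM_tmul, resM_resM, resM_resM]
    exact (congrArg (fun c : Γ(X, W y) => c • tmul (resM L ((hWle y).trans h) s) (resM M ((hWle y).trans h) t)) (hρ y)).trans (hr y)
  · refine ⟨hs.coef h a * ht.coef h b, ?_⟩
    rw [← tmul_smul_smul, hs.coef_spec, ht.coef_spec]

end Gen

/-- Tensor products of invertible modules are invertible. -/
theorem isInvertible_tensorMod (hL : PicF.IsInvertible L) (hM : PicF.IsInvertible M) :
    PicF.IsInvertible (CohB1.tensorMod L M) := by
  refine isInvertible_of_gens fun y => ?_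
  obtain ⟨U, hyU, s, hs⟩ := exists_isGen hL y
  obtain ⟨V, hyV, t, ht⟩ := exists_isGen hM y
  exact ⟨U ⊓ V, ⟨hyU, hyV⟩, _, isGen_tmul (hs.restrict inf_le_left) (ht.restrict inf_le_right)⟩

end Groth.Agent.AmpleLib
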