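import Groth.Agent.AmpleLib.Twist2
import Groth.Agent.AmpleLib.Local
import Groth.Agent.Coherent.QcohOps

/-!
# Restriction commutes with twisting
-/

set_option autoImplicit false
set_option backward.isDefEq.respectTransparency.types false

universe u

open CategoryTheory CategoryTheory.Limits AlgebraicGeometry Opposite TopologicalSpace
open Groth.Agent.Coherent Groth.Agent.PicLib

namespace Groth.Agent.AmpleLib

variable {X Z : Scheme.{u}} (j : Z ⟶ X) [IsOpenImmersion j] (F M : X.Modules)

/-- The comparison map `F|_Z ⊗ M|_Z ⟶ (F ⊗ M)|_Z`. -/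
noncomputable def restrictTensorHom :
    CohB1.tensorMod (F.restrict j) (M.restrict j) ⟶ (CohB1.tensorMod F M).restrict j :=
  Bilin.desc
    { app := fun W a b => ((CohB1.tensorMod F M).restrictAppIso j W).inv
        (tmul ((F.restrictAppIso j W).hom a) ((M.restrictAppIso j W).hom b))
      add_left := fun W a a' b => by rw [map_add, tmul_add_left, map_add]
      add_right := fun W a b b' => by rw [map_add, tmul_add_right, map_add]
      smul_left := fun W r a b => by
        apply (ConcreteCategory.bijective_of_isIso ((CohB1.tensorMod F M).restrictAppIso j W).hom).1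
        rw [Scheme.Modules.smul_restrictAppIso_hom_apply, Scheme.Modules.smul_restrictAppIso_hom_apply,
          ← ConcreteCategory.comp_apply _ ((CohB1.tensorMod F M).restrictAppIso j W).hom,
          ← ConcreteCategory.comp_apply _ ((CohB1.tensorMod F M).restrictAppIso j W).hom, Iso.inv_hom_id]
        exact tmul_smul_left _ _ _
      smul_right := fun W r a b => by
        apply (ConcreteCategory.bijective_of_isIso ((CohB1.tensorMod F M).restrictAppIso j W).hom).1
        rw [Scheme.Modules.smul_restrictAppIso_hom_apply, Scheme.Modules.smul_restrictAppIso_hom_apply,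
          ← ConcreteCategory.comp_apply _ ((CohB1.tensorMod F M).restrictAppIso j W).hom,
          ← ConcreteCategory.comp_apply _ ((CohB1.tensorMod F M).restrictAppIso j W).hom, Iso.inv_hom_id]
        exact tmul_smul_right _ _ _
      res := fun W W' h a b => resM_tmul (j.image_mono h) _ _ }

theorem restrictTensorHom_tmul (W : Z.Opens) (a : Γ(F.restrict j, W)) (b : Γ(M.restrict j, W)) :
    (restrictTensorHom j F M).app W (tmul a b) = ((CohB1.tensorMod F M).restrictAppIso j W).inv
      (tmul ((F.restrictAppIso j W).hom a) ((M.restrictAppIso j W).hom b)) :=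
  Bilin.desc_tmul _ _ _ _

theorem isIso_restrictTensorHom (hM : PicF.IsInvertible M) : IsIso (restrictTensorHom j F M) := by
  have hloc : ∀ z : Z, ∃ (W : Z.Opens) (g : Γ(M.restrict j, W)), z ∈ W ∧ IsGen _ W g ∧
      IsGen M (j ''ᵁ W) ((M.restrictAppIso j W).hom g) := fun z => by
    obtain ⟨V, hzV, g, hg⟩ := exists_isGen hM (j z)
    let W := j ⁻¹ᵁ V
    have hle : j ''ᵁ W ≤ V := Set.image_preimage_subset _ _
    have hgW := hg.restrict hle
    refine ⟨W, (M.restrictAppIso j W).inv (resM M hle g), hzV, fun T hT => ?_, ?_⟩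
    · have hb := (ConcreteCategory.bijective_of_isIso (M.restrictAppIso j T).inv).comp
        ((hgW (j ''ᵁ T) (j.image_mono hT)).comp (ConcreteCategory.bijective_of_isIso (j.appIso T).inv))
      convert hb using 1
      funext r
      apply (ConcreteCategory.bijective_of_isIso (M.restrictAppIso j T).hom).1
      rw [Scheme.Modules.smul_restrictAppIso_hom_apply]
      rfl
    · rw [← ConcreteCategory.comp_apply _ (M.restrictAppIso j W).hom, Iso.inv_hom_id]
      exact hgW
  have hmono : Mono (restrictTensorHom j F M) := by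
    have hinj : ∀ (U : Z.Opens) (a : Γ(CohB1.tensorMod (F.restrict j) (M.restrict j), U)),
        (restrictTensorHom j F M).app U a = 0 → a = 0 := fun U a ha => by
      refine sec_ext _ _ _ fun z hz => ?_
      obtain ⟨W, g, hzW, hg, hg'⟩ := hloc z
      refine ⟨U ⊓ W, inf_le_left, ⟨hz, hzW⟩, ?_⟩
      obtain ⟨x, hx⟩ := (bijective_tmul_gen (M := F.restrict j) hg (U ⊓ W) inf_le_right).2 (resM _ inf_le_left a)
      rw [map_zero]
      refine hx.symm.trans ?_
      have h0 := congrArg (resM _ (inf_le_left : U ⊓ W ≤ U)) ha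
      rw [← app_resM, ← hx, restrictTensorHom_tmul, map_zero] at h0
      replace h0 := congrArg ((CohB1.tensorMod F M).restrictAppIso j (U ⊓ W)).hom h0
      rw [← ConcreteCategory.comp_apply _ ((CohB1.tensorMod F M).restrictAppIso j (U ⊓ W)).hom,
        Iso.inv_hom_id, map_zero] at h0
      replace h0 : tmul ((F.restrictAppIso j _).hom x)
          (resM M (j.image_mono (inf_le_right : U ⊓ W ≤ W)) ((M.restrictAppIso j W).hom g)) = 0 := h0
      have hx0 : (F.restrictAppIso j (U ⊓ W)).hom x = 0 :=
        (bijective_tmul_gen (M := F) hg' _ (j.image_mono inf_le_right)).1 (h0.trans (tmul_zero_left _).symm)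
      show tmul x _ = 0
      rw [(ConcreteCategory.bijective_of_isIso (F.restrictAppIso j (U ⊓ W)).hom).1 (hx0.trans (map_zero _).symm),
        tmul_zero_left]
    refine ⟨fun a b hab => Scheme.Modules.hom_ext _ _ fun U => ?_⟩
    ext t
    rw [← sub_eq_zero]
    refine hinj U _ ?_
    rw [map_sub, sub_eq_zero]
    exact ConcreteCategory.congr_hom (congrArg (fun φ => Scheme.Modules.Hom.app φ U) hab) t
  have hepi : Epi (restrictTensorHom j F M) := by
    refine epi_of_locally_surjective _ fun U a z hz => ?_
    obtain ⟨W, g, hzW, hg, hg'⟩ := hloc z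
    let T := U ⊓ W
    obtain ⟨x, hx⟩ := (bijective_tmul_gen (M := F) hg' (j ''ᵁ T) (j.image_mono inf_le_right)).2
      (((CohB1.tensorMod F M).restrictAppIso j T).hom (resM _ inf_le_left a))
    refine ⟨T, inf_le_left, ⟨hz, hzW⟩, tmul ((F.restrictAppIso j T).inv x) (resM _ inf_le_right g), ?_⟩
    rw [restrictTensorHom_tmul, ← ConcreteCategory.comp_apply _ (F.restrictAppIso j T).hom, Iso.inv_hom_id]
    apply (ConcreteCategory.bijective_of_isIso ((CohB1.tensorMod F M).restrictAppIso j T).hom).1
    rw [← ConcreteCategory.comp_apply _ ((CohB1.tensorMod F M).restrictAppIso j T).hom, Iso.inv_hom_id]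
    exact hx
  exact isIso_of_mono_of_epi _

end Groth.Agent.AmpleLib
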