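import Groth.Agent.AmpleLib.GenLocus

/-!
# Twisting by a generator is bijective on sections
-/

set_option autoImplicit false
set_option backward.isDefEq.respectTransparency.types false

universe u

open CategoryTheory CategoryTheory.Limits AlgebraicGeometry Opposite TopologicalSpace
open Groth.Agent.Coherent Groth.Agent.PicLib

namespace Groth.Agent.AmpleLib

variable {X : Scheme.{u}} {L M : X.Modules} {U : X.Opens} {g : Γ(L, U)}

theorem bijective_tmul_gen (hg : IsGen L U g) (V : X.Opens) (h : V ≤ U) :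
    Function.Bijective (fun m : Γ(M, V) => tmul m (resM L h g)) := by
  let N' := (Scheme.Modules.pushforward U.ι).obj (M.restrict U.ι)
  have hU : ∀ W : X.Opens, U.ι ''ᵁ (U.ι ⁻¹ᵁ W) ≤ U := fun W => (U.ι.image_mono le_top).trans (Scheme.Opens.ι_image_top U).le
  have hW : ∀ W : X.Opens, U.ι ''ᵁ (U.ι ⁻¹ᵁ W) ≤ W := fun W => Set.image_preimage_subset _ _
  let c : ∀ W : X.Opens, Γ(M, W) → Γ(L, W) → Γ(M, U.ι ''ᵁ (U.ι ⁻¹ᵁ W)) := fun W m l =>
    hg.coef (hU W) (resM L (hW W) l) • resM M (hW W) m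
  have hsc : ∀ (W : X.Opens) (r : Γ(X, W)), (U.ι.appIso (U.ι ⁻¹ᵁ W)).inv (U.ι.app W r) = res (hW W) r := fun W r => by
    rw [← CategoryTheory.comp_apply (U.ι.app W), Scheme.Hom.app_appIso_inv]
    rfl
  let f : Bilin M L N' :=
    { app := fun W m l => (show Γ(N', W) from c W m l)
      add_left := fun W m m' l => by
        show c W (m + m') l = c W m l + c W m' l
        simp only [c, map_add, smul_add]
      add_right := fun W m l l' => by
        show c W m (l + l') = c W m l + c W m l'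
        simp only [c, map_add, hg.coef_add, add_smul]
      smul_left := fun W r m l => by
        show c W (r • m) l = (U.ι.appIso (U.ι ⁻¹ᵁ W)).inv (U.ι.app W r) • c W m l
        rw [hsc]
        simp only [c, resM_smul, ← mul_smul]
        rw [mul_comm]
      smul_right := fun W r m l => by
        show c W m (r • l) = (U.ι.appIso (U.ι ⁻¹ᵁ W)).inv (U.ι.app W r) • c W m l
        rw [hsc]
        simp only [c, resM_smul, hg.coef_smul, ← mul_smul]
      res := fun W W' hWW' m l => by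
        have hle : U.ι ''ᵁ (U.ι ⁻¹ᵁ W') ≤ U.ι ''ᵁ (U.ι ⁻¹ᵁ W) := U.ι.image_mono fun z hz => hWW' hz
        show resM M hle (c W m l) = c W' (resM M hWW' m) (resM L hWW' l)
        simp only [c, resM_smul, resM_resM]
        rw [← hg.coef_res (hU W) hle, resM_resM] }
  have hinj : ∀ (V : X.Opens) (h : V ≤ U), Function.Injective (fun m : Γ(M, V) => tmul m (resM L h g)) := by
    intro V h m m' e
    have e1 : c V m (resM L h g) = c V m' (resM L h g) := by
      have h0 := ((f.desc_tmul V m (resM L h g)).symm.trans (congrArg (f.desc.app V) e)).trans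
        (f.desc_tmul V m' (resM L h g))
      exact h0
    simp only [c, resM_resM, hg.coef_self, one_smul] at e1
    have e2 := congrArg (resM M (show V ≤ U.ι ''ᵁ (U.ι ⁻¹ᵁ V) from fun x hx => ⟨⟨x, h hx⟩, hx, rfl⟩)) e1
    rwa [resM_resM, resM_resM, resM_self, resM_self] at e2
  suffices hP : ∀ (V : X.Opens) (z : Γ(CohB1.tensorMod M L, V)), ∀ h : V ≤ U,
      ∃ m : Γ(M, V), tmul m (resM L h g) = z from ⟨hinj V h, fun z => hP V z h⟩
  refine induction_local (fun V z z' hz hz' h => ?_) (fun V h => ⟨0, tmul_zero_left _⟩)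
    (fun V z hz h => ?_) fun V a b h => ⟨hg.coef h b • a, ?_⟩
  · obtain ⟨m, rfl⟩ := hz h
    obtain ⟨m', rfl⟩ := hz' h
    exact ⟨m + m', tmul_add_left _ _ _⟩
  · have hz' : ∀ y : V, ∃ (W : X.Opens) (hW : W ≤ V), y.1 ∈ W ∧
        ∃ m : Γ(M, W), tmul m (resM L (hW.trans h) g) = resM _ hW z := fun y => by
      obtain ⟨W, hW, hy, h'⟩ := hz y.1 y.2
      exact ⟨W, hW, hy, h' (hW.trans h)⟩
    choose W hWle hyW m hm using hz'
    have hcov : V ≤ ⨆ y : V, W y := fun y hy => Opens.mem_iSup.2 ⟨⟨y, hy⟩, hyW ⟨y, hy⟩⟩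
    obtain ⟨ρ, hρ, -⟩ := TopCat.Sheaf.existsUnique_gluing' (⟨M.presheaf, M.isSheaf⟩ : TopCat.Sheaf Ab X)
      W V (fun y => homOfLE (hWle y)) hcov m
      (fun i j => by
        refine hinj (W i ⊓ W j) ((inf_le_left.trans (hWle i)).trans h) ?_
        have hl := congrArg (resM _ (inf_le_left : W i ⊓ W j ≤ W i)) (hm i)
        have hr' := congrArg (resM _ (inf_le_right : W i ⊓ W j ≤ W j)) (hm j)
        rw [resM_tmul, resM_resM, resM_resM] at hl hr'
        exact hl.trans hr'.symm)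
    refine ⟨(show Γ(M, V) from ρ), sec_ext _ _ _ fun y hy => ⟨W ⟨y, hy⟩, hWle _, hyW ⟨y, hy⟩, ?_⟩⟩
    rw [resM_tmul, resM_resM]
    exact (congrArg (fun c : Γ(M, W ⟨y, hy⟩) => tmul c (resM L ((hWle ⟨y, hy⟩).trans h) g)) (hρ ⟨y, hy⟩)).trans (hm ⟨y, hy⟩)
  · rw [tmul_smul_left, ← tmul_smul_right, hg.coef_spec]

theorem bijective_tmul_powSec (hg : IsGen L U g) (n : ℕ) (V : X.Opens) (h : V ≤ U) :
    Function.Bijective (fun m : Γ(M, V) => tmul m (powSec (resM L h g) n)) := by
  simp only [← resM_powSec]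
  exact bijective_tmul_gen (isGen_powSec hg n) V h

end Groth.Agent.AmpleLib
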