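import Groth.Agent.AmpleLib.Sections
import Groth.Prelude.Def_ClSub2
import Mathlib.AlgebraicGeometry.QuasiAffine

/-!
# Ample invertible modules
-/

set_option autoImplicit false
set_option backward.isDefEq.respectTransparency.types false

universe u

open CategoryTheory CategoryTheory.Limits AlgebraicGeometry Opposite TopologicalSpace
open Groth.Agent.Coherent Groth.Agent.PicLib

namespace Groth.Agent.AmpleLib

variable {X : Scheme.{u}} {L M : X.Modules} {U : X.Opens}

theorem isQCoh_of_isInvertible (hL : PicF.IsInvertible L) : Coh.IsQCoh L := by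
  choose W hW e using hL
  exact isQCoh_of_openImmersion_cover L (fun x => (W x).ι)
    (fun x => ⟨x, by rw [Scheme.Opens.opensRange_ι]; exact hW x⟩)
    fun x => by
      have := isQCoh_structureModule (X := (W x : Scheme.{u}))
      exact isQCoh_of_iso (e x).some.symm

theorem glocus_smul_eq (hL : PicF.IsInvertible L) (r : Γ(X, ⊤)) (a : Γ(L, ⊤)) :
    glocus L (r • a) = glocus L a ⊓ X.basicOpen r := by
  refine Opens.ext (Set.ext fun x => ?_)
  obtain ⟨U, hxU, g, hg⟩ := exists_isGen hL x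
  have h1 := glocus_inf a hg
  have h2 := glocus_inf (r • a) hg
  rw [resM_smul, hg.coef_smul, Scheme.basicOpen_mul, ← h1] at h2
  have h3 : X.basicOpen (res (le_top : U ≤ ⊤) r) = U ⊓ X.basicOpen r :=
    X.basicOpen_res r (homOfLE (le_top : U ≤ ⊤)).op
  rw [h3] at h2
  exact ⟨fun hx => ⟨(h2.le ⟨hx, hxU⟩).2.1, (h2.le ⟨hx, hxU⟩).1.2⟩,
    fun hx => (h2.ge ⟨⟨hxU, hx.2⟩, hx.1, hxU⟩).1⟩

theorem glocus_structureModule (r : Γ(X, ⊤)) : glocus (Coh.structureModule X) (show Γ(Coh.structureModule X, ⊤) from r) = X.basicOpen r := by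
  have h := glocus_smul_eq isInvertible_structureModule r (oneSec (⊤ : X.Opens))
  rw [glocus_oneSec, top_inf_eq] at h
  rw [← h]
  exact congrArg (glocus (Coh.structureModule X)) (mul_one r).symm

/-- The locus of a section is affine over the scheme. -/
theorem isAffineHom_glocus_ι (hL : PicF.IsInvertible L) (a : Γ(L, ⊤)) : IsAffineHom (glocus L a).ι := by
  refine isAffineHom_of_forall_exists_isAffineOpen _ fun x => ?_
  obtain ⟨W, hxW, g, hg⟩ := exists_isGen hL x
  obtain ⟨V, hV, hxV, hVW⟩ := exists_isAffineOpen_mem_and_subset (x := x) (U := W) hxW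
  refine ⟨V, hxV, hV, ?_⟩
  have h := glocus_inf a (hg.restrict hVW)
  rw [← (glocus L a).ι.isAffineOpen_iff_of_isOpenImmersion, (glocus L a).ι.image_preimage_eq_opensRange_inf,
    Scheme.Opens.opensRange_ι, h]
  exact hV.basicOpen _

theorem isAffineOpen_glocus_inf (hL : PicF.IsInvertible L) (a : Γ(L, ⊤)) (hU : IsAffineOpen U) :
    IsAffineOpen (glocus L a ⊓ U) := by
  have := isAffineHom_glocus_ι hL a
  have h := (glocus L a).ι.isAffineOpen_iff_of_isOpenImmersion.2 (hU.preimage (glocus L a).ι)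
  rwa [(glocus L a).ι.image_preimage_eq_opensRange_inf, Scheme.Opens.opensRange_ι] at h

/-- Isomorphic modules have isomorphic powers. -/
noncomputable def powIsoOfIso (e : L ≅ M) : ∀ n : ℕ, CohB1.tensorPow L n ≅ CohB1.tensorPow M n
  | 0 => Iso.refl _
  | n + 1 => tensorIso (powIsoOfIso e n) e

theorem powIsoOfIso_powSec (e : L ≅ M) (U : X.Opens) (s : Γ(L, U)) : ∀ n : ℕ,
    (powIsoOfIso e n).hom.app U (powSec s n) = powSec (e.hom.app U s) n
  | 0 => rfl
  | n + 1 => (tensorMap_tmul _ _ _ _).trans (congrArg (tmul · _) (powIsoOfIso_powSec e U s n))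

/-- Pullback commutes with powers. -/
theorem exists_pullPowIso {Z : Scheme.{u}} (σ : Z ⟶ X) (hL : PicF.IsInvertible L) (n : ℕ) :
    ∃ e : (Scheme.Modules.pullback σ).obj (CohB1.tensorPow L n) ≅
        CohB1.tensorPow ((Scheme.Modules.pullback σ).obj L) n,
      ∀ (U : X.Opens) (s : Γ(L, U)), e.hom.app (σ ⁻¹ᵁ U) (pullSec σ (powSec s n)) = powSec (pullSec σ s) n := by
  obtain ⟨W, g, hmem, hg⟩ := exists_cover hL
  have hcov : (⨆ x : ULift.{u} X, σ ⁻¹ᵁ W x.down) = ⊤ :=
    top_le_iff.1 fun z _ => Opens.mem_iSup.2 ⟨⟨σ z⟩, hmem (σ z)⟩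
  obtain ⟨e, he⟩ := exists_iso_of_gens (fun x : ULift.{u} X => σ ⁻¹ᵁ W x.down) hcov
    (fun x => pullSec σ (powSec (g x.down) n))
    (fun x => isGen_pullSec σ (isGen_powSec (hg _) n) (isInvertible_tensorPow hL n))
    (fun x => powSec (pullSec σ (g x.down)) n) (fun x => isGen_powSec (isGen_pullSec σ (hg _) hL) n) (by
      intro i j V hi hj c hc
      refine sec_ext _ _ _ fun z hz => ?_
      let T := W i.down ⊓ W j.down
      have hVT : V ≤ σ ⁻¹ᵁ T := fun w hw => ⟨hi hw, hj hw⟩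
      refine ⟨V, le_rfl, hz, ?_⟩
      rw [resM_self, resM_self]
      obtain ⟨d, hd⟩ : ∃ d : Γ(X, T), d • resM L (inf_le_right : T ≤ W j.down) (g j.down) =
          resM L (inf_le_left : T ≤ W i.down) (g i.down) := (hg j.down T inf_le_right).2 _
      have e1 : resM _ hi (pullSec σ (powSec (g i.down) n)) = res hVT (σ.app T d) ^ n •
          resM _ hj (pullSec σ (powSec (g j.down) n)) := by
        rw [← resM_resM _ ((Opens.map σ.base).map (homOfLE (inf_le_left : T ≤ W i.down))).le hVT,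
          resM_pullSec σ (inf_le_left : T ≤ W i.down), resM_powSec, ← hd, powSec_smul, pullSec_smul, resM_smul, map_pow, map_pow,
          ← resM_powSec, ← resM_pullSec, resM_resM]
      have hinj := ((isGen_pullSec σ (isGen_powSec (hg j.down) n) (isInvertible_tensorPow hL n)) V hj).1
      have hcd : c = res hVT (σ.app T d) ^ n := hinj (hc.symm.trans e1)
      rw [hcd, resM_powSec, resM_powSec,
        ← resM_resM _ ((Opens.map σ.base).map (homOfLE (inf_le_left : T ≤ W i.down))).le hVT (pullSec σ (g i.down)),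
        resM_pullSec σ (inf_le_left : T ≤ W i.down), ← hd, pullSec_smul, resM_smul, powSec_smul, ← resM_pullSec, resM_resM])
  refine ⟨e, fun U s => sec_ext _ _ _ fun z hz => ?_⟩
  let T := U ⊓ W (σ z)
  refine ⟨σ ⁻¹ᵁ T, ((Opens.map σ.base).map (homOfLE inf_le_left)).le, ⟨hz, hmem (σ z)⟩, ?_⟩
  obtain ⟨r, hr⟩ : ∃ r : Γ(X, T), r • resM L inf_le_right (g (σ z)) = resM L (inf_le_left : T ≤ U) s :=
    (hg (σ z) T inf_le_right).2 _
  rw [← app_resM, resM_pullSec σ (inf_le_left : T ≤ U), resM_powSec, resM_powSec, resM_pullSec σ (inf_le_left : T ≤ U), ← hr, powSec_smul, pullSec_smul,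
    pullSec_smul, powSec_smul, Scheme.Modules.Hom.app_smul, map_pow, ← resM_powSec, ← resM_pullSec,
    ← resM_pullSec, app_resM, he ⟨σ z⟩, resM_powSec]

/-- The point `x` has an affine neighbourhood in `U` which is the locus of a section of a positive power. -/
def AffGlocus (L : X.Modules) (x : X) (U : X.Opens) : Prop :=
  ∃ m : ℕ, 0 < m ∧ ∃ b : Γ(CohB1.tensorPow L m, ⊤),
    x ∈ glocus _ b ∧ glocus _ b ≤ U ∧ IsAffineOpen (glocus _ b)

theorem isAmple_iff_affGlocus : CohB1.IsAmple L ↔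
    PicF.IsInvertible L ∧ CompactSpace X ∧ ∀ x, AffGlocus L x ⊤ := by
  refine and_congr_right fun _ => and_congr_right fun _ => forall_congr' fun x => ?_
  constructor
  · rintro ⟨n, s, hx, ha⟩
    rw [genLocus_eq_glocus] at hx ha
    exact ⟨n + 1, n.succ_pos, _, hx, le_top, ha⟩
  · rintro ⟨m, hm, b, hx, -, ha⟩
    obtain ⟨n, rfl⟩ : ∃ n, m = n + 1 := ⟨m - 1, by omega⟩
    exact ⟨n, unitDesc _ b, hx, ha⟩

theorem quasiSeparatedSpace_of_affGlocus [CompactSpace X] (hL : PicF.IsInvertible L)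
    (h : ∀ x, AffGlocus L x ⊤) : QuasiSeparatedSpace X := by
  rw [quasiSeparatedSpace_iff_forall_affineOpens]
  intro A B
  choose m hm b hb _ ha using h
  obtain ⟨t, ht⟩ := isCompact_univ.elim_finite_subcover (fun x => (glocus _ (b x) : Set X))
    (fun x => (glocus _ (b x)).2) fun x _ => Set.mem_iUnion.2 ⟨x, hb x⟩
  have heq : (A.1 ∩ B.1 : Set X) = ⋃ x ∈ t, ((glocus _ (b x) ⊓ A.1 : X.Opens) : Set X) ∩ (glocus _ (b x) ⊓ B.1 : X.Opens) := by
    ext z
    simp only [Set.mem_iUnion, Set.mem_inter_iff]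
    constructor
    · intro hz
      obtain ⟨x, hx, hzx⟩ := Set.mem_iUnion₂.1 (ht (Set.mem_univ z))
      exact ⟨x, hx, ⟨hzx, hz.1⟩, hzx, hz.2⟩
    · rintro ⟨x, _, h1, h2⟩
      exact ⟨h1.2, h2.2⟩
  rw [heq]
  refine t.isCompact_biUnion fun x _ => ?_
  exact (ha x).isQuasiSeparated _ _ Set.inter_subset_left (glocus _ (b x) ⊓ A.1).2
    (isAffineOpen_glocus_inf (isInvertible_tensorPow hL _) _ A.2).isCompact Set.inter_subset_left
    (glocus _ (b x) ⊓ B.1).2 (isAffineOpen_glocus_inf (isInvertible_tensorPow hL _) _ B.2).isCompact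

/-- Passage between powers. -/
theorem exists_glocus_pow (hL : PicF.IsInvertible L) (m : ℕ) (b : Γ(CohB1.tensorPow L m, ⊤)) (k : ℕ) (hk : 0 < k) :
    ∃ b' : Γ(CohB1.tensorPow L (m * k), ⊤), glocus _ b' = glocus _ b := by
  obtain ⟨e, -⟩ := exists_powPowIso hL m k
  obtain ⟨j, rfl⟩ : ∃ j, k = j + 1 := ⟨k - 1, by omega⟩
  exact ⟨e.hom.app ⊤ (powSec b (j + 1)), by rw [glocus_map_iso, glocus_powSec (isInvertible_tensorPow hL m)]⟩

/-- Products of sections of powers. -/
theorem exists_glocus_mul (hL : PicF.IsInvertible L) (m n : ℕ) (b : Γ(CohB1.tensorPow L m, ⊤))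
    (c : Γ(CohB1.tensorPow L n, ⊤)) :
    ∃ d : Γ(CohB1.tensorPow L (m + n), ⊤), glocus _ d = glocus _ b ⊓ glocus _ c := by
  obtain ⟨e, -⟩ := exists_powIso hL m n
  exact ⟨e.hom.app ⊤ (tmul b c), by
    rw [glocus_map_iso, glocus_tmul (isInvertible_tensorPow hL m) (isInvertible_tensorPow hL n)]⟩

/-- For an ample module the affine loci of sections form a basis. -/
theorem affGlocus_of_mem (hL : CohB1.IsAmple L) {x : X} (hx : x ∈ U) : AffGlocus L x U := by
  obtain ⟨hinv, hc, h⟩ := isAmple_iff_affGlocus.1 hL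
  have := quasiSeparatedSpace_of_affGlocus hinv h
  obtain ⟨m, hm, b, hxb, -, hb⟩ := h x
  obtain ⟨f, hfle, hxf⟩ := hb.exists_basicOpen_le (V := glocus _ b ⊓ U) ⟨x, hxb, hx⟩ hxb
  have hP := isInvertible_tensorPow hinv m
  obtain ⟨n, t, ht⟩ := exists_extend_pow (L := CohB1.tensorPow L m) b hP f
  let d : Γ(CohB1.tensorPow (CohB1.tensorPow L m) (n + 1), ⊤) := tmul t b
  have hd : glocus (CohB1.tensorPow (CohB1.tensorPow L m) (n + 1)) d = X.basicOpen f := by
    refine (glocus_tmul (isInvertible_tensorPow hP n) hP t b).trans ?_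
    have hg := isGen_powSec (isGen_glocus b) n
    rw [glocus_inf t hg]
    congr 1
    refine hg.coef_eq _ ?_
    rw [resM_self, ht]
  obtain ⟨e, -⟩ := exists_powPowIso hinv m (n + 1)
  refine ⟨m * (n + 1), Nat.mul_pos hm n.succ_pos, e.hom.app ⊤ d, ?_, ?_, ?_⟩
  · rw [glocus_map_iso, hd]; exact hxf
  · rw [glocus_map_iso, hd]; exact hfle.trans inf_le_right
  · rw [glocus_map_iso, hd]; exact hb.basicOpen f

theorem isAmple_pow_iff (hL : PicF.IsInvertible L) (n : ℕ) (hn : 0 < n) :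
    CohB1.IsAmple (CohB1.tensorPow L n) ↔ CohB1.IsAmple L := by
  rw [isAmple_iff_affGlocus, isAmple_iff_affGlocus]
  constructor
  · rintro ⟨-, hc, h⟩
    refine ⟨hL, hc, fun x => ?_⟩
    obtain ⟨m, hm, b, hx, hU, ha⟩ := h x
    obtain ⟨e, -⟩ := exists_powPowIso hL n m
    exact ⟨n * m, Nat.mul_pos hn hm, e.hom.app ⊤ b, by rw [glocus_map_iso]; exact hx,
      by rw [glocus_map_iso]; exact hU, by rw [glocus_map_iso]; exact ha⟩
  · rintro ⟨-, hc, h⟩
    refine ⟨isInvertible_tensorPow hL n, hc, fun x => ?_⟩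
    obtain ⟨m, hm, b, hx, hU, ha⟩ := h x
    obtain ⟨b', hb'⟩ := exists_glocus_pow hL m b n hn
    obtain ⟨e, -⟩ := exists_powPowIso hL n m
    have key : ∀ k (hk : k = n * m), ∀ c : Γ(CohB1.tensorPow L k, ⊤),
        ∃ c' : Γ(CohB1.tensorPow (CohB1.tensorPow L n) m, ⊤), glocus _ c' = glocus _ c := by
      intro k hk c
      subst hk
      exact ⟨e.inv.app ⊤ c, glocus_map_iso e.symm c⟩
    obtain ⟨c', hc'⟩ := key (m * n) (mul_comm m n) b'
    rw [hb'] at hc'
    exact ⟨m, hm, c', hc' ▸ hx, hc' ▸ hU, hc' ▸ ha⟩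

theorem isAmple_of_iso (e : L ≅ M) (h : CohB1.IsAmple L) : CohB1.IsAmple M := by
  obtain ⟨hL, hc, h⟩ := isAmple_iff_affGlocus.1 h
  refine isAmple_iff_affGlocus.2 ⟨?_, hc, fun x => ?_⟩
  · refine isInvertible_of_gens fun y => ?_
    obtain ⟨U, hy, g, hg⟩ := exists_isGen hL y
    refine ⟨U, hy, e.hom.app U g, fun V hV => ?_⟩
    have hb := ConcreteCategory.bijective_of_isIso (e.hom.app V)
    convert hb.comp (hg V hV) using 1
    funext r
    show _ = e.hom.app V (r • resM L hV g)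
    rw [Scheme.Modules.Hom.app_smul, app_resM]
  · obtain ⟨m, hm, b, hx, hU, ha⟩ := h x
    exact ⟨m, hm, (powIsoOfIso e m).hom.app ⊤ b, by rw [glocus_map_iso]; exact hx,
      by rw [glocus_map_iso]; exact hU, by rw [glocus_map_iso]; exact ha⟩

/-- Pullback of an ample module along an affine morphism, or a quasi-compact immersion, is ample. -/
theorem isAmple_pullback_of_isAffineHom {Z : Scheme.{u}} (σ : Z ⟶ X) [IsAffineHom σ] (h : CohB1.IsAmple L) :
    CohB1.IsAmple ((Scheme.Modules.pullback σ).obj L) := by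
  obtain ⟨hL, hc, h⟩ := isAmple_iff_affGlocus.1 h
  refine isAmple_iff_affGlocus.2 ⟨PicLoc.isInvertible_pullback σ hL, QuasiCompact.compactSpace_of_compactSpace σ,
    fun z => ?_⟩
  obtain ⟨m, hm, b, hx, -, ha⟩ := h (σ z)
  obtain ⟨e, -⟩ := exists_pullPowIso σ hL m
  refine ⟨m, hm, e.hom.app ⊤ (pullSec σ b), ?_, le_top, ?_⟩
  · rw [glocus_map_iso, glocus_pullSec σ (isInvertible_tensorPow hL m)]; exact hx
  · rw [glocus_map_iso, glocus_pullSec σ (isInvertible_tensorPow hL m)]; exact ha.preimage σ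

theorem isAmple_pullback_of_isOpenImmersion {Z : Scheme.{u}} (σ : Z ⟶ X) [IsOpenImmersion σ] [CompactSpace Z]
    (h : CohB1.IsAmple L) : CohB1.IsAmple ((Scheme.Modules.pullback σ).obj L) := by
  have hL := h.1
  refine isAmple_iff_affGlocus.2 ⟨PicLoc.isInvertible_pullback σ hL, inferInstance, fun z => ?_⟩
  obtain ⟨m, hm, b, hx, hU, ha⟩ := affGlocus_of_mem (x := σ z) (U := σ.opensRange) h ⟨z, rfl⟩
  obtain ⟨e, -⟩ := exists_pullPowIso σ hL m
  refine ⟨m, hm, e.hom.app ⊤ (pullSec σ b), ?_, le_top, ?_⟩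
  · rw [glocus_map_iso, glocus_pullSec σ (isInvertible_tensorPow hL m)]; exact hx
  · rw [glocus_map_iso, glocus_pullSec σ (isInvertible_tensorPow hL m)]
    exact ha.preimage_of_isOpenImmersion σ hU

/-- On a quasi-affine scheme every invertible module is ample. -/
theorem isAmple_of_isQuasiAffine [X.IsQuasiAffine] (hL : PicF.IsInvertible L) : CohB1.IsAmple L := by
  refine isAmple_iff_affGlocus.2 ⟨hL, inferInstance, fun x => ?_⟩
  have := isQCoh_of_isInvertible hL
  obtain ⟨W, hxW, g, hg⟩ := exists_isGen hL x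
  obtain ⟨_, ⟨r, hr, rfl⟩, hxr, hrW⟩ :=
    Opens.isBasis_iff_nbhd.1 (Scheme.IsQuasiAffine.isBasis_basicOpen X) hxW
  let s : Γ(Coh.structureModule X, ⊤) := r
  have hs : glocus (Coh.structureModule X) s = X.basicOpen r := glocus_structureModule r
  have hsW : glocus (Coh.structureModule X) s ≤ W := hs.le.trans hrW
  obtain ⟨n, t, ht⟩ := exists_extend L s isInvertible_structureModule (resM L hsW g)
  have hP := isInvertible_tensorPow (isInvertible_structureModule (X := X)) n
  have hgen : IsGen (CohB1.tensorMod L (CohB1.tensorPow (Coh.structureModule X) n))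
      (glocus (Coh.structureModule X) s) (tmul (resM L hsW g) (powSec (resM _ le_top s) n)) :=
    isGen_tmul (hg.restrict hsW) (isGen_powSec (isGen_glocus s) n)
  let d : Γ(CohB1.tensorMod L (CohB1.tensorPow (Coh.structureModule X) n), ⊤) := r • t
  have hd : glocus _ d = X.basicOpen r := by
    rw [glocus_smul_eq (isInvertible_tensorMod hL hP), inf_eq_right, ← hs, le_glocus_iff, ht]
    exact hgen
  -- move to the first power of `L`
  obtain ⟨ePow, -⟩ : ∃ e : CohB1.tensorPow (Coh.structureModule X) n ≅ Coh.structureModule X, True := by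
    obtain ⟨e, -⟩ := exists_iso_of_gens (fun _ : PUnit.{u + 1} => (⊤ : X.Opens)) (ciSup_const)
      (fun _ => powSec (oneSec (⊤ : X.Opens)) n) (fun _ => isGen_powSec (isGen_oneSec ⊤) n)
      (fun _ => oneSec (⊤ : X.Opens)) (fun _ => isGen_oneSec ⊤) (by
        intro i j V hi hj c hc
        rw [resM_powSec, resM_oneSec] at hc
        have := ((isGen_powSec (isGen_oneSec V) n) V le_rfl).1 (a₁ := 1) (a₂ := c) (by simpa only [resM_self, one_smul] using hc)
        rw [← this, one_smul])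
    exact ⟨e, trivial⟩
  let e : CohB1.tensorMod L (CohB1.tensorPow (Coh.structureModule X) n) ≅ CohB1.tensorPow L 1 :=
    tensorIso (Iso.refl L) ePow ≪≫ tensorComm _ _
  exact ⟨1, one_pos, e.hom.app ⊤ d, by rw [glocus_map_iso, hd]; exact hxr, le_top,
    by rw [glocus_map_iso, hd]; exact hr⟩

/-- Finite sets of points of a scheme with an ample module lie in affine loci of sections. -/
theorem exists_affine_glocus_finite (hL : CohB1.IsAmple L) (Z : Set X) (hZ : Z.Finite) (hZU : Z ⊆ U) :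
    ∃ m : ℕ, 0 < m ∧ ∃ b : Γ(CohB1.tensorPow L m, ⊤),
      Z ⊆ glocus _ b ∧ glocus _ b ≤ U ∧ IsAffineOpen (glocus _ b) := by
  classical
  obtain ⟨hinv, hc, -⟩ := isAmple_iff_affGlocus.1 hL
  -- points of `Z` which are not generalisations of other points of `Z`
  let Z₀ : Set X := {z ∈ Z | ∀ w ∈ Z, z ⤳ w → w = z}
  have hZ₀ : ∀ z ∈ Z, ∃ w ∈ Z₀, z ⤳ w := by
    intro z hz
    obtain ⟨w, hw, hmin⟩ := (hZ.subset (Set.sep_subset Z (fun w => z ⤳ w))).exists_minimal ⟨z, hz, specializes_rfl⟩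
    exact ⟨w, ⟨hw.1, fun v hv hwv => ((show v ⤳ w from hmin ⟨hv, hw.2.trans hwv⟩ hwv).antisymm hwv).eq⟩, hw.2⟩
  have hfin : Z₀.Finite := hZ.subset (Set.sep_subset _ _)
  have := hfin.fintype
  have hsep : ∀ z : Z₀, AffGlocus L z.1 (U ⊓ ⟨(⋃ w ∈ Z₀ \ {z.1}, closure {w})ᶜ,
      ((hfin.subset Set.sdiff_subset).isClosed_biUnion fun _ _ => isClosed_closure).isOpen_compl⟩) := fun z => by
    refine affGlocus_of_mem hL ⟨hZU z.2.1, fun h => ?_⟩
    obtain ⟨w, hw, hzw⟩ := Set.mem_iUnion₂.1 h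
    exact hw.2 (hw.1.2 z.1 z.2.1 (specializes_iff_mem_closure.2 hzw)).symm
  choose m hm b hxb hbU hb using hsep
  let N := ∏ z, m z
  have hN : 0 < N := Finset.prod_pos fun z _ => hm z
  have hpow : ∀ z, ∃ c : Γ(CohB1.tensorPow L N, ⊤), glocus _ c = glocus _ (b z) := fun z => by
    obtain ⟨k, hk⟩ : m z ∣ N := Finset.dvd_prod_of_mem m (Finset.mem_univ z)
    have hk0 : 0 < k := Nat.pos_of_mul_pos_left (hk ▸ hN)
    have key : ∀ l, l = m z * k → ∃ c : Γ(CohB1.tensorPow L l, ⊤), glocus _ c = glocus _ (b z) := by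
      rintro _ rfl; exact exists_glocus_pow hinv (m z) (b z) k hk0
    exact key N hk
  choose c hc using hpow
  have hP := isInvertible_tensorPow hinv N
  let s : Γ(CohB1.tensorPow L N, ⊤) := ∑ z, c z
  have hmem : ∀ z : Z₀, z.1 ∈ glocus _ s := by
    intro z
    obtain ⟨W, hzW, g, hg⟩ := exists_isGen hP z.1
    have h1 := glocus_inf s hg
    have hsum : hg.coef le_rfl (resM _ le_top s) = ∑ w, hg.coef le_rfl (resM _ le_top (c w)) := by
      refine hg.coef_eq _ ?_
      rw [resM_self, Finset.sum_smul, map_sum]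
      refine Finset.sum_congr rfl fun w _ => ?_
      have := hg.coef_spec le_rfl (resM _ le_top (c w))
      rwa [resM_self] at this
    suffices z.1 ∈ X.basicOpen (hg.coef le_rfl (resM _ le_top s)) from (h1.ge this).1
    rw [Scheme.mem_basicOpen _ _ _ hzW, hsum, map_sum, ← Finset.add_sum_erase _ _ (Finset.mem_univ z)]
    have hrest : ∑ w ∈ Finset.univ.erase z, X.presheaf.germ W z.1 hzW (hg.coef le_rfl (resM _ le_top (c w))) ∈
        IsLocalRing.maximalIdeal (X.presheaf.stalk z.1) := by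
      refine Ideal.sum_mem _ fun w hw => ?_
      rw [IsLocalRing.mem_maximalIdeal, mem_nonunits_iff, ← Scheme.mem_basicOpen, ← glocus_inf (c w) hg, hc]
      intro h
      exact (hbU w h.1).2 (Set.mem_biUnion (show z.1 ∈ Z₀ \ {w.1} from
        ⟨z.2, fun e => (Finset.mem_erase.1 hw).1 (Subtype.ext e).symm⟩) (subset_closure rfl))
    have hu : IsUnit (X.presheaf.germ W z.1 hzW (hg.coef le_rfl (resM _ le_top (c z)))) := by
      rw [← Scheme.mem_basicOpen, ← glocus_inf (c z) hg, hc]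
      exact ⟨hxb z, hzW⟩
    by_contra hn
    rw [← mem_nonunits_iff, ← IsLocalRing.mem_maximalIdeal] at hn
    have h := (IsLocalRing.maximalIdeal (X.presheaf.stalk z.1)).sub_mem hn hrest
    rw [add_sub_cancel_right] at h
    exact (IsLocalRing.mem_maximalIdeal _).1 h hu
  have hZs : Z ⊆ glocus _ s := fun z hz => by
    obtain ⟨w, hw, hzw⟩ := hZ₀ z hz
    exact hzw.mem_open (glocus _ s).2 (hmem ⟨w, hw⟩)
  let T := glocus (CohB1.tensorPow L N) s
  have hgT := isGen_glocus (L := CohB1.tensorPow L N) s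
  let f : Z₀ → Γ(X, T) := fun z => hgT.coef le_rfl (resM _ le_top (c z))
  have hf : ∀ z, X.basicOpen (f z) = T ⊓ glocus _ (b z) := fun z => by
    rw [← glocus_inf (c z) hgT, hc, inf_comm]
  have hsum : ∑ z, f z = 1 := by
    refine (hgT T le_rfl).1 ?_
    show (∑ z, f z) • resM _ le_rfl _ = (1 : Γ(X, T)) • resM _ le_rfl _
    rw [Finset.sum_smul, one_smul, resM_self]
    refine (Finset.sum_congr rfl fun z _ => ?_).trans (map_sum (resM _ (le_top : T ≤ ⊤)) c Finset.univ).symm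
    have := hgT.coef_spec le_rfl (resM _ le_top (c z))
    rwa [resM_self] at this
  refine ⟨N, hN, s, hZs, fun x hx => ?_, ?_⟩
  · by_contra hxU
    obtain ⟨z, hz⟩ : ∃ z, x ∈ X.basicOpen (f z) := by
      by_contra hall
      push Not at hall
      have h1 : (1 : X.presheaf.stalk x) ∈ IsLocalRing.maximalIdeal (X.presheaf.stalk x) := by
        rw [← map_one (X.presheaf.germ T x hx).hom, ← hsum, map_sum]
        refine Ideal.sum_mem _ fun z _ => ?_
        rw [IsLocalRing.mem_maximalIdeal, mem_nonunits_iff, ← Scheme.mem_basicOpen]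
        exact hall z
      exact (IsLocalRing.mem_maximalIdeal _).1 h1 isUnit_one
    rw [hf] at hz
    exact hxU (hbU z hz.2).1
  · refine isAffineOpen_of_isAffineOpen_basicOpen T (Set.range f) ?_ ?_
    · rw [Ideal.eq_top_iff_one, ← hsum]
      exact Ideal.sum_mem _ fun z _ => Ideal.subset_span ⟨z, rfl⟩
    · rintro _ ⟨z, rfl⟩
      rw [hf]
      exact isAffineOpen_glocus_inf hP s (hb z)

/-- A scheme with an ample module whose inverse is ample is quasi-affine. -/
theorem isQuasiAffine_of_ample_inverse [CompactSpace X] (hinv : ClSub.IsInverseOf L M)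
    (hL : CohB1.IsAmple L) (hM : CohB1.IsAmple M) : X.IsQuasiAffine := by
  obtain ⟨e₀⟩ := hinv
  refine Scheme.IsQuasiAffine.of_forall_exists_mem_basicOpen X fun x => ?_
  obtain ⟨hLi, -, h1⟩ := isAmple_iff_affGlocus.1 hL
  obtain ⟨hMi, -, h2⟩ := isAmple_iff_affGlocus.1 hM
  obtain ⟨m, hm, a, hxa, -, haa⟩ := h1 x
  obtain ⟨n, hn, b, hxb, -, -⟩ := h2 x
  obtain ⟨a', ha'⟩ := exists_glocus_pow hLi m a n hn
  obtain ⟨b', hb'⟩ := exists_glocus_pow hMi n b m hm
  have key : ∀ k, k = m * n → ∃ b'' : Γ(CohB1.tensorPow M k, ⊤), glocus _ b'' = glocus _ b := by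
    intro k hk
    obtain rfl : k = n * m := hk.trans (mul_comm m n)
    exact ⟨b', hb'⟩
  obtain ⟨b'', hb''⟩ := key _ rfl
  obtain ⟨e₁, -⟩ := exists_powTensorIso hLi hMi (m * n)
  obtain ⟨e₂, -⟩ := exists_iso_of_gens (fun _ : PUnit.{u + 1} => (⊤ : X.Opens)) (ciSup_const)
      (fun _ => powSec (oneSec (⊤ : X.Opens)) (m * n)) (fun _ => isGen_powSec (isGen_oneSec ⊤) (m * n))
      (fun _ => oneSec (⊤ : X.Opens)) (fun _ => isGen_oneSec ⊤) (by
        intro i j V hi hj c hc
        rw [resM_powSec, resM_oneSec] at hc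
        have := ((isGen_powSec (isGen_oneSec V) (m * n)) V le_rfl).1 (a₁ := 1) (a₂ := c) (by simpa only [resM_self, one_smul] using hc)
        rw [← this, one_smul])
  let e := e₁.symm ≪≫ powIsoOfIso e₀ (m * n) ≪≫ e₂
  let r : Γ(X, ⊤) := e.hom.app ⊤ (tmul a' b'')
  have hr : X.basicOpen r = glocus _ a ⊓ glocus _ b := by
    rw [← glocus_structureModule]
    refine (glocus_map_iso e (tmul a' b'')).trans ?_
    rw [glocus_tmul (isInvertible_tensorPow hLi _) (isInvertible_tensorPow hMi _), ha', hb'']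
  refine ⟨r, ?_, hr ▸ ⟨hxa, hxb⟩⟩
  rw [hr, inf_comm]
  exact isAffineOpen_glocus_inf (isInvertible_tensorPow hMi n) b haa

end Groth.Agent.AmpleLib
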