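import Groth.Agent.AmpleLib.Detect
import Groth.Agent.FlatMorStrata.Extend
import Groth.Prelude.Def_BlowUp2

/-!
# Finite type ideals with prescribed zero locus
-/

set_option autoImplicit false
set_option backward.isDefEq.respectTransparency.types false

universe u

open CategoryTheory CategoryTheory.Limits AlgebraicGeometry Opposite TopologicalSpace
open Groth.Agent.Coherent Groth.Agent.PicLib

namespace Groth.Agent.AmpleLib

variable {X : Scheme.{u}} (I : X.IdealSheafData)

theorem mem_range_idealModι (W : X.Opens) (f : Γ(X, W)) :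
    (∃ k, (ClSub.idealModι I).app W k = f) ↔ I.subschemeι.app W f = 0 := by
  constructor
  · rintro ⟨k, rfl⟩
    exact kernel_ι_app_zero (ClSub.toSubscheme I) W k
  · exact fun h => kernel_sections_exact (ClSub.toSubscheme I) (U := W) f h

theorem basicOpen_idealModι_le (W : X.Opens) (k : Γ(ClSub.idealMod I, W)) :
    X.basicOpen (show Γ(X, W) from (ClSub.idealModι I).app W k) ≤ ⟨(I.support : Set X)ᶜ, I.support.2.isOpen_compl⟩ := by
  intro z hz hzs
  obtain ⟨w, rfl⟩ : z ∈ Set.range I.subschemeι := I.range_subschemeι.superset hzs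
  have : w ∈ I.subschemeι ⁻¹ᵁ X.basicOpen (show Γ(X, W) from (ClSub.idealModι I).app W k) := hz
  rw [Scheme.preimage_basicOpen, (mem_range_idealModι I W _).1 ⟨k, rfl⟩, Scheme.basicOpen_zero] at this
  exact this

theorem exists_idealModι_eq_one :
    ∃ k, (ClSub.idealModι I).app ⟨(I.support : Set X)ᶜ, I.support.2.isOpen_compl⟩ k =
      (1 : Γ(X, ⟨(I.support : Set X)ᶜ, I.support.2.isOpen_compl⟩)) := by
  refine (mem_range_idealModι I _ _).2 ?_
  let O : X.Opens := ⟨(I.support : Set X)ᶜ, I.support.2.isOpen_compl⟩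
  have hbot : I.subschemeι ⁻¹ᵁ O = ⊥ := Opens.ext (Set.eq_empty_of_forall_notMem fun w hw =>
    hw (I.range_subschemeι.subset ⟨w, rfl⟩))
  have : Subsingleton Γ(I.subscheme, I.subschemeι ⁻¹ᵁ O) := by
    rw [hbot]
    exact CommRingCat.subsingleton_of_isTerminal I.subscheme.sheaf.isTerminalOfEmpty
  exact this.elim _ _

theorem mono_idealModι : Mono (ClSub.idealModι I) :=
  inferInstanceAs (Mono (kernel.ι (ClSub.toSubscheme I)))

theorem isCoh_idealMod (hI : ∀ U : X.affineOpens, (I.ideal U).FG) : Coh.IsCoh (ClSub.idealMod I) := by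
  have : Coh.IsQCoh (Coh.structureModule X) := isQCoh_structureModule (X := X)
  have : Coh.IsQCoh (Coh.structureModule I.subscheme) := isQCoh_structureModule (X := I.subscheme)
  have : Coh.IsQCoh ((Scheme.Modules.pushforward I.subschemeι).obj (Coh.structureModule I.subscheme)) :=
    isQCoh_push I.subschemeι _
  refine (isCoh_iff_finite_sections _).2 ⟨isQCoh_kernel (ClSub.toSubscheme I), fun U hU => ?_⟩
  have := mono_idealModι I
  let φ : Γ(ClSub.idealMod I, U) →ₗ[Γ(X, U)] Γ(X, U) := appLin (ClSub.idealModι I) U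
  have hrange : LinearMap.range φ = I.ideal ⟨U, hU⟩ := by
    ext f
    rw [← I.ker_subschemeι_app ⟨U, hU⟩, RingHom.mem_ker, LinearMap.mem_range]
    exact mem_range_idealModι I U f
  have : Module.Finite Γ(X, U) (LinearMap.range φ) := by
    rw [hrange]; exact Module.Finite.iff_fg.2 (hI ⟨U, hU⟩)
  exact Module.Finite.equiv (LinearEquiv.ofInjective φ (app_injective_of_mono (ClSub.idealModι I) U)).symm

/-- A finite type ideal cutting out the complement of an affine open. -/
theorem exists_idealMod_compl [CompactSpace X] [QuasiSeparatedSpace X] {U : X.Opens} (hU : IsAffineOpen U) :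
    ∃ I : X.IdealSheafData, BlowUp.IsFiniteTypeIdeal I ∧ Coh.IsCoh (ClSub.idealMod I) ∧
      (⟨(I.support : Set X)ᶜ, I.support.2.isOpen_compl⟩ : X.Opens) = U := by
  obtain ⟨G, hG, hGs⟩ := FlatMorStrata.exists_fg_support_compl ⟨U, hU⟩
  exact ⟨G, hG, isCoh_idealMod G hG, Opens.ext (by rw [Opens.coe_mk, hGs, compl_compl])⟩

variable {L : X.Modules}

/-- The multiplication map of the twisted ideal. -/
noncomputable def twistMul (L : X.Modules) : CohB1.tensorMod (ClSub.idealMod I) L ⟶ L :=
  tensorMap (ClSub.idealModι I) (𝟙 L) ≫ (unitTensorIso L).hom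

theorem twistMul_tmul (W : X.Opens) (k : Γ(ClSub.idealMod I, W)) (l : Γ(L, W)) :
    (twistMul I L).app W (tmul k l) = (show Γ(X, W) from (ClSub.idealModι I).app W k) • l := by
  show (unitTensorIso L).hom.app W ((tensorMap _ _).app W (tmul k l)) = _
  rw [tensorMap_tmul]
  exact Bilin.desc_tmul _ _ _ _

theorem hitsAt_twistMul (hL : PicF.IsInvertible L) {x : X} (hx : x ∉ I.support) :
    HitsAt (twistMul I L) x := by
  obtain ⟨k, hk⟩ := exists_idealModι_eq_one I
  obtain ⟨W, hxW, g, hg⟩ := exists_isGen hL x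
  let O : X.Opens := ⟨(I.support : Set X)ᶜ, I.support.2.isOpen_compl⟩
  refine ⟨O ⊓ W, tmul (resM _ inf_le_left k) (resM L inf_le_right g), ⟨hx, hxW⟩, ?_⟩
  rw [twistMul_tmul, app_resM, hk]
  refine (isGen_smul_iff ?_).2 (hg.restrict _)
  exact (isUnit_one.map (res (inf_le_left : O ⊓ W ≤ O)))

theorem glocus_twistMul_le (hL : PicF.IsInvertible L) (z : Γ(CohB1.tensorMod (ClSub.idealMod I) L, ⊤)) :
    glocus L ((twistMul I L).app ⊤ z) ≤ ⟨(I.support : Set X)ᶜ, I.support.2.isOpen_compl⟩ := by
  intro y hy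
  obtain ⟨W, hyW, g, hg⟩ := exists_isGen hL y
  obtain ⟨k, hk⟩ := (bijective_tmul_gen (M := ClSub.idealMod I) hg W le_rfl).2 (resM _ le_top z)
  simp only [resM_self] at hk
  refine basicOpen_idealModι_le I W k ?_
  have h1 : resM L (le_top : W ≤ ⊤) ((twistMul I L).app ⊤ z) =
      (show Γ(X, W) from (ClSub.idealModι I).app W k) • g := by
    rw [← app_resM, ← hk, twistMul_tmul]
  have h2 := (glocus_inf ((twistMul I L).app ⊤ z) hg).le ⟨hy, hyW⟩
  rwa [IsGen.coef_eq _ _ (by rw [resM_self]; exact h1.symm)] at h2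

end Groth.Agent.AmpleLib
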