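import Groth.Agent.AmpleLib.Power

/-!
# The locus where a section generates

`genLocus L s` is described through generators; `glocus a` is the locus of a global section `a ∈ Γ(L, ⊤)`.
-/

set_option autoImplicit false
set_option backward.isDefEq.respectTransparency.types false

universe u

open CategoryTheory CategoryTheory.Limits AlgebraicGeometry Opposite TopologicalSpace
open Groth.Agent.Coherent Groth.Agent.PicLib

namespace Groth.Agent.AmpleLib

variable {X : Scheme.{u}} {L M : X.Modules} {U V : X.Opens}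

theorem unitDesc_unitVal (s : Coh.structureModule X ⟶ L) : unitDesc L (unitVal s ⊤) = s := by
  refine Scheme.Modules.hom_ext _ _ fun V => ConcreteCategory.hom_ext _ _ fun r => ?_
  rw [app_unit (unitDesc L (unitVal s ⊤)), app_unit s, unitVal_unitDesc, resM_unitVal]

theorem unitDesc_inj {a b : Γ(L, ⊤)} (h : unitDesc L a = unitDesc L b) : a = b := by
  have := congrArg (fun φ => unitVal φ (⊤ : X.Opens)) h
  simpa only [unitVal_unitDesc, resM_self] using this

theorem isIso_restrict_iff (s : Coh.structureModule X ⟶ L) (U : X.Opens) :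
    IsIso ((Scheme.Modules.restrictFunctor U.ι).map s) ↔ IsGen L U (unitVal s U) := by
  rw [Scheme.Modules.Hom.isIso_iff_isIso_app]
  have key : ∀ (W : U.toScheme.Opens) (h : U.ι ''ᵁ W ≤ U),
      IsIso (((Scheme.Modules.restrictFunctor U.ι).map s).app W) ↔
        Function.Bijective (fun r : Γ(X, U.ι ''ᵁ W) => r • resM L h (unitVal s U)) := fun W h => by
    rw [ConcreteCategory.isIso_iff_bijective, resM_unitVal]
    have : (fun r : Γ(X, U.ι ''ᵁ W) => r • unitVal s (U.ι ''ᵁ W)) = s.app (U.ι ''ᵁ W) :=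
      funext fun r => (app_unit s r).symm
    rw [this]
    rfl
  constructor
  · intro h V hV
    obtain ⟨W, rfl⟩ : ∃ W : U.toScheme.Opens, U.ι ''ᵁ W = V := by
      refine ⟨U.ι ⁻¹ᵁ V, ?_⟩
      rw [U.ι.image_preimage_eq_opensRange_inf, Scheme.Opens.opensRange_ι, inf_eq_right]
      exact hV
    exact (key W hV).1 (h W)
  · intro h W
    have hW : U.ι ''ᵁ W ≤ U := (U.ι.image_mono le_top).trans (Scheme.Opens.ι_image_top U).le
    exact (key W hW).2 (h _ hW)

theorem mem_genLocus_iff (s : Coh.structureModule X ⟶ L) (x : X) :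
    x ∈ CohB1.genLocus L s ↔ ∃ U : X.Opens, x ∈ U ∧ IsGen L U (unitVal s U) := by
  refine ⟨fun h => ?_, fun ⟨U, hx, hU⟩ => Opens.mem_sSup.2 ⟨U, (isIso_restrict_iff s U).2 hU, hx⟩⟩
  obtain ⟨U, hU, hx⟩ := Opens.mem_sSup.1 h
  exact ⟨U, hx, (isIso_restrict_iff s U).1 hU⟩

theorem le_genLocus_iff (s : Coh.structureModule X ⟶ L) (U : X.Opens) :
    U ≤ CohB1.genLocus L s ↔ IsGen L U (unitVal s U) := by
  refine ⟨fun h => ?_, fun h x hx => (mem_genLocus_iff s x).2 ⟨U, hx, h⟩⟩
  choose W hW hg using fun x : U => (mem_genLocus_iff s x.1).1 (h x.2)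
  refine isGen_of_cover (fun x : U => U ⊓ W x) (fun _ => inf_le_left)
    (fun x hx => Opens.mem_iSup.2 ⟨⟨x, hx⟩, hx, hW ⟨x, hx⟩⟩) fun x => ?_
  have := (hg x).restrict (inf_le_right : U ⊓ W x ≤ W x)
  rw [resM_unitVal] at this ⊢
  exact this

theorem isGen_genLocus (s : Coh.structureModule X ⟶ L) :
    IsGen L (CohB1.genLocus L s) (unitVal s (CohB1.genLocus L s)) :=
  (le_genLocus_iff s _).1 le_rfl

theorem genLocus_inf_eq_basicOpen (s : Coh.structureModule X ⟶ L) {g : Γ(L, U)} (hg : IsGen L U g) :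
    CohB1.genLocus L s ⊓ U = X.basicOpen (hg.coef le_rfl (unitVal s U)) := by
  let c := hg.coef le_rfl (unitVal s U)
  have hc : c • g = unitVal s U := by simpa only [resM_self] using hg.coef_spec le_rfl (unitVal s U)
  refine le_antisymm (fun x hx => ?_) (le_inf ?_ (X.basicOpen_le c))
  · obtain ⟨W, hxW, hW⟩ := (mem_genLocus_iff s x).1 hx.1
    have h1 : IsGen L (W ⊓ U) (unitVal s (W ⊓ U)) := by
      have := hW.restrict (inf_le_left : W ⊓ U ≤ W)
      rwa [resM_unitVal] at this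
    have h2 := (hg.restrict (inf_le_right : W ⊓ U ≤ U)).isUnit_coef h1
    have h3 : (hg.restrict (inf_le_right : W ⊓ U ≤ U)).coef le_rfl (unitVal s (W ⊓ U)) = res inf_le_right c := by
      refine IsGen.coef_eq _ _ ?_
      rw [resM_resM, ← resM_smul, hc, resM_unitVal]
    rw [h3] at h2
    rw [Scheme.mem_basicOpen _ _ _ hx.2]
    have := h2.map (X.presheaf.germ (W ⊓ U) x ⟨hxW, hx.2⟩).hom
    erw [TopCat.Presheaf.germ_res_apply] at this
    exact this
  · rw [le_genLocus_iff]
    have hu : IsUnit (res (X.basicOpen_le c) c) := RingedSpace.isUnit_res_basicOpen _ c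
    obtain ⟨w, hw⟩ := hu
    have := (hg.restrict (X.basicOpen_le c)).smul_unit w
    rw [hw, ← resM_smul, hc, resM_unitVal] at this
    exact this

theorem genLocus_comp_iso (s : Coh.structureModule X ⟶ L) (e : L ≅ M) :
    CohB1.genLocus M (s ≫ e.hom) = CohB1.genLocus L s := by
  refine congrArg sSup (Set.ext fun U => ?_)
  show IsIso _ ↔ IsIso _
  rw [Functor.map_comp]
  exact ⟨fun _ => IsIso.of_isIso_comp_right _ ((Scheme.Modules.restrictFunctor U.ι).map e.hom),
    fun _ => inferInstance⟩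

/-- The locus where a global section generates. -/
noncomputable def glocus (L : X.Modules) (a : Γ(L, ⊤)) : X.Opens := CohB1.genLocus L (unitDesc L a)

theorem genLocus_eq_glocus (s : Coh.structureModule X ⟶ L) :
    CohB1.genLocus L s = glocus L (unitVal s ⊤) := by
  rw [glocus, unitDesc_unitVal]

theorem le_glocus_iff (a : Γ(L, ⊤)) (U : X.Opens) :
    U ≤ glocus L a ↔ IsGen L U (resM L le_top a) := by
  rw [glocus, le_genLocus_iff, unitVal_unitDesc]

theorem isGen_glocus (a : Γ(L, ⊤)) : IsGen L (glocus L a) (resM L le_top a) :=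
  (le_glocus_iff a _).1 le_rfl

theorem glocus_inf (a : Γ(L, ⊤)) {g : Γ(L, U)} (hg : IsGen L U g) :
    glocus L a ⊓ U = X.basicOpen (hg.coef le_rfl (resM L le_top a)) := by
  rw [glocus, genLocus_inf_eq_basicOpen _ hg, unitVal_unitDesc]

theorem glocus_map_iso (e : L ≅ M) (a : Γ(L, ⊤)) : glocus M (e.hom.app ⊤ a) = glocus L a := by
  have : unitDesc L a ≫ e.hom = unitDesc M (e.hom.app ⊤ a) := by
    conv_lhs => rw [← unitDesc_unitVal (unitDesc L a ≫ e.hom)]
    refine congrArg (unitDesc M) ?_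
    show e.hom.app ⊤ (unitVal (unitDesc L a) ⊤) = _
    rw [unitVal_unitDesc, resM_self]
  rw [glocus, ← this, genLocus_comp_iso]
  rfl

theorem glocus_oneSec : glocus (Coh.structureModule X) (oneSec ⊤) = ⊤ := by
  rw [eq_top_iff, le_glocus_iff, resM_self]
  exact isGen_oneSec ⊤

theorem glocus_tmul (hL : PicF.IsInvertible L) (hM : PicF.IsInvertible M) (a : Γ(L, ⊤)) (b : Γ(M, ⊤)) :
    glocus (CohB1.tensorMod L M) (tmul a b) = glocus L a ⊓ glocus M b := by
  refine le_antisymm (fun x hx => ?_) ?_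
  · obtain ⟨U, hxU, g, hg⟩ := exists_isGen hL x
    obtain ⟨V, hxV, g', hg'⟩ := exists_isGen hM x
    have h1 := hg.restrict (inf_le_left : U ⊓ V ≤ U)
    have h2 := hg'.restrict (inf_le_right : U ⊓ V ≤ V)
    have hmem : x ∈ glocus (CohB1.tensorMod L M) (tmul a b) ⊓ (U ⊓ V) := ⟨hx, hxU, hxV⟩
    rw [glocus_inf _ (isGen_tmul h1 h2)] at hmem
    have hc : (isGen_tmul h1 h2).coef le_rfl (resM (CohB1.tensorMod L M) le_top (tmul a b)) =
        h1.coef le_rfl (resM L le_top a) * h2.coef le_rfl (resM M le_top b) := by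
      refine IsGen.coef_eq _ _ ?_
      rw [resM_self, resM_tmul, ← tmul_smul_smul]
      have e1 := h1.coef_spec le_rfl (resM L le_top a)
      have e2 := h2.coef_spec le_rfl (resM M le_top b)
      rw [resM_self] at e1 e2
      rw [e1, e2]
    rw [hc, Scheme.basicOpen_mul, ← glocus_inf a h1, ← glocus_inf b h2] at hmem
    exact ⟨hmem.1.1, hmem.2.1⟩
  · rw [le_glocus_iff, resM_tmul]
    have h1 := (isGen_glocus a).restrict (inf_le_left : glocus L a ⊓ glocus M b ≤ glocus L a)
    have h2 := (isGen_glocus b).restrict (inf_le_right : glocus L a ⊓ glocus M b ≤ glocus M b)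
    rw [resM_resM] at h1 h2
    exact isGen_tmul h1 h2

theorem glocus_powSec (hL : PicF.IsInvertible L) (a : Γ(L, ⊤)) : ∀ n : ℕ,
    glocus (CohB1.tensorPow L (n + 1)) (powSec a (n + 1)) = glocus L a
  | 0 => by
    show glocus (CohB1.tensorMod _ L) (tmul (powSec a 0) a) = _
    rw [glocus_tmul (isInvertible_tensorPow hL 0) hL]
    show glocus (Coh.structureModule X) (oneSec ⊤) ⊓ _ = _
    rw [glocus_oneSec, top_inf_eq]
  | n + 1 => by
    show glocus (CohB1.tensorMod _ L) (tmul (powSec a (n + 1)) a) = _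
    rw [glocus_tmul (isInvertible_tensorPow hL (n + 1)) hL, glocus_powSec hL a n, inf_idem]

theorem isGen_smul_iff {s : Γ(L, U)} {r : Γ(X, U)} (hr : IsUnit r) : IsGen L U (r • s) ↔ IsGen L U s := by
  obtain ⟨w, rfl⟩ := hr
  refine ⟨fun h => ?_, fun h => h.smul_unit w⟩
  have := h.smul_unit w⁻¹
  rwa [smul_smul, Units.inv_mul, one_smul] at this

theorem glocus_smul {r : Γ(X, ⊤)} (hr : IsUnit r) (a : Γ(L, ⊤)) : glocus L (r • a) = glocus L a := by
  refine eq_of_forall_le_iff fun W => ?_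
  rw [le_glocus_iff, le_glocus_iff, resM_smul, isGen_smul_iff (hr.map _)]

section Pullback

variable {Z : Scheme.{u}} (σ : Z ⟶ X)

theorem pullback_map_app_pullSec {L' : X.Modules} (φ : L ⟶ L') (g : Γ(L, U)) :
    ((Scheme.Modules.pullback σ).map φ).app (σ ⁻¹ᵁ U) (pullSec σ g) = pullSec σ (φ.app U g) :=
  (ConcreteCategory.congr_hom (congrArg (fun α => α.app U)
    ((Scheme.Modules.pullbackPushforwardAdjunction σ).unit.naturality φ)) g).symm

theorem glocus_pullSec (hL : PicF.IsInvertible L) (a : Γ(L, ⊤)) :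
    glocus ((Scheme.Modules.pullback σ).obj L) (pullSec σ a) = σ ⁻¹ᵁ glocus L a := by
  refine Opens.ext (Set.ext fun z => ?_)
  obtain ⟨U, hzU, g, hg⟩ := exists_isGen hL (σ z)
  have hg' := isGen_pullSec σ hg hL
  have h1 := glocus_inf a hg
  have h2 := glocus_inf (L := (Scheme.Modules.pullback σ).obj L) (pullSec σ a) hg'
  have hc : hg'.coef le_rfl (resM _ (le_top : σ ⁻¹ᵁ U ≤ ⊤) (pullSec σ a)) =
      σ.app U (hg.coef le_rfl (resM L le_top a)) := by
    refine IsGen.coef_eq _ _ ?_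
    rw [resM_self, ← pullSec_smul]
    have e1 := hg.coef_spec le_rfl (resM L le_top a)
    rw [resM_self] at e1
    rw [e1]
    exact (resM_pullSec σ (le_top : U ≤ ⊤) a).symm
  rw [hc, ← Scheme.preimage_basicOpen, ← h1] at h2
  have h3 : z ∈ glocus ((Scheme.Modules.pullback σ).obj L) (pullSec σ a) ⊓ σ ⁻¹ᵁ U ↔
      z ∈ σ ⁻¹ᵁ (glocus L a ⊓ U) := by rw [h2]
  constructor
  · intro hz
    exact (h3.1 ⟨hz, hzU⟩).1
  · intro hz
    exact (h3.2 ⟨hz, hzU⟩).1

end Pullback

end Groth.Agent.AmpleLib
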