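import Groth.Agent.AmpleLib.Sections
import Groth.Agent.AmpleLib.Ample
import Groth.Agent.Coherent.QcohLocal

/-!
# Twisting quasi-coherent modules by powers of an ample module
-/

set_option autoImplicit false
set_option backward.isDefEq.respectTransparency.types false

universe u

open CategoryTheory CategoryTheory.Limits AlgebraicGeometry Opposite TopologicalSpace
open Groth.Agent.Coherent Groth.Agent.PicLib

namespace Groth.Agent.AmpleLib

variable {X : Scheme.{u}} {L M : X.Modules} {U : X.Opens}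

/-- Isomorphisms preserve generators. -/
theorem isGen_map_iso (e : L ≅ M) {s : Γ(L, U)} (hs : IsGen L U s) : IsGen M U (e.hom.app U s) := fun V hV => by
  have hb := ConcreteCategory.bijective_of_isIso (e.hom.app V)
  convert hb.comp (hs V hV) using 1
  funext r
  show _ = e.hom.app V (r • resM L hV s)
  rw [Scheme.Modules.Hom.app_smul, app_resM]

section Assoc

variable {F : X.Modules}

/-- The defining property of the associativity map. -/
def IsAssocVal (U : X.Opens) (z : Γ(CohB1.tensorMod F L, U)) (w : Γ(M, U))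
    (e : Γ(CohB1.tensorMod F (CohB1.tensorMod L M), U)) : Prop :=
  ∀ (V : X.Opens) (h : V ≤ U) (g : Γ(L, V)), IsGen L V g → ∀ x : Γ(F, V),
    resM _ h z = tmul x g → resM _ h e = tmul x (tmul g (resM M h w))

theorem isAssocVal_unique (hL : PicF.IsInvertible L) {z : Γ(CohB1.tensorMod F L, U)} {w : Γ(M, U)}
    {e e' : Γ(CohB1.tensorMod F (CohB1.tensorMod L M), U)} (h : IsAssocVal U z w e) (h' : IsAssocVal U z w e') :
    e = e' := by
  refine sec_ext _ _ _ fun y hy => ?_
  obtain ⟨W, hyW, g, hg⟩ := exists_isGen hL y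
  have hg' : IsGen L (U ⊓ W) (resM L inf_le_right g) := hg.restrict inf_le_right
  obtain ⟨x, hx⟩ := (bijective_tmul_gen (M := F) hg' (U ⊓ W) le_rfl).2 (resM _ inf_le_left z)
  simp only [resM_self] at hx
  exact ⟨U ⊓ W, inf_le_left, ⟨hy, hyW⟩, (h _ inf_le_left _ hg' x hx.symm).trans (h' _ inf_le_left _ hg' x hx.symm).symm⟩

theorem IsAssocVal.res {V : X.Opens} (hVU : V ≤ U) {z : Γ(CohB1.tensorMod F L, U)} {w : Γ(M, U)}
    {e : Γ(CohB1.tensorMod F (CohB1.tensorMod L M), U)} (h : IsAssocVal U z w e) :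
    IsAssocVal V (resM _ hVU z) (resM M hVU w) (resM _ hVU e) := by
  intro W hW g hg x hx
  rw [resM_resM] at hx ⊢
  rw [resM_resM]
  exact h W (hW.trans hVU) g hg x hx

theorem isAssocVal_tmul (a : Γ(F, U)) (b : Γ(L, U)) (w : Γ(M, U)) :
    IsAssocVal U (tmul a b) w (tmul a (tmul b w)) := by
  intro V h g hg x hx
  rw [resM_tmul] at hx
  obtain ⟨c, hc⟩ : ∃ c : Γ(X, V), c • g = resM L h b := by
    obtain ⟨c, hc⟩ := (hg V le_rfl).2 (resM L h b)
    exact ⟨c, by simpa only [resM_self] using hc⟩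
  rw [← hc, tmul_smul_right, ← tmul_smul_left] at hx
  have hinj := (bijective_tmul_gen (M := F) hg V le_rfl).1
  have hx' : c • resM F h a = x := hinj (by simpa only [resM_self] using hx)
  rw [resM_tmul, resM_tmul, ← hc, ← hx', tmul_smul_left, tmul_smul_right, tmul_smul_left]

theorem exists_isAssocVal (hL : PicF.IsInvertible L) (z : Γ(CohB1.tensorMod F L, U)) (w : Γ(M, U)) :
    ∃ e, IsAssocVal U z w e := by
  choose W hyW g hg using exists_isGen hL
  have hx : ∀ y : U, ∃ x : Γ(F, U ⊓ W y.1), resM _ (inf_le_left : U ⊓ W y.1 ≤ U) z = tmul x (resM L inf_le_right (g y.1)) := fun y => by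
    obtain ⟨x, hx⟩ := (bijective_tmul_gen (M := F) ((hg y.1).restrict (inf_le_right : U ⊓ W y.1 ≤ W y.1)) _ le_rfl).2
      (resM _ inf_le_left z)
    simp only [resM_self] at hx
    exact ⟨x, hx.symm⟩
  choose x hx using hx
  let τ : ∀ y : U, Γ(CohB1.tensorMod F (CohB1.tensorMod L M), U ⊓ W y.1) := fun y =>
    tmul (x y) (tmul (resM L inf_le_right (g y.1)) (resM M inf_le_left w))
  have hτ : ∀ y, IsAssocVal (U ⊓ W y.1) (resM _ inf_le_left z) (resM M inf_le_left w) (τ y) := fun y => by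
    rw [hx y]; exact isAssocVal_tmul _ _ _
  obtain ⟨e, he, -⟩ := TopCat.Sheaf.existsUnique_gluing'
    (⟨(CohB1.tensorMod F (CohB1.tensorMod L M)).presheaf,
      (CohB1.tensorMod F (CohB1.tensorMod L M)).isSheaf⟩ : TopCat.Sheaf Ab X)
    (fun y : U => U ⊓ W y.1) U (fun y => homOfLE inf_le_left)
    (fun y hy => Opens.mem_iSup.2 ⟨⟨y, hy⟩, hy, hyW y⟩) τ (fun i j => by
      refine isAssocVal_unique hL (z := resM _ ((inf_le_left : (U ⊓ W i.1) ⊓ (U ⊓ W j.1) ≤ U ⊓ W i.1).trans inf_le_left) z)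
        (w := resM M ((inf_le_left : (U ⊓ W i.1) ⊓ (U ⊓ W j.1) ≤ U ⊓ W i.1).trans inf_le_left) w) ?_ ?_
      · have h := (hτ i).res (inf_le_left : (U ⊓ W i.1) ⊓ (U ⊓ W j.1) ≤ U ⊓ W i.1)
        rw [resM_resM, resM_resM] at h
        exact h
      · have h := (hτ j).res (inf_le_right : (U ⊓ W i.1) ⊓ (U ⊓ W j.1) ≤ U ⊓ W j.1)
        rw [resM_resM, resM_resM] at h
        exact h)
  refine ⟨e, fun V h g' hg' x' hx' => sec_ext _ _ _ fun y hy => ?_⟩
  have hi : V ⊓ W y ≤ U ⊓ W y := inf_le_inf_right _ h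
  refine ⟨V ⊓ W y, inf_le_left, ⟨hy, hyW y⟩, ?_⟩
  have h1 := (hτ ⟨y, h hy⟩) (V ⊓ W y) hi (resM L inf_le_left g') (hg'.restrict inf_le_left) (resM F inf_le_left x') (by
    have := congrArg (resM _ (inf_le_left : V ⊓ W y ≤ V)) hx'
    rw [resM_resM, resM_tmul] at this
    rw [resM_resM]
    exact this)
  rw [show τ ⟨y, h hy⟩ = resM _ (inf_le_left : U ⊓ W y ≤ U) e from (he ⟨y, h hy⟩).symm, resM_resM, resM_resM] at h1
  rw [resM_resM, h1, resM_tmul, resM_tmul, resM_resM]

/-- Reassociation, for an invertible middle factor. -/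
theorem exists_assocHom (F : X.Modules) (M : X.Modules) (hL : PicF.IsInvertible L) :
    ∃ α : CohB1.tensorMod (CohB1.tensorMod F L) M ⟶ CohB1.tensorMod F (CohB1.tensorMod L M),
      ∀ (U : X.Opens) (a : Γ(F, U)) (b : Γ(L, U)) (w : Γ(M, U)),
        α.app U (tmul (tmul a b) w) = tmul a (tmul b w) := by
  choose val hval using fun (U : X.Opens) (z : Γ(CohB1.tensorMod F L, U)) (w : Γ(M, U)) =>
    exists_isAssocVal hL z w
  have huniq : ∀ {U : X.Opens} {z : Γ(CohB1.tensorMod F L, U)} {w : Γ(M, U)}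
      {e : Γ(CohB1.tensorMod F (CohB1.tensorMod L M), U)}, IsAssocVal U z w e → val U z w = e :=
    fun h => isAssocVal_unique hL (hval _ _ _) h
  let f : Bilin (CohB1.tensorMod F L) M (CohB1.tensorMod F (CohB1.tensorMod L M)) :=
    { app := fun U z w => val U z w
      add_left := fun U z z' w => huniq fun V h g hg x hx => by
        obtain ⟨x₁, hx₁⟩ := (bijective_tmul_gen (M := F) hg V le_rfl).2 (resM _ h z)
        obtain ⟨x₂, hx₂⟩ := (bijective_tmul_gen (M := F) hg V le_rfl).2 (resM _ h z')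
        simp only [resM_self] at hx₁ hx₂
        have hxe : x = x₁ + x₂ := (bijective_tmul_gen (M := F) hg V le_rfl).1 (by
          simp only [resM_self]
          rw [← hx, map_add, ← hx₁, ← hx₂, tmul_add_left])
        rw [map_add, hval U z w V h g hg x₁ hx₁.symm, hval U z' w V h g hg x₂ hx₂.symm, hxe, tmul_add_left]
      add_right := fun U z w w' => huniq fun V h g hg x hx => by
        rw [map_add, hval U z w V h g hg x hx, hval U z w' V h g hg x hx, map_add, tmul_add_right, tmul_add_right]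
      smul_left := fun U r z w => huniq fun V h g hg x hx => by
        obtain ⟨x₁, hx₁⟩ := (bijective_tmul_gen (M := F) hg V le_rfl).2 (resM _ h z)
        simp only [resM_self] at hx₁
        have hxe : x = res h r • x₁ := (bijective_tmul_gen (M := F) hg V le_rfl).1 (by
          simp only [resM_self]
          rw [← hx, resM_smul, tmul_smul_left, ← hx₁])
        rw [resM_smul, hval U z w V h g hg x₁ hx₁.symm, hxe, tmul_smul_left]
      smul_right := fun U r z w => huniq fun V h g hg x hx => by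
        rw [resM_smul, hval U z w V h g hg x hx, resM_smul, tmul_smul_right, tmul_smul_right]
      res := fun U V h z w => (huniq ((hval U z w).res h)).symm }
  exact ⟨f.desc, fun U a b w => (f.desc_tmul _ _ _).trans (huniq (isAssocVal_tmul a b w))⟩

end Assoc

/-- Tensoring with an invertible module preserves quasi-coherence. -/
theorem isQCoh_tensor_invertible (F : X.Modules) [Coh.IsQCoh F] (hL : PicF.IsInvertible L) :
    Coh.IsQCoh (CohB1.tensorMod F L) := by
  choose W hyW g hg using exists_isGen hL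
  choose A hA hyA hAW using fun y : X => exists_isAffineOpen_mem_and_subset (x := y) (U := W y) (hyW y)
  refine isQCoh_of_localizesOn _ A hA (fun y => ⟨y, hyA y⟩) fun y => ⟨fun f s => ?_, fun f t ht => ?_⟩
  · have hle : X.basicOpen f ≤ W y := (X.basicOpen_le f).trans fun z hz => hAW y hz
    obtain ⟨a, ha⟩ := (bijective_tmul_gen (M := F) (hg y) _ hle).2 s
    obtain ⟨n, t, ht⟩ := qcoh_exists_pow_smul (hA y) F f a
    refine ⟨n, tmul t (resM L (fun z hz => hAW y hz) (g y)), ?_⟩
    rw [resM_tmul, resM_resM, ht, tmul_smul_left]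
    exact congrArg (_ • ·) ha
  · obtain ⟨a, rfl⟩ := (bijective_tmul_gen (M := F) (hg y) _ (fun z hz => hAW y hz : A y ≤ W y)).2 t
    have ht' : tmul (resM F (X.basicOpen_le f) a) (resM L ((X.basicOpen_le f).trans fun z hz => hAW y hz) (g y)) = 0 := by
      rw [← resM_resM L (fun z hz => hAW y hz : A y ≤ W y) (X.basicOpen_le f), ← resM_tmul]
      exact ht
    have h0 : resM F (X.basicOpen_le f) a = 0 :=
      (bijective_tmul_gen (M := F) (hg y) _ ((X.basicOpen_le f).trans fun z hz => hAW y hz)).1 (ht'.trans (tmul_zero_left _).symm)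
    obtain ⟨n, hn⟩ := qcoh_exists_pow_smul_eq_zero (hA y) F f a h0
    refine ⟨n, ?_⟩
    show f ^ n • tmul a _ = 0
    rw [← tmul_smul_left, hn, tmul_zero_left]

/-- Sections on the affine loci extend to all sufficiently high twists. -/
theorem exists_twist_section (hL : CohB1.IsAmple L) (F : X.Modules) [Coh.IsQCoh F] {m : ℕ} (hm : 0 < m)
    (b : Γ(CohB1.tensorPow L m, ⊤)) {g : Γ(L, glocus _ b)} (hg : IsGen L (glocus _ b) g)
    (f : Γ(F, glocus _ b)) :
    ∃ N : ℕ, ∀ n, N ≤ n → ∃ (u : Γ(CohB1.tensorMod F (CohB1.tensorPow L n), ⊤))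
      (h : Γ(CohB1.tensorPow L n, glocus _ b)), IsGen _ _ h ∧
        resM _ (le_top : glocus _ b ≤ ⊤) u = tmul f h := by
  classical
  obtain ⟨hLi, hc, hx⟩ := isAmple_iff_affGlocus.1 hL
  have := quasiSeparatedSpace_of_affGlocus hLi hx
  let A := glocus _ b
  have hP : ∀ k, PicF.IsInvertible (CohB1.tensorPow L k) := isInvertible_tensorPow hLi
  let bA : Γ(CohB1.tensorPow L m, A) := resM _ le_top b
  have hbA : IsGen _ A bA := isGen_glocus b
  let S : ℕ → Prop := fun n => ∃ (u : Γ(CohB1.tensorMod F (CohB1.tensorPow L n), ⊤))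
      (h : Γ(CohB1.tensorPow L n, A)), IsGen _ _ h ∧ resM _ (le_top : A ≤ ⊤) u = tmul f h
  have hstep : ∀ n, S n → S (n + m) := by
    rintro n ⟨u, h, hh, hu⟩
    obtain ⟨α, hα⟩ := exists_assocHom F (CohB1.tensorPow L m) (hP n)
    obtain ⟨e, -⟩ := exists_powIso hLi n m
    refine ⟨(tensorIso (Iso.refl F) e).hom.app ⊤ (α.app ⊤ (tmul u b)), e.hom.app A (tmul h bA),
      isGen_map_iso e (isGen_tmul hh hbA), ?_⟩
    rw [← app_resM, ← app_resM, resM_tmul, hu, hα]
    exact tensorMap_tmul _ _ _ _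
  have hbase : ∀ j, ∃ k, S (j + m * k) := fun j => by
    have := isQCoh_tensor_invertible F (hP j)
    obtain ⟨k, t, ht⟩ := exists_extend (CohB1.tensorMod F (CohB1.tensorPow L j)) b (hP m)
      (tmul f (powSec g j))
    obtain ⟨α, hα⟩ := exists_assocHom F (CohB1.tensorPow (CohB1.tensorPow L m) k) (hP j)
    obtain ⟨e₁, -⟩ := exists_powPowIso hLi m k
    obtain ⟨e₂, -⟩ := exists_powIso hLi j (m * k)
    let e := tensorIso (Iso.refl (CohB1.tensorPow L j)) e₁ ≪≫ e₂
    refine ⟨k, (tensorIso (Iso.refl F) e).hom.app ⊤ (α.app ⊤ t), e.hom.app A (tmul (powSec g j) (powSec bA k)),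
      isGen_map_iso e (isGen_tmul (isGen_powSec hg j) (isGen_powSec hbA k)), ?_⟩
    rw [← app_resM, ← app_resM, ht, hα]
    exact tensorMap_tmul _ _ _ _
  choose k hk using hbase
  have hiter : ∀ n i, S n → S (n + m * i) := fun n i h => by
    induction i with
    | zero => simpa using h
    | succ i ih => rw [Nat.mul_succ, ← add_assoc]; exact hstep _ ih
  refine ⟨m + m * (Finset.range m).sup k, fun n hn => ?_⟩
  show S n
  have h1 : k (n % m) ≤ (Finset.range m).sup k := Finset.le_sup (Finset.mem_range.2 (Nat.mod_lt _ hm))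
  have h2 : (Finset.range m).sup k ≤ n / m := by
    rw [Nat.le_div_iff_mul_le hm, mul_comm]; omega
  have := hiter _ (n / m - k (n % m)) (hk (n % m))
  rwa [add_assoc, ← mul_add, Nat.add_sub_cancel' (h1.trans h2), Nat.mod_add_div] at this

end Groth.Agent.AmpleLib
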