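import Groth.Agent.AmpleLib.Relative2
import Groth.Agent.AmpleLib.Twist2

/-!
# Ampleness along compositions
-/

set_option autoImplicit false
set_option backward.isDefEq.respectTransparency.types false

universe u

open CategoryTheory CategoryTheory.Limits AlgebraicGeometry Opposite TopologicalSpace
open Groth.Agent.Coherent Groth.Agent.PicLib

namespace Groth.Agent.AmpleLib

variable {X Y : Scheme.{u}} {L M : X.Modules} {U : X.Opens}

/-- Being a generator is detected on an open subscheme. -/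
theorem isGen_of_pullSec {Z : Scheme.{u}} (σ : Z ⟶ X) [IsOpenImmersion σ] (hL : PicF.IsInvertible L)
    (hU : U ≤ σ.opensRange) {c : Γ(L, U)} (h : IsGen _ (σ ⁻¹ᵁ U) (pullSec σ c)) : IsGen L U c := by
  intro T hT
  have h1 := bijective_pullSec_opensRange σ hL T (hT.trans hU)
  have := σ.isIso_app T (hT.trans hU)
  have h2 : Function.Bijective (fun r : Γ(X, T) => σ.app T r • pullSec σ (resM L hT c)) := by
    have h3 := (h _ ((Opens.map σ.base).map (homOfLE hT)).le).comp (ConcreteCategory.bijective_of_isIso (σ.app T))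
    convert h3 using 1
    funext r
    show _ = σ.app T r • resM _ _ (pullSec σ c)
    rw [resM_pullSec σ hT]
  refine (Function.Bijective.of_comp_iff' h1 _).1 ?_
  convert h2 using 1
  funext r
  exact pullSec_smul σ r _

/-- Being a generator is detected by twisting with a generator. -/
theorem isGen_of_tmul_gen {c : Γ(L, U)} {g : Γ(M, U)} (hg : IsGen M U g) (h : IsGen _ U (tmul c g)) :
    IsGen L U c := by
  intro T hT
  refine (Function.Bijective.of_comp_iff' (bijective_tmul_gen (M := L) hg T hT) _).1 ?_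
  convert h T hT using 1
  funext r
  show tmul (r • resM L hT c) _ = r • resM _ hT (tmul c g)
  rw [tmul_smul_left, resM_tmul]

/-- The locus of an extension of a section. -/
theorem glocus_inf_of_extend (hL : PicF.IsInvertible L) (hM : PicF.IsInvertible M) {A C : X.Opens} (hCA : C ≤ A)
    {c : Γ(L, A)} {g : Γ(M, A)} (hg : IsGen M A g)
    (hC : ∀ (W : X.Opens) (h : W ≤ A), IsGen L W (resM L h c) ↔ W ≤ C)
    {t : Γ(CohB1.tensorMod L M, ⊤)} (ht : resM _ (le_top : A ≤ ⊤) t = tmul c g) :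
    glocus _ t ⊓ A = C := by
  refine le_antisymm ?_ (le_inf ?_ hCA)
  · refine (hC _ inf_le_right).1 (isGen_of_tmul_gen (hg.restrict inf_le_right) ?_)
    rw [← resM_tmul, ← ht, resM_resM]
    have := (isGen_glocus t).restrict (inf_le_left : glocus _ t ⊓ A ≤ glocus _ t)
    rwa [resM_resM] at this
  · rw [le_glocus_iff, ← resM_resM _ (le_top : A ≤ ⊤) hCA, ht, resM_tmul]
    exact isGen_tmul ((hC _ hCA).2 le_rfl) (hg.restrict hCA)

variable {G : X.Modules}

theorem exists_glocus_twisted_pow [CompactSpace X] [QuasiSeparatedSpace X] (hL : PicF.IsInvertible L)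
    (hG : PicF.IsInvertible G) {m : ℕ} (hm : 0 < m) (b : Γ(CohB1.tensorPow G m, ⊤)) {k : ℕ} (hk : 0 < k)
    {C : X.Opens} (hCA : C ≤ glocus _ b) (c : Γ(CohB1.tensorPow L k, glocus _ b))
    (hC : ∀ (W : X.Opens) (h : W ≤ glocus _ b), IsGen _ W (resM (CohB1.tensorPow L k) h c) ↔ W ≤ C) :
    ∃ N : ℕ, ∀ n, N ≤ n → ∃ j : ℕ, 0 < j ∧
      ∃ d : Γ(CohB1.tensorPow (CohB1.tensorMod L (CohB1.tensorPow G n)) j, ⊤), glocus _ d = C := by
  have hP := isInvertible_tensorPow hL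
  have hQ := isInvertible_tensorPow hG
  have := isQCoh_of_isInvertible (hP k)
  obtain ⟨i, t, ht⟩ := exists_extend (CohB1.tensorPow L k) b (hQ m) c
  have htC : glocus _ t ⊓ glocus _ b = C :=
    glocus_inf_of_extend (hP k) (isInvertible_tensorPow (hQ m) i) hCA (isGen_powSec (isGen_glocus b) i) hC ht
  obtain ⟨a₁, -⟩ := exists_assocIso (hP k) (isInvertible_tensorPow (hQ m) i) (hQ m)
  obtain ⟨p₁, -⟩ := exists_powPowIso hG m (i + 1)
  let e₁ : CohB1.tensorMod (CohB1.tensorMod (CohB1.tensorPow L k) (CohB1.tensorPow (CohB1.tensorPow G m) i))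
      (CohB1.tensorPow G m) ≅ CohB1.tensorMod (CohB1.tensorPow L k) (CohB1.tensorPow G (m * (i + 1))) :=
    a₁ ≪≫ tensorIso (Iso.refl _) p₁
  let d₁ := e₁.hom.app ⊤ (tmul t b)
  have hd₁ : glocus _ d₁ = C := by
    rw [glocus_map_iso, glocus_tmul (isInvertible_tensorMod (hP k) (isInvertible_tensorPow (hQ m) i)) (hQ m), htC]
  refine ⟨m * (i + 1), fun n hn => ⟨k * m, Nat.mul_pos hk hm, ?_⟩⟩
  obtain ⟨r, hr⟩ : ∃ r, n * k = m * (i + 1) + r :=
    Nat.exists_eq_add_of_le (hn.trans (Nat.le_mul_of_pos_right n hk))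
  -- the power of `d₁`
  obtain ⟨j, rfl⟩ : ∃ j, m = j + 1 := ⟨m - 1, by omega⟩
  obtain ⟨p₂, -⟩ := exists_powTensorIso (hP k) (hQ ((j + 1) * (i + 1))) (j + 1)
  let d₂ := p₂.hom.app ⊤ (powSec d₁ (j + 1))
  have hd₂ : glocus _ d₂ = C := by
    rw [glocus_map_iso, glocus_powSec (isInvertible_tensorMod (hP k) (hQ _)), hd₁]
  obtain ⟨u, hu⟩ : ∃ u : Γ(CohB1.tensorPow (CohB1.tensorPow G (j + 1)) r, ⊤), C ≤ glocus _ u := by
    refine ⟨powSec b r, ?_⟩
    rcases r with _ | r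
    · show C ≤ glocus (Coh.structureModule X) (oneSec ⊤)
      rw [glocus_oneSec]; exact le_top
    · rw [glocus_powSec (hQ _)]; exact hCA
  obtain ⟨a₂, -⟩ := exists_assocIso (isInvertible_tensorPow (hP k) (j + 1))
    (isInvertible_tensorPow (hQ ((j + 1) * (i + 1))) (j + 1)) (isInvertible_tensorPow (hQ (j + 1)) r)
  obtain ⟨q₁, -⟩ := exists_powPowIso hG ((j + 1) * (i + 1)) (j + 1)
  obtain ⟨q₂, -⟩ := exists_powPowIso hG (j + 1) r
  obtain ⟨q₃, -⟩ := exists_powPowIso hL k (j + 1)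
  obtain ⟨q₄, -⟩ := exists_powIso hG ((j + 1) * (i + 1) * (j + 1)) ((j + 1) * r)
  obtain ⟨q₅, -⟩ := exists_powPowIso hG n (k * (j + 1))
  obtain ⟨q₆, -⟩ := exists_powTensorIso hL (hQ n) (k * (j + 1))
  have hexp : (j + 1) * (i + 1) * (j + 1) + (j + 1) * r = n * (k * (j + 1)) := by
    rw [← mul_assoc, hr]; ring
  let e := a₂ ≪≫ tensorIso q₃ (tensorIso q₁ q₂ ≪≫ q₄ ≪≫ eqToIso (by rw [hexp]) ≪≫ q₅.symm) ≪≫ q₆.symm
  refine ⟨e.hom.app ⊤ (tmul d₂ u), ?_⟩
  rw [glocus_map_iso, glocus_tmul (isInvertible_tensorMod (isInvertible_tensorPow (hP k) _)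
    (isInvertible_tensorPow (hQ _) _)) (isInvertible_tensorPow (hQ _) _), hd₂]
  exact inf_eq_left.2 hu

/-- Twisting a relatively ample module by high powers of the pullback of an ample module. -/
theorem eventually_isAmple_tensor_pullback (σ : X ⟶ Y) {K : Y.Modules} (hK : CohB1.IsAmple K)
    (hL : RelAmple.IsRelAmple σ L) :
    ∃ N : ℕ, ∀ n, N ≤ n →
      CohB1.IsAmple (CohB1.tensorMod L (CohB1.tensorPow ((Scheme.Modules.pullback σ).obj K) n)) := by
  classical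
  have hLi := isInvertible_of_isRelAmple _ hL
  rw [isRelAmple_iff] at hL
  have := hL.1
  obtain ⟨hKi, hc, hx⟩ := isAmple_iff_affGlocus.1 hK
  have := quasiSeparatedSpace_of_affGlocus hKi hx
  have : QuasiSeparated σ := (HasAffineProperty.iff_of_iSup_eq_top
    (P := @QuasiSeparated) (fun U : Y.affineOpens => U) (iSup_affineOpens_eq_top Y)).2 fun U => by
      obtain ⟨hi, hc, h⟩ := isAmple_iff_affGlocus.1 (hL.2 U)
      exact quasiSeparatedSpace_of_affGlocus hi h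
  have : CompactSpace X := QuasiCompact.compactSpace_of_compactSpace σ
  have : QuasiSeparatedSpace X := quasiSeparatedSpace_of_quasiSeparated σ
  have hG := PicLoc.isInvertible_pullback σ hKi
  have key : ∀ z : X, ∃ (C : X.Opens) (N : ℕ), z ∈ C ∧ IsAffineOpen C ∧ ∀ n, N ≤ n → ∃ j : ℕ, 0 < j ∧
      ∃ d : Γ(CohB1.tensorPow (CohB1.tensorMod L (CohB1.tensorPow ((Scheme.Modules.pullback σ).obj K) n)) j, ⊤),
        glocus _ d = C := fun z => by
    obtain ⟨m, hm, b₀, hzb, -, hb₀⟩ := hx (σ z)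
    obtain ⟨e₀, -⟩ := exists_pullPowIso σ hKi m
    let b := e₀.hom.app ⊤ (pullSec σ b₀)
    have hb : glocus _ b = σ ⁻¹ᵁ glocus _ b₀ := by
      rw [glocus_map_iso, glocus_pullSec σ (isInvertible_tensorPow hKi m)]
    let A := σ ⁻¹ᵁ glocus _ b₀
    obtain ⟨hi, -, h⟩ := isAmple_iff_affGlocus.1 (hL.2 ⟨_, hb₀⟩)
    obtain ⟨k, hk, c₀, hzc, -, hc₀⟩ := h ⟨z, hzb⟩
    obtain ⟨e₁, -⟩ := exists_pullPowIso A.ι hLi k
    have hPk := isInvertible_tensorPow hLi k
    let c₁ : Γ((Scheme.Modules.pullback A.ι).obj (CohB1.tensorPow L k), A.ι ⁻¹ᵁ A) :=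
      resM _ le_top (e₁.inv.app ⊤ c₀)
    obtain ⟨c, hc⟩ := (bijective_pullSec_opensRange A.ι hPk A (Scheme.Opens.opensRange_ι A).ge).2 c₁
    let C := A.ι ''ᵁ glocus _ c₀
    have hCA : C ≤ A := (A.ι.image_le_opensRange _).trans (Scheme.Opens.opensRange_ι A).le
    have hC : ∀ (W : X.Opens) (h : W ≤ A), IsGen _ W (resM (CohB1.tensorPow L k) h c) ↔ W ≤ C := by
      intro W h
      have hpre : A.ι ⁻¹ᵁ W ≤ glocus _ (e₁.inv.app ⊤ c₀) ↔ W ≤ C := by
        rw [show glocus _ (e₁.inv.app ⊤ c₀) = glocus _ c₀ from glocus_map_iso e₁.symm c₀]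
        constructor
        · exact fun hW w hw => ⟨⟨w, h hw⟩, hW hw, rfl⟩
        · intro hW w hw
          obtain ⟨v, hv, he⟩ := hW hw
          exact (Subtype.ext he : v = w) ▸ hv
      have heq : resM _ (le_top : A.ι ⁻¹ᵁ W ≤ ⊤) (e₁.inv.app ⊤ c₀) = pullSec A.ι (resM (CohB1.tensorPow L k) h c) := by
        rw [← resM_pullSec A.ι h, hc, resM_resM]
      rw [← hpre, le_glocus_iff, heq]
      exact ⟨fun hg => isGen_pullSec A.ι hg hPk,
        fun hg => isGen_of_pullSec A.ι hPk (h.trans (Scheme.Opens.opensRange_ι A).ge) hg⟩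
    have main := exists_glocus_twisted_pow (L := L) hLi hG hm b hk (C := C) (hCA.trans hb.ge)
      (resM _ hb.le c) (fun W h => by rw [resM_resM]; exact hC W (h.trans hb.le))
    obtain ⟨N, hN⟩ := main
    exact ⟨C, N, ⟨⟨z, hzb⟩, hzc, rfl⟩, hc₀.image_of_isOpenImmersion _, hN⟩
  choose C N hzC hCaff hN using key
  obtain ⟨t, ht⟩ := isCompact_univ.elim_finite_subcover (fun z : X => (C z : Set X)) (fun z => (C z).2)
    fun z _ => Set.mem_iUnion.2 ⟨z, hzC z⟩
  refine ⟨t.sup N, fun n hn => isAmple_iff_affGlocus.2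
    ⟨isInvertible_tensorMod hLi (isInvertible_tensorPow hG n), inferInstance, fun y => ?_⟩⟩
  obtain ⟨z, hzt, hyz⟩ := Set.mem_iUnion₂.1 (ht (Set.mem_univ y))
  obtain ⟨j, hj, d, hd⟩ := hN z n ((Finset.le_sup hzt).trans hn)
  exact ⟨j, hj, d, hd ▸ hyz, le_top, hd ▸ hCaff z⟩

/-- Relative ampleness of compositions. -/
theorem eventually_isRelAmple_comp {Z : Scheme.{u}} [CompactSpace Z] (f : X ⟶ Y) (g : Y ⟶ Z)
    [QuasiCompact f] [QuasiCompact g] {K : Y.Modules}
    (hL : RelAmple.IsRelAmple f L) (hK : RelAmple.IsRelAmple g K) :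
    ∃ n₀ : ℕ, 0 < n₀ ∧ ∀ n, n₀ ≤ n →
      RelAmple.IsRelAmple (f ≫ g) (CohB1.tensorMod L ((Scheme.Modules.pullback f).obj (CohB1.tensorPow K n))) := by
  classical
  have hLi := isInvertible_of_isRelAmple _ hL
  have hKi := isInvertible_of_isRelAmple _ hK
  rw [isRelAmple_iff] at hK
  have key : ∀ V : Z.affineOpens, ∃ N : ℕ, ∀ n, N ≤ n →
      CohB1.IsAmple ((Scheme.Modules.pullback ((f ≫ g) ⁻¹ᵁ V.1).ι).obj
        (CohB1.tensorMod L ((Scheme.Modules.pullback f).obj (CohB1.tensorPow K n)))) := fun V => by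
    let P := g ⁻¹ᵁ V.1
    let U : Option PUnit.{u + 1} → Y.Opens := fun o => o.elim ⊤ fun _ => P
    have hU : ⨆ o, U o = ⊤ := top_le_iff.1 fun y _ => Opens.mem_iSup.2 ⟨none, trivial⟩
    have hQ : RelAmple.IsRelAmple (f ∣_ P) ((Scheme.Modules.pullback (f ⁻¹ᵁ P).ι).obj L) :=
      (isRelAmple_iff_of_openCover U hU).1 hL (some PUnit.unit)
    obtain ⟨N, hN⟩ := eventually_isAmple_tensor_pullback (f ∣_ P) (hK.2 V) hQ
    refine ⟨N, fun n hn => ?_⟩
    obtain ⟨e₁⟩ := exists_pullTensorIso (f ⁻¹ᵁ P).ι hLi (PicLoc.isInvertible_pullback f (isInvertible_tensorPow hKi n))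
    obtain ⟨e₂, -⟩ := exists_pullPowIso ((f ⁻¹ᵁ P).ι ≫ f) hKi n
    let e₃ : (Scheme.Modules.pullback (f ∣_ P)).obj ((Scheme.Modules.pullback P.ι).obj K) ≅
        (Scheme.Modules.pullback ((f ⁻¹ᵁ P).ι ≫ f)).obj K :=
      (Scheme.Modules.pullbackComp (f ∣_ P) P.ι).app K ≪≫ eqToIso (by rw [morphismRestrict_ι])
    refine isAmple_of_iso ?_ (hN n hn)
    refine ?_ ≪≫ e₁.symm
    exact tensorIso (Iso.refl _) (powIsoOfIso e₃ n ≪≫ e₂.symm ≪≫
      ((Scheme.Modules.pullbackComp (f ⁻¹ᵁ P).ι f).app (CohB1.tensorPow K n)).symm)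
  choose N hN using key
  obtain ⟨t, ht⟩ := isCompact_univ.elim_finite_subcover (fun V : Z.affineOpens => (V.1 : Set Z)) (fun V => V.1.2)
    fun z _ => by
      obtain ⟨V, hV, hzV, -⟩ := exists_isAffineOpen_mem_and_subset (x := z) (U := ⊤) trivial
      exact Set.mem_iUnion.2 ⟨⟨V, hV⟩, hzV⟩
  refine ⟨t.sup N + 1, Nat.succ_pos _, fun n hn => ?_⟩
  refine isRelAmple_of_affine_cover _ (isInvertible_tensorMod hLi (PicLoc.isInvertible_pullback f (isInvertible_tensorPow hKi n))) fun z => ?_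
  obtain ⟨V, hVt, hzV⟩ := Set.mem_iUnion₂.1 (ht (Set.mem_univ z))
  exact ⟨V, hzV, hN V n ((Finset.le_sup hVt).trans (by omega))⟩

end Groth.Agent.AmpleLib
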