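import Groth.Agent.AmpleLib.Tensor

/-!
# Tensor powers of invertible modules

`powSec s n` is the `n`-th tensor power of a section; isomorphisms between tensor expressions of invertible modules are
produced from local generators (`exists_iso_of_gens`) and are characterized on sections.
-/

set_option autoImplicit false
set_option backward.isDefEq.respectTransparency.types false

universe u

open CategoryTheory CategoryTheory.Limits AlgebraicGeometry Opposite TopologicalSpace
open Groth.Agent.Coherent Groth.Agent.PicLib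

namespace Groth.Agent.AmpleLib

variable {X : Scheme.{u}} {L M N : X.Modules} {U V : X.Opens}

/-- The unit section of the structure module. -/
noncomputable def oneSec (U : X.Opens) : Γ(Coh.structureModule X, U) := (1 : Γ(X, U))

theorem resM_oneSec (h : V ≤ U) : resM (Coh.structureModule X) h (oneSec U) = oneSec V :=
  map_one (X.presheaf.map (homOfLE h).op).hom

theorem isGen_oneSec (U : X.Opens) : IsGen (Coh.structureModule X) U (oneSec U) := by
  intro V h
  rw [resM_oneSec]
  have : (fun r : Γ(X, V) => r • oneSec V) = id := funext fun r => mul_one r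
  rw [this]
  exact Function.bijective_id

theorem isInvertible_structureModule : PicF.IsInvertible (Coh.structureModule X) :=
  isInvertible_of_gens fun _ => ⟨⊤, trivial, _, isGen_oneSec ⊤⟩

/-- Tensor powers of a section. -/
noncomputable def powSec (s : Γ(L, U)) : ∀ n : ℕ, Γ(CohB1.tensorPow L n, U)
  | 0 => oneSec U
  | n + 1 => tmul (powSec s n) s

theorem powSec_zero (s : Γ(L, U)) : powSec s 0 = oneSec U := rfl

theorem powSec_succ (s : Γ(L, U)) (n : ℕ) : powSec s (n + 1) = tmul (powSec s n) s := rfl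

theorem resM_powSec (h : V ≤ U) (s : Γ(L, U)) : ∀ n : ℕ,
    resM (CohB1.tensorPow L n) h (powSec s n) = powSec (resM L h s) n
  | 0 => resM_oneSec h
  | n + 1 => (resM_tmul h _ _).trans (congrArg (tmul · _) (resM_powSec h s n))

theorem powSec_smul (r : Γ(X, U)) (s : Γ(L, U)) : ∀ n : ℕ, powSec (r • s) n = r ^ n • powSec s n
  | 0 => by rw [pow_zero, one_smul]; rfl
  | n + 1 => by rw [powSec_succ, powSec_succ, powSec_smul r s n, tmul_smul_smul, pow_succ]; rfl

theorem isGen_powSec {s : Γ(L, U)} (hs : IsGen L U s) : ∀ n : ℕ, IsGen (CohB1.tensorPow L n) U (powSec s n)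
  | 0 => isGen_oneSec U
  | n + 1 => isGen_tmul (isGen_powSec hs n) hs

theorem isInvertible_tensorPow (hL : PicF.IsInvertible L) (n : ℕ) : PicF.IsInvertible (CohB1.tensorPow L n) := by
  refine isInvertible_of_gens fun y => ?_
  obtain ⟨U, hyU, s, hs⟩ := exists_isGen hL y
  exact ⟨U, hyU, _, isGen_powSec hs n⟩

/-- Sections which agree locally agree. -/
theorem sec_ext (M : X.Modules) (a b : Γ(M, U))
    (h : ∀ y ∈ U, ∃ (W : X.Opens) (hW : W ≤ U), y ∈ W ∧ resM M hW a = resM M hW b) : a = b := by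
  choose W hW hy he using h
  exact TopCat.Sheaf.eq_of_locally_eq' (⟨M.presheaf, M.isSheaf⟩ : TopCat.Sheaf Ab X)
    (fun y : U => W y.1 y.2) U (fun y => homOfLE (hW y.1 y.2))
    (fun y hy' => Opens.mem_iSup.2 ⟨⟨y, hy'⟩, hy y hy'⟩) a b fun y => he y.1 y.2

/-- Two modules with generators having the same transition functions are isomorphic. -/
theorem exists_iso_of_gens {ι : Type u} (U : ι → X.Opens) (hU : iSup U = ⊤)
    (s : ∀ i, Γ(L, U i)) (hs : ∀ i, IsGen L (U i) (s i)) (t : ∀ i, Γ(M, U i)) (ht : ∀ i, IsGen M (U i) (t i))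
    (hc : ∀ (i j : ι) (W : X.Opens) (hi : W ≤ U i) (hj : W ≤ U j) (c : Γ(X, W)),
      resM L hi (s i) = c • resM L hj (s j) → resM M hi (t i) = c • resM M hj (t j)) :
    ∃ e : L ≅ M, ∀ i, e.hom.app (U i) (s i) = t i := by
  obtain ⟨φ, hφ⟩ := exists_hom_of_gen U hU s hs t hc
  have := isIso_of_gens φ U hU s hs fun i => by rw [hφ i]; exact ht i
  exact ⟨asIso φ, hφ⟩

/-- Powers multiply. -/
theorem exists_powIso (hL : PicF.IsInvertible L) (a b : ℕ) :
    ∃ e : CohB1.tensorMod (CohB1.tensorPow L a) (CohB1.tensorPow L b) ≅ CohB1.tensorPow L (a + b),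
      ∀ (U : X.Opens) (s : Γ(L, U)), e.hom.app U (tmul (powSec s a) (powSec s b)) = powSec s (a + b) := by
  obtain ⟨W, g, hmem, hg⟩ := exists_cover hL
  have hW : iSup W = ⊤ := top_le_iff.1 fun y _ => Opens.mem_iSup.2 ⟨y, hmem y⟩
  obtain ⟨e, he⟩ := exists_iso_of_gens W hW (fun i => tmul (powSec (g i) a) (powSec (g i) b))
    (fun i => isGen_tmul (isGen_powSec (hg i) a) (isGen_powSec (hg i) b))
    (fun i => powSec (g i) (a + b)) (fun i => isGen_powSec (hg i) (a + b)) (by
      intro i j V hi hj c hc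
      obtain ⟨d, hd⟩ : ∃ d : Γ(X, V), d • resM L hj (g j) = resM L hi (g i) := (hg j V hj).2 _
      rw [resM_tmul, resM_tmul, resM_powSec, resM_powSec, resM_powSec, resM_powSec, ← hd, powSec_smul,
        powSec_smul, tmul_smul_smul, ← pow_add] at hc
      have hj' := isGen_tmul (isGen_powSec ((hg j).restrict hj) a) (isGen_powSec ((hg j).restrict hj) b)
      have := (hj' V le_rfl).1 (a₁ := d ^ (a + b)) (a₂ := c) (by simpa only [resM_self] using hc)
      rw [resM_powSec, resM_powSec, ← hd, powSec_smul, this])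
  refine ⟨e, fun U s => sec_ext _ _ _ fun y hy => ?_⟩
  refine ⟨U ⊓ W y, inf_le_left, ⟨hy, hmem y⟩, ?_⟩
  obtain ⟨r, hr⟩ : ∃ r : Γ(X, U ⊓ W y), r • resM L inf_le_right (g y) = resM L inf_le_left s := (hg y _ inf_le_right).2 _
  rw [← app_resM, resM_tmul, resM_powSec, resM_powSec, resM_powSec, ← hr, powSec_smul, powSec_smul, powSec_smul,
    tmul_smul_smul, Scheme.Modules.Hom.app_smul, ← pow_add, ← resM_powSec inf_le_right (g y) a,
    ← resM_powSec inf_le_right (g y) b, ← resM_tmul, app_resM, he, resM_powSec]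

/-- Powers of powers. -/
theorem exists_powPowIso (hL : PicF.IsInvertible L) (a b : ℕ) :
    ∃ e : CohB1.tensorPow (CohB1.tensorPow L a) b ≅ CohB1.tensorPow L (a * b),
      ∀ (U : X.Opens) (s : Γ(L, U)), e.hom.app U (powSec (powSec s a) b) = powSec s (a * b) := by
  obtain ⟨W, g, hmem, hg⟩ := exists_cover hL
  have hW : iSup W = ⊤ := top_le_iff.1 fun y _ => Opens.mem_iSup.2 ⟨y, hmem y⟩
  obtain ⟨e, he⟩ := exists_iso_of_gens W hW (fun i => powSec (powSec (g i) a) b)
    (fun i => isGen_powSec (isGen_powSec (hg i) a) b)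
    (fun i => powSec (g i) (a * b)) (fun i => isGen_powSec (hg i) (a * b)) (by
      intro i j V hi hj c hc
      obtain ⟨d, hd⟩ : ∃ d : Γ(X, V), d • resM L hj (g j) = resM L hi (g i) := (hg j V hj).2 _
      rw [resM_powSec, resM_powSec, resM_powSec, resM_powSec, ← hd, powSec_smul, powSec_smul, ← pow_mul] at hc
      have hj' := isGen_powSec (isGen_powSec ((hg j).restrict hj) a) b
      have := (hj' V le_rfl).1 (a₁ := d ^ (a * b)) (a₂ := c) (by simpa only [resM_self] using hc)
      rw [resM_powSec, resM_powSec, ← hd, powSec_smul, this])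
  refine ⟨e, fun U s => sec_ext _ _ _ fun y hy => ?_⟩
  refine ⟨U ⊓ W y, inf_le_left, ⟨hy, hmem y⟩, ?_⟩
  obtain ⟨r, hr⟩ : ∃ r : Γ(X, U ⊓ W y), r • resM L inf_le_right (g y) = resM L inf_le_left s := (hg y _ inf_le_right).2 _
  rw [← app_resM, resM_powSec, resM_powSec, resM_powSec, ← hr, powSec_smul, powSec_smul, powSec_smul,
    Scheme.Modules.Hom.app_smul, ← pow_mul, ← resM_powSec inf_le_right (g y) a,
    ← resM_powSec inf_le_right (powSec (g y) a) b, app_resM, he, resM_powSec]

/-- Powers of tensor products. -/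
theorem exists_powTensorIso (hL : PicF.IsInvertible L) (hM : PicF.IsInvertible M) (n : ℕ) :
    ∃ e : CohB1.tensorPow (CohB1.tensorMod L M) n ≅ CohB1.tensorMod (CohB1.tensorPow L n) (CohB1.tensorPow M n),
      ∀ (U : X.Opens) (s : Γ(L, U)) (t : Γ(M, U)),
        e.hom.app U (powSec (tmul s t) n) = tmul (powSec s n) (powSec t n) := by
  obtain ⟨W, g, hmem, hg⟩ := exists_cover hL
  obtain ⟨W', g', hmem', hg'⟩ := exists_cover hM
  let T : X → X.Opens := fun y => W y ⊓ W' y
  let a : ∀ y, Γ(L, T y) := fun y => resM L inf_le_left (g y)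
  let b : ∀ y, Γ(M, T y) := fun y => resM M inf_le_right (g' y)
  have ha : ∀ y, IsGen L (T y) (a y) := fun y => (hg y).restrict _
  have hb : ∀ y, IsGen M (T y) (b y) := fun y => (hg' y).restrict _
  have hT : iSup T = ⊤ := top_le_iff.1 fun y _ => Opens.mem_iSup.2 ⟨y, hmem y, hmem' y⟩
  obtain ⟨e, he⟩ := exists_iso_of_gens T hT (fun i => powSec (tmul (a i) (b i)) n)
    (fun i => isGen_powSec (isGen_tmul (ha i) (hb i)) n)
    (fun i => tmul (powSec (a i) n) (powSec (b i) n))
    (fun i => isGen_tmul (isGen_powSec (ha i) n) (isGen_powSec (hb i) n)) (by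
      intro i j V hi hj c hc
      obtain ⟨d, hd⟩ : ∃ d : Γ(X, V), d • resM L hj (a j) = resM L hi (a i) := (ha j V hj).2 _
      obtain ⟨d', hd'⟩ : ∃ d' : Γ(X, V), d' • resM M hj (b j) = resM M hi (b i) := (hb j V hj).2 _
      rw [resM_powSec, resM_powSec, resM_tmul, resM_tmul, ← hd, ← hd', tmul_smul_smul, powSec_smul] at hc
      have hj' := isGen_powSec (isGen_tmul ((ha j).restrict hj) ((hb j).restrict hj)) n
      have := (hj' V le_rfl).1 (a₁ := (d * d') ^ n) (a₂ := c) (by simpa only [resM_self] using hc)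
      rw [resM_tmul, resM_tmul, resM_powSec, resM_powSec, resM_powSec, resM_powSec, ← hd, ← hd', powSec_smul,
        powSec_smul, tmul_smul_smul, ← mul_pow, this])
  refine ⟨e, fun U s t => sec_ext _ _ _ fun y hy => ?_⟩
  refine ⟨U ⊓ T y, inf_le_left, ⟨hy, hmem y, hmem' y⟩, ?_⟩
  obtain ⟨r, hr⟩ : ∃ r : Γ(X, U ⊓ T y), r • resM L inf_le_right (a y) = resM L inf_le_left s := (ha y _ inf_le_right).2 _
  obtain ⟨r', hr'⟩ : ∃ r' : Γ(X, U ⊓ T y), r' • resM M inf_le_right (b y) = resM M inf_le_left t := (hb y _ inf_le_right).2 _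
  rw [← app_resM, resM_powSec, resM_tmul, resM_tmul, resM_powSec, resM_powSec, ← hr, ← hr', powSec_smul,
    powSec_smul, tmul_smul_smul, tmul_smul_smul, powSec_smul, Scheme.Modules.Hom.app_smul, mul_pow,
    ← resM_tmul inf_le_right (a y) (b y), ← resM_powSec inf_le_right (tmul (a y) (b y)) n, app_resM, he,
    resM_tmul, resM_powSec, resM_powSec]

/-- Associativity for invertible modules. -/
theorem exists_assocIso (hL : PicF.IsInvertible L) (hM : PicF.IsInvertible M) (hN : PicF.IsInvertible N) :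
    ∃ e : CohB1.tensorMod (CohB1.tensorMod L M) N ≅ CohB1.tensorMod L (CohB1.tensorMod M N),
      ∀ (U : X.Opens) (s : Γ(L, U)) (t : Γ(M, U)) (w : Γ(N, U)),
        e.hom.app U (tmul (tmul s t) w) = tmul s (tmul t w) := by
  obtain ⟨W, g, hmem, hg⟩ := exists_cover hL
  obtain ⟨W', g', hmem', hg'⟩ := exists_cover hM
  obtain ⟨W'', g'', hmem'', hg''⟩ := exists_cover hN
  let T : X → X.Opens := fun y => W y ⊓ W' y ⊓ W'' y
  let a : ∀ y, Γ(L, T y) := fun y => resM L (inf_le_left.trans inf_le_left) (g y)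
  let b : ∀ y, Γ(M, T y) := fun y => resM M (inf_le_left.trans inf_le_right) (g' y)
  let c' : ∀ y, Γ(N, T y) := fun y => resM N inf_le_right (g'' y)
  have ha : ∀ y, IsGen L (T y) (a y) := fun y => (hg y).restrict _
  have hb : ∀ y, IsGen M (T y) (b y) := fun y => (hg' y).restrict _
  have hc' : ∀ y, IsGen N (T y) (c' y) := fun y => (hg'' y).restrict _
  have hT : iSup T = ⊤ := top_le_iff.1 fun y _ => Opens.mem_iSup.2 ⟨y, ⟨hmem y, hmem' y⟩, hmem'' y⟩
  obtain ⟨e, he⟩ := exists_iso_of_gens T hT (fun i => tmul (tmul (a i) (b i)) (c' i))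
    (fun i => isGen_tmul (isGen_tmul (ha i) (hb i)) (hc' i))
    (fun i => tmul (a i) (tmul (b i) (c' i)))
    (fun i => isGen_tmul (ha i) (isGen_tmul (hb i) (hc' i))) (by
      intro i j V hi hj c hc
      obtain ⟨d, hd⟩ : ∃ d : Γ(X, V), d • resM L hj (a j) = resM L hi (a i) := (ha j V hj).2 _
      obtain ⟨d', hd'⟩ : ∃ d' : Γ(X, V), d' • resM M hj (b j) = resM M hi (b i) := (hb j V hj).2 _
      obtain ⟨d'', hd''⟩ : ∃ d'' : Γ(X, V), d'' • resM N hj (c' j) = resM N hi (c' i) := (hc' j V hj).2 _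
      simp only [resM_tmul] at hc ⊢
      rw [← hd, ← hd', ← hd'', tmul_smul_smul, tmul_smul_smul] at hc
      have hj' := isGen_tmul (isGen_tmul ((ha j).restrict hj) ((hb j).restrict hj)) ((hc' j).restrict hj)
      have := (hj' V le_rfl).1 (a₁ := d * d' * d'') (a₂ := c) (by simpa only [resM_self] using hc)
      rw [← hd, ← hd', ← hd'', tmul_smul_smul, tmul_smul_smul, ← mul_assoc, this])
  refine ⟨e, fun U s t w => sec_ext _ _ _ fun y hy => ?_⟩
  refine ⟨U ⊓ T y, inf_le_left, ⟨hy, ⟨hmem y, hmem' y⟩, hmem'' y⟩, ?_⟩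
  obtain ⟨r, hr⟩ : ∃ r : Γ(X, U ⊓ T y), r • resM L inf_le_right (a y) = resM L inf_le_left s := (ha y _ inf_le_right).2 _
  obtain ⟨r', hr'⟩ : ∃ r' : Γ(X, U ⊓ T y), r' • resM M inf_le_right (b y) = resM M inf_le_left t := (hb y _ inf_le_right).2 _
  obtain ⟨r'', hr''⟩ : ∃ r'' : Γ(X, U ⊓ T y), r'' • resM N inf_le_right (c' y) = resM N inf_le_left w :=
    (hc' y _ inf_le_right).2 _
  rw [← app_resM]
  simp only [resM_tmul]
  rw [← hr, ← hr', ← hr'', tmul_smul_smul, tmul_smul_smul, tmul_smul_smul, tmul_smul_smul,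
    Scheme.Modules.Hom.app_smul, ← resM_tmul inf_le_right (a y) (b y),
    ← resM_tmul inf_le_right (tmul (a y) (b y)) (c' y), app_resM, he, resM_tmul, resM_tmul, mul_assoc]

end Groth.Agent.AmpleLib
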