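import Groth.Agent.AmpleLib.Twist
import Groth.Agent.Coherent.QcohSections
import Groth.Agent.Coherent.FinitePres

/-!
# Sections of quasi-coherent modules over the locus of a section
-/

set_option autoImplicit false
set_option backward.isDefEq.respectTransparency.types false

universe u

open CategoryTheory CategoryTheory.Limits AlgebraicGeometry Opposite TopologicalSpace
open Groth.Agent.Coherent Groth.Agent.PicLib

namespace Groth.Agent.AmpleLib

variable {X : Scheme.{u}} {L : X.Modules} {U : X.Opens}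

/-- A compact open is covered by finitely many affine opens with generators. -/
theorem exists_finite_gen_cover (hL : PicF.IsInvertible L) {W : X.Opens} (hW : IsCompact (W : Set X)) :
    ∃ (ι : Type u) (_ : Finite ι) (U : ι → X.Opens), (∀ i, IsAffineOpen (U i)) ∧ (∀ i, U i ≤ W) ∧
      W ≤ iSup U ∧ ∀ i, ∃ g : Γ(L, U i), IsGen L (U i) g := by
  have h : ∀ y : W, ∃ V : X.Opens, IsAffineOpen V ∧ V ≤ W ∧ y.1 ∈ V ∧ ∃ g : Γ(L, V), IsGen L V g := fun y => by
    obtain ⟨U, hyU, g, hg⟩ := exists_isGen hL y.1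
    obtain ⟨V, hV, hyV, hVU⟩ := exists_isAffineOpen_mem_and_subset (x := y.1) (U := U ⊓ W) ⟨hyU, y.2⟩
    exact ⟨V, hV, fun z hz => (hVU hz).2, hyV, _, hg.restrict fun z hz => (hVU hz).1⟩
  choose V hV hVW hyV hg using h
  obtain ⟨t, ht⟩ := hW.elim_finite_subcover (fun y => (V y : Set X)) (fun y => (V y).2)
    fun y hy => Set.mem_iUnion.2 ⟨⟨y, hy⟩, hyV _⟩
  exact ⟨{y // y ∈ t}, inferInstance, fun y => V y.1, fun y => hV _, fun y => hVW _,
    fun y hy => by
      obtain ⟨z, hz, hyz⟩ := Set.mem_iUnion₂.1 (ht hy)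
      exact Opens.mem_iSup.2 ⟨⟨z, hz⟩, hyz⟩, fun y => hg _⟩

variable (F : X.Modules) (a : Γ(L, ⊤))

/-- Multiplication by the coordinate of the section is the tensor with a power. -/
theorem tmul_powSec_res {g : Γ(L, U)} (hg : IsGen L U g) (V : X.Opens) (hV : V ≤ U) (n : ℕ) (m : Γ(F, V)) :
    tmul m (powSec (resM L (le_top : V ≤ ⊤) a) n) =
      tmul (res hV (hg.coef le_rfl (resM L le_top a)) ^ n • m) (powSec (resM L hV g) n) := by
  have h : resM L (le_top : V ≤ ⊤) a = res hV (hg.coef le_rfl (resM L le_top a)) • resM L hV g := by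
    have := congrArg (resM L hV) (hg.coef_spec le_rfl (resM L le_top a))
    rw [resM_smul, resM_resM, resM_resM] at this
    exact this.symm
  rw [h, powSec_smul, tmul_smul_right, tmul_smul_left]

variable [Coh.IsQCoh F]

theorem exists_pow_smul_eq_zero_affine (hU : IsAffineOpen U) {g : Γ(L, U)} (hg : IsGen L U g) (z : Γ(F, U))
    (hz : resM F (inf_le_right : glocus L a ⊓ U ≤ U) z = 0) :
    ∃ n : ℕ, hg.coef le_rfl (resM L le_top a) ^ n • z = 0 := by
  refine qcoh_exists_pow_smul_eq_zero hU F _ z ?_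
  have h := congrArg (resM F (glocus_inf a hg).ge) hz
  rwa [map_zero, resM_resM] at h

theorem exists_pow_smul_affine (hU : IsAffineOpen U) {g : Γ(L, U)} (hg : IsGen L U g)
    (f : Γ(F, glocus L a)) :
    ∃ (n : ℕ) (t : Γ(F, U)), resM F (inf_le_right : glocus L a ⊓ U ≤ U) t =
      res (inf_le_right : glocus L a ⊓ U ≤ U) (hg.coef le_rfl (resM L le_top a)) ^ n • resM F inf_le_left f := by
  obtain ⟨n, t, ht⟩ := qcoh_exists_pow_smul hU F (hg.coef le_rfl (resM L le_top a))
    (resM F ((glocus_inf a hg).ge.trans inf_le_left) f)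
  refine ⟨n, t, ?_⟩
  have h := congrArg (resM F (glocus_inf a hg).le) ht
  rw [resM_smul, resM_resM, resM_resM] at h
  rw [h, map_pow, map_pow]
  exact congrArg (fun c => c ^ n • resM F inf_le_left f) (res_res _ _ _)

/-- A section vanishing where `a` generates is killed by a power of `a`. -/
theorem exists_tmul_powSec_eq_zero [CompactSpace X] (hL : PicF.IsInvertible L) (z : Γ(F, ⊤))
    (hz : resM F (le_top : glocus L a ≤ ⊤) z = 0) :
    ∃ n : ℕ, tmul z (powSec a n) = 0 := by
  classical
  obtain ⟨ι, _, W, hW, -, hcov, hgen⟩ := exists_finite_gen_cover hL (W := (⊤ : X.Opens)) isCompact_univ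
  choose g hg using hgen
  have h : ∀ i, ∃ n : ℕ, (hg i).coef le_rfl (resM L le_top a) ^ n • resM F (le_top : W i ≤ ⊤) z = 0 := fun i => by
    refine exists_pow_smul_eq_zero_affine F a (hW i) (hg i) _ ?_
    have := congrArg (resM F (inf_le_left : glocus L a ⊓ W i ≤ glocus L a)) hz
    rw [map_zero, resM_resM] at this
    rwa [resM_resM]
  choose n hn using h
  have := Fintype.ofFinite ι
  refine ⟨Finset.univ.sup n, sec_ext _ _ _ fun y _ => ?_⟩
  obtain ⟨i, hyi⟩ := Opens.mem_iSup.1 (hcov (show y ∈ (⊤ : X.Opens) from trivial))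
  refine ⟨W i, le_top, hyi, ?_⟩
  rw [resM_tmul, resM_powSec, tmul_powSec_res F a (hg i) (W i) le_rfl, map_zero]
  have h2 : res (le_refl (W i)) ((hg i).coef le_rfl (resM L le_top a)) = (hg i).coef le_rfl (resM L le_top a) :=
    ConcreteCategory.congr_hom (X.presheaf.map_id (op (W i))) _
  obtain ⟨k, hk⟩ := Nat.exists_eq_add_of_le (Finset.le_sup (f := n) (Finset.mem_univ i))
  rw [h2, hk, add_comm, pow_add, mul_smul, hn i, smul_zero, tmul_zero_left]

/-- A section on the locus of `a` extends after multiplication by a power of `a`. -/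
theorem exists_extend [CompactSpace X] [QuasiSeparatedSpace X] (hL : PicF.IsInvertible L)
    (f : Γ(F, glocus L a)) :
    ∃ (n : ℕ) (t : Γ(CohB1.tensorMod F (CohB1.tensorPow L n), ⊤)),
      resM _ (le_top : glocus L a ≤ ⊤) t = tmul f (powSec (resM L le_top a) n) := by
  classical
  obtain ⟨ι, _, W, hW, -, hcov, hgen⟩ := exists_finite_gen_cover hL (W := (⊤ : X.Opens)) isCompact_univ
  choose g hg using hgen
  have := Fintype.ofFinite ι
  let c : ∀ i, Γ(X, W i) := fun i => (hg i).coef le_rfl (resM L le_top a)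
  have hloc := fun i => exists_pow_smul_affine F a (hW i) (hg i) f
  choose n₀ t₀ ht₀ using hloc
  let N := Finset.univ.sup n₀
  obtain ⟨t, ht⟩ : ∃ t : ∀ i, Γ(F, W i), ∀ i, resM F (inf_le_right : glocus L a ⊓ W i ≤ W i) (t i) =
      res (inf_le_right : glocus L a ⊓ W i ≤ W i) (c i) ^ N • resM F inf_le_left f := by
    refine ⟨fun i => c i ^ (N - n₀ i) • t₀ i, fun i => ?_⟩
    rw [resM_smul, ht₀ i, map_pow, ← mul_smul, ← pow_add,
      Nat.sub_add_cancel (Finset.le_sup (f := n₀) (Finset.mem_univ i))]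
  -- agreement on overlaps after multiplication
  have hov : ∀ i j : ι, ∃ k : ℕ, ∀ y ∈ W i ⊓ W j, ∃ (V : X.Opens) (hVi : V ≤ W i) (hVj : V ≤ W j), y ∈ V ∧
      ∃ d : Γ(X, V), d • resM L hVi (g i) = resM L hVj (g j) ∧
        res hVi (c i) ^ k • (resM F hVi (t i) - d ^ N • resM F hVj (t j)) = 0 := by
    intro i j
    obtain ⟨κ, _, V, hV, hVW, hVcov, -⟩ := exists_finite_gen_cover hL (W := W i ⊓ W j)
      (QuasiSeparatedSpace.inter_isCompact _ _ (W i).2 (hW i).isCompact (W j).2 (hW j).isCompact)
    have h : ∀ l, ∃ (k : ℕ) (d : Γ(X, V l)), d • resM L ((hVW l).trans inf_le_left) (g i) =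
        resM L ((hVW l).trans inf_le_right) (g j) ∧
        res ((hVW l).trans inf_le_left) (c i) ^ k • (resM F ((hVW l).trans inf_le_left) (t i) -
          d ^ N • resM F ((hVW l).trans inf_le_right) (t j)) = 0 := fun l => by
      have hi : V l ≤ W i := (hVW l).trans inf_le_left
      have hj : V l ≤ W j := (hVW l).trans inf_le_right
      have hgi := (hg i).restrict hi
      obtain ⟨d, hd⟩ : ∃ d : Γ(X, V l), d • resM L hi (g i) = resM L hj (g j) := (hg i (V l) hi).2 _
      have hcd : res hi (c i) = res hj (c j) * d := by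
        refine ((hg i) (V l) hi).1 ?_
        show res hi (c i) • resM L hi (g i) = (res hj (c j) * d) • resM L hi (g i)
        rw [mul_smul, hd, ← resM_smul, ← resM_smul]
        have e1 := congrArg (resM L hi) ((hg i).coef_spec le_rfl (resM L le_top a))
        have e2 := congrArg (resM L hj) ((hg j).coef_spec le_rfl (resM L le_top a))
        rw [resM_self] at e1 e2
        rw [e1, e2, resM_resM, resM_resM]
      have hcoef : hgi.coef le_rfl (resM L le_top a) = res hi (c i) := by
        refine IsGen.coef_eq _ _ ?_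
        rw [resM_self, ← resM_smul]
        have e1 := congrArg (resM L hi) ((hg i).coef_spec le_rfl (resM L le_top a))
        rw [resM_self] at e1
        rw [e1, resM_resM]
      obtain ⟨k, hk⟩ := exists_pow_smul_eq_zero_affine F a (hV l) hgi
        (resM F hi (t i) - d ^ N • resM F hj (t j)) (by
          rw [map_sub, resM_smul, resM_resM, resM_resM,
            ← resM_resM F (inf_le_right : glocus L a ⊓ W i ≤ W i) (inf_le_inf_left _ hi), ht i,
            ← resM_resM F (inf_le_right : glocus L a ⊓ W j ≤ W j) (inf_le_inf_left _ hj), ht j,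
            resM_smul, resM_smul, resM_resM, resM_resM, ← mul_smul, sub_eq_zero, map_pow, map_pow, map_pow,
            ← mul_pow]
          congr 2
          have := congrArg (res (inf_le_right : glocus L a ⊓ V l ≤ V l)) hcd
          rw [map_mul, res_res, res_res] at this
          rw [res_res, res_res, this, mul_comm])
      rw [hcoef] at hk
      exact ⟨k, d, hd, hk⟩
    choose k d hd hk using h
    have := Fintype.ofFinite κ
    refine ⟨Finset.univ.sup k, fun y hy => ?_⟩
    obtain ⟨l, hyl⟩ := Opens.mem_iSup.1 (hVcov hy)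
    refine ⟨V l, (hVW l).trans inf_le_left, (hVW l).trans inf_le_right, hyl, d l, hd l, ?_⟩
    obtain ⟨e, he⟩ := Nat.exists_eq_add_of_le (Finset.le_sup (f := k) (Finset.mem_univ l))
    rw [he, add_comm, pow_add, mul_smul, hk l, smul_zero]
  choose k hk using hov
  let K := Finset.univ.sup fun p : ι × ι => k p.1 p.2
  let τ : ∀ i, Γ(CohB1.tensorMod F (CohB1.tensorPow L (N + K)), W i) := fun i =>
    tmul (c i ^ K • t i) (powSec (g i) (N + K))
  obtain ⟨T, hT, -⟩ := TopCat.Sheaf.existsUnique_gluing'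
    (⟨(CohB1.tensorMod F (CohB1.tensorPow L (N + K))).presheaf,
      (CohB1.tensorMod F (CohB1.tensorPow L (N + K))).isSheaf⟩ : TopCat.Sheaf Ab X)
    W ⊤ (fun i => homOfLE le_top) hcov τ (fun i j => by
      refine sec_ext (CohB1.tensorMod F (CohB1.tensorPow L (N + K))) _ _ fun y hy => ?_
      obtain ⟨V, hVi, hVj, hyV, d, hd, hz⟩ := hk i j y hy
      refine ⟨V, le_inf hVi hVj, hyV, ?_⟩
      show resM _ (le_inf hVi hVj) (resM _ inf_le_left (τ i)) = resM _ (le_inf hVi hVj) (resM _ inf_le_right (τ j))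
      rw [resM_resM, resM_resM]
      simp only [τ, resM_tmul, resM_powSec, resM_smul, map_pow]
      rw [← hd, powSec_smul, tmul_smul_right, ← tmul_smul_left, ← mul_smul, pow_add, mul_assoc, ← mul_pow]
      refine congrArg (tmul · _) ?_
      have hcd : res hVi (c i) = d * res hVj (c j) := by
        refine ((hg i) V hVi).1 ?_
        show res hVi (c i) • resM L hVi (g i) = (d * res hVj (c j)) • resM L hVi (g i)
        rw [mul_comm, mul_smul, hd, ← resM_smul, ← resM_smul]
        have e1 := congrArg (resM L hVi) ((hg i).coef_spec le_rfl (resM L le_top a))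
        have e2 := congrArg (resM L hVj) ((hg j).coef_spec le_rfl (resM L le_top a))
        rw [resM_self] at e1 e2
        rw [e1, e2, resM_resM, resM_resM]
      obtain ⟨e, he⟩ := Nat.exists_eq_add_of_le (Finset.le_sup (f := fun p : ι × ι => k p.1 p.2) (Finset.mem_univ (i, j)))
      have h0 : res hVi (c i) ^ K • (resM F hVi (t i) - d ^ N • resM F hVj (t j)) = 0 := by
        rw [show K = k i j + e from he, add_comm, pow_add, mul_smul, hz, smul_zero]
      rw [smul_sub, sub_eq_zero] at h0
      rw [h0, ← mul_smul, ← hcd, mul_comm])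
  refine ⟨N + K, T, sec_ext _ _ _ fun y hy => ?_⟩
  obtain ⟨i, hyi⟩ := Opens.mem_iSup.1 (hcov (show y ∈ (⊤ : X.Opens) from trivial))
  refine ⟨glocus L a ⊓ W i, inf_le_left, ⟨hy, hyi⟩, ?_⟩
  rw [resM_resM, ← resM_resM _ (le_top : W i ≤ ⊤) (inf_le_right : glocus L a ⊓ W i ≤ W i),
    show resM _ (le_top : W i ≤ ⊤) T = τ i from hT i, resM_tmul (inf_le_left : glocus L a ⊓ W i ≤ glocus L a),
    resM_powSec, resM_resM, tmul_powSec_res F a (hg i) _ (inf_le_right : glocus L a ⊓ W i ≤ W i)]
  simp only [τ, resM_tmul, resM_powSec, resM_smul, map_pow]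
  rw [ht i, ← mul_smul, ← pow_add, add_comm K N]

/-- Without coefficients: a function on the locus of `a` times a power of `a` is a section of a power. -/
theorem exists_extend_pow [CompactSpace X] [QuasiSeparatedSpace X] (hL : PicF.IsInvertible L)
    (f : Γ(X, glocus L a)) :
    ∃ (n : ℕ) (t : Γ(CohB1.tensorPow L n, ⊤)),
      resM _ (le_top : glocus L a ≤ ⊤) t = f • powSec (resM L le_top a) n := by
  have : Coh.IsQCoh (Coh.structureModule X) := isQCoh_structureModule (X := X)
  obtain ⟨n, t, ht⟩ := exists_extend (Coh.structureModule X) a hL f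
  refine ⟨n, (unitTensorIso (CohB1.tensorPow L n)).hom.app ⊤ t, ?_⟩
  rw [← app_resM, ht]
  exact Bilin.desc_tmul _ _ _ _

end Groth.Agent.AmpleLib
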