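import Groth.Agent.AmpleLib.RestrictTensor
import Groth.Agent.AmpleLib.FTIdeal
import Groth.Agent.AmpleLib.Relative2

/-!
# Epimorphic counits from generation over the base
-/

set_option autoImplicit false
set_option backward.isDefEq.respectTransparency.types false

universe u

open CategoryTheory CategoryTheory.Limits AlgebraicGeometry Opposite TopologicalSpace
open Groth.Agent.Coherent Groth.Agent.PicLib

namespace Groth.Agent.AmpleLib

variable {X Y : Scheme.{u}}

theorem counit_app_pullSec (f : X ⟶ Y) (N : X.Modules) (V : Y.Opens) (g : Γ(N, f ⁻¹ᵁ V)) :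
    ((Scheme.Modules.pullbackPushforwardAdjunction f).counit.app N).app (f ⁻¹ᵁ V)
      (pullSec f (show Γ((Scheme.Modules.pushforward f).obj N, V) from g)) = g := by
  have h := homEquiv_symm_app_pullSec f (L := (Scheme.Modules.pushforward f).obj N) (M := N)
    (𝟙 _) (U := V) g
  rw [Adjunction.homEquiv_counit, (Scheme.Modules.pullback f).map_id, Category.id_comp] at h
  exact h

theorem epi_counit_of_globallyGenerated (f : X ⟶ Y) (N : X.Modules)
    (h : ∀ x : X, ∃ V : Y.Opens, f x ∈ V ∧ Curv2.IsGloballyGenerated (N.restrict (f ⁻¹ᵁ V).ι)) :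
    Epi ((Scheme.Modules.pullbackPushforwardAdjunction f).counit.app N) := by
  refine ⟨fun {Q} q q' hqq => ?_⟩
  rw [← sub_eq_zero]
  let d : N ⟶ Q := q - q'
  have hd : (Scheme.Modules.pullbackPushforwardAdjunction f).counit.app N ≫ d = 0 := by
    rw [Preadditive.comp_sub, sub_eq_zero]; exact hqq
  have hkill : ∀ (V : Y.Opens) (g : Γ(N, f ⁻¹ᵁ V)), d.app (f ⁻¹ᵁ V) g = 0 := fun V g => by
    rw [← counit_app_pullSec f N V g]
    exact ConcreteCategory.congr_hom (congrArg (fun φ => Scheme.Modules.Hom.app φ (f ⁻¹ᵁ V)) hd) _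
  refine Scheme.Modules.hom_ext _ _ fun U => ?_
  ext a
  show d.app U a = 0
  refine sec_ext _ _ _ fun x hx => ?_
  obtain ⟨V, hxV, ι, p₀, hp₀⟩ := h x
  let P := f ⁻¹ᵁ V
  let p : freeMod P.toScheme ι ⟶ N.restrict P.ι := p₀
  have hp : Epi p := hp₀
  let dP : N.restrict P.ι ⟶ Q.restrict P.ι := (Scheme.Modules.restrictFunctor P.ι).map d
  have hzero : p ≫ dP = 0 := by
    refine freeMod_hom_ext fun i => ?_
    rw [comp_zero]
    let ψ := freeInj i ≫ p ≫ dP
    have h1 : unitVal ψ ⊤ = 0 := by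
      show dP.app ⊤ (p.app ⊤ (freeBasisVec i ⊤)) = 0
      apply (ConcreteCategory.bijective_of_isIso (Q.restrictAppIso P.ι ⊤).hom).1
      rw [map_zero]
      let g : Γ(N, P) := resM N (Scheme.Opens.ι_image_top P).ge
        ((N.restrictAppIso P.ι ⊤).hom (p.app ⊤ (freeBasisVec i ⊤)))
      have hg := congrArg (resM Q (Scheme.Opens.ι_image_top P).le) (hkill V g)
      rw [← app_resM, map_zero] at hg
      have hgv : resM N (Scheme.Opens.ι_image_top P).le g = (N.restrictAppIso P.ι ⊤).hom (p.app ⊤ (freeBasisVec i ⊤)) :=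
        (resM_resM N (Scheme.Opens.ι_image_top P).ge (Scheme.Opens.ι_image_top P).le _).trans (resM_self N _ _)
      rw [hgv] at hg
      exact hg
    refine Scheme.Modules.hom_ext _ _ fun W => ?_
    ext r
    show ψ.app W r = 0
    refine (app_unit ψ r).trans ?_
    rw [← resM_unitVal ψ (le_top : W ≤ ⊤), h1, map_zero, smul_zero]
  have hdP : dP = 0 := by rw [← cancel_epi p, hzero, comp_zero]
  let T := P.ι ''ᵁ (P.ι ⁻¹ᵁ U)
  have hT : T ≤ U := Set.image_preimage_subset _ _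
  refine ⟨T, hT, ⟨⟨x, hxV⟩, hx, rfl⟩, ?_⟩
  rw [map_zero, ← app_resM]
  have h2 : dP.app (P.ι ⁻¹ᵁ U) ((N.restrictAppIso P.ι (P.ι ⁻¹ᵁ U)).inv (resM N hT a)) = 0 := by
    rw [hdP]; rfl
  exact h2

theorem isCoh_restrict (j : X ⟶ Y) [IsOpenImmersion j] (M : Y.Modules) (h : Coh.IsCoh M) : Coh.IsCoh (M.restrict j) := by
  obtain ⟨hq, hft⟩ := h
  have : Coh.IsQCoh M := hq
  refine ⟨inferInstanceAs (Coh.IsQCoh (M.restrict j)), isFT_of_locallyFinGen fun z => ?_⟩
  obtain ⟨U, I, hI, s, hzU, hs⟩ := locallyFinGen_of_isFT M hft (j z)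
  exact ⟨j ⁻¹ᵁ U, I, hI, _, hzU,
    genOn_restrict_of_genOn j M (hs.res (show j ''ᵁ (j ⁻¹ᵁ U) ≤ U from Set.image_preimage_subset _ _))⟩

end Groth.Agent.AmpleLib
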