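import Groth.Agent.AmpleLib.Twist2
import Groth.Agent.AmpleLib.Relative
import Groth.Agent.Coherent.FinitePres
import Groth.Prelude.Def_Curv2

/-!
# Global generation
-/

set_option autoImplicit false
set_option backward.isDefEq.respectTransparency.types false

universe u

open CategoryTheory CategoryTheory.Limits AlgebraicGeometry Opposite TopologicalSpace
open Groth.Agent.Coherent Groth.Agent.PicLib

namespace Groth.Agent.AmpleLib

variable {X : Scheme.{u}} {L M : X.Modules} {U : X.Opens}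

/-- The submodule generated on an open by the global sections. -/
noncomputable def globalSpan (M : X.Modules) (W : X.Opens) : Submodule Γ(X, W) Γ(M, W) :=
  Submodule.span _ (Set.range fun s : Γ(M, ⊤) => resM M (le_top : W ≤ ⊤) s)

theorem resM_mem_globalSpan {W' W : X.Opens} (h : W' ≤ W) {a : Γ(M, W)} (ha : a ∈ globalSpan M W) :
    resM M h a ∈ globalSpan M W' := by
  induction ha using Submodule.span_induction with
  | mem x hx =>
    obtain ⟨s, rfl⟩ := hx
    rw [resM_resM]
    exact Submodule.subset_span ⟨s, rfl⟩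
  | zero => rw [map_zero]; exact Submodule.zero_mem _
  | add x y _ _ hx hy => rw [map_add]; exact Submodule.add_mem _ hx hy
  | smul r x _ hx => rw [resM_smul]; exact Submodule.smul_mem _ _ hx

/-- Criterion for global generation. -/
theorem isGloballyGenerated_of_locally
    (h : ∀ y : X, ∃ A : X.Opens, y ∈ A ∧ ∀ (W : X.Opens), W ≤ A → ∀ (a : Γ(M, W)), ∀ z ∈ W,
      ∃ (W' : X.Opens) (hle : W' ≤ W), z ∈ W' ∧ resM M hle a ∈ globalSpan M W') :
    Curv2.IsGloballyGenerated M := by
  refine ⟨Γ(M, ⊤), freeDesc fun s => Coherent.unitDesc M s, epi_of_locally_surjective _ fun W a y hy => ?_⟩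
  obtain ⟨A, hyA, hA⟩ := h y
  obtain ⟨W', hle, hyW', hmem⟩ := hA (W ⊓ A) inf_le_right (resM M inf_le_left a) y ⟨hy, hyA⟩
  rw [resM_resM] at hmem
  refine ⟨W', hle.trans inf_le_left, hyW', ?_⟩
  have hrange : globalSpan M W' ≤ LinearMap.range (appLin (freeDesc fun s => Coherent.unitDesc M s) W') := by
    refine Submodule.span_le.2 ?_
    rintro _ ⟨s, rfl⟩
    refine ⟨freeBasisVec s W', ?_⟩
    show (freeInj s ≫ freeDesc fun s => Coherent.unitDesc M s).app W' (1 : Γ(X, W')) = _
    rw [freeInj_freeDesc]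
    exact unitVal_unitDesc M s W'
  exact hrange hmem

theorem globallyGenerated_of_iso (e : L ≅ M) (h : Curv2.IsGloballyGenerated L) : Curv2.IsGloballyGenerated M := by
  obtain ⟨ι, p, hp⟩ := h
  exact ⟨ι, p ≫ e.hom, @epi_comp X.Modules _ _ _ _ p hp e.hom inferInstance⟩

/-- Twists of a finite-type quasi-coherent module by an ample module are eventually generated. -/
theorem eventually_globallyGenerated (hL : CohB1.IsAmple L) (F : X.Modules) (hF : Coh.IsCoh F) :
    ∃ N : ℕ, ∀ n, N ≤ n → Curv2.IsGloballyGenerated (CohB1.tensorMod F (CohB1.tensorPow L n)) := by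
  classical
  obtain ⟨hq, hfin⟩ := (isCoh_iff_finite_sections F).1 hF
  have := hq
  obtain ⟨hLi, hc, -⟩ := isAmple_iff_affGlocus.1 hL
  have key : ∀ x : X, ∃ (A : X.Opens) (N : ℕ), x ∈ A ∧ ∀ n, N ≤ n → ∀ (W : X.Opens), W ≤ A →
      ∀ (a : Γ(CohB1.tensorMod F (CohB1.tensorPow L n), W)), ∀ z ∈ W,
        ∃ (W' : X.Opens) (hle : W' ≤ W), z ∈ W' ∧ resM _ hle a ∈ globalSpan _ W' := fun x => by
    obtain ⟨V, hxV, g, hg⟩ := exists_isGen hLi x
    obtain ⟨m, hm, b, hxb, hbV, hb⟩ := affGlocus_of_mem (x := x) (U := V) hL hxV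
    let A := glocus _ b
    obtain ⟨r, f, hf⟩ := (hfin A hb).exists_fin
    have := fun i : Fin r => exists_twist_section hL F hm b (hg.restrict hbV) (f i)
    choose N hN using this
    refine ⟨A, Finset.univ.sup N, hxb, fun n hn W hW a z hz => ?_⟩
    have hN' := fun i => hN i n ((Finset.le_sup (Finset.mem_univ i)).trans hn)
    choose u h hh hu using hN'
    by_cases hr : r = 0
    · subst hr
      obtain ⟨x₀, rfl⟩ := (bijective_tmul_gen (M := F) (isGen_powSec (hg.restrict hbV) n) W hW).2 a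
      have hgen : GenOn F A fun i : ULift.{u} (Fin 0) => f i.down := genOn_of_span_top F hb _ (by
        rw [← hf]; congr 1; exact Equiv.ulift.surjective.range_comp f)
      obtain ⟨W', hle, hzW', c, hc⟩ := hgen W hW x₀ z hz
      refine ⟨W', hle, hzW', ?_⟩
      rw [resM_tmul, hc]
      simp only [Finset.univ_eq_empty, Finset.sum_empty, tmul_zero_left]
      exact Submodule.zero_mem _
    · let i₀ : Fin r := ⟨0, Nat.pos_of_ne_zero hr⟩
      obtain ⟨x₀, rfl⟩ := (bijective_tmul_gen (M := F) (hh i₀) W hW).2 a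
      have hgen : GenOn F A fun i : ULift.{u} (Fin r) => f i.down := genOn_of_span_top F hb _ (by
        rw [← hf]; congr 1; exact Equiv.ulift.surjective.range_comp f)
      obtain ⟨W', hle, hzW', c, hc⟩ := hgen W hW x₀ z hz
      refine ⟨W', hle, hzW', ?_⟩
      rw [resM_tmul, hc, resM_resM]
      let Φ : Γ(F, W') →+ Γ(CohB1.tensorMod F (CohB1.tensorPow L n), W') :=
        AddMonoidHom.mk' (fun x => tmul x (resM _ (hle.trans hW) (h i₀))) fun x y => tmul_add_left x y _
      show Φ _ ∈ _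
      rw [map_sum]
      refine Submodule.sum_mem _ fun i _ => ?_
      show tmul (c i • resM F (hle.trans hW) (f i.down)) (resM _ (hle.trans hW) (h i₀)) ∈ _
      obtain ⟨d, hd⟩ : ∃ d : Γ(X, W'), d • resM _ (hle.trans hW) (h i.down) = resM _ (hle.trans hW) (h i₀) :=
        ((hh i.down) W' (hle.trans hW)).2 _
      rw [tmul_smul_left, ← hd, tmul_smul_right, ← resM_tmul, ← hu i.down, resM_resM]
      exact Submodule.smul_mem _ _ (Submodule.smul_mem _ _ (Submodule.subset_span ⟨_, rfl⟩))
  choose A N hxA hA using key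
  obtain ⟨t, ht⟩ := isCompact_univ.elim_finite_subcover (fun x : X => (A x : Set X)) (fun x => (A x).2)
    fun x _ => Set.mem_iUnion.2 ⟨x, hxA x⟩
  refine ⟨t.sup N, fun n hn => isGloballyGenerated_of_locally fun y => ?_⟩
  obtain ⟨x, hxt, hyx⟩ := Set.mem_iUnion₂.1 (ht (Set.mem_univ y))
  exact ⟨A x, hyx, hA x n ((Finset.le_sup hxt).trans hn)⟩

/-- Twists of an invertible module by an ample module have eventually sections generating at each point. -/
theorem eventually_exists_mem_glocus (hL : CohB1.IsAmple L) (hM : PicF.IsInvertible M) :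
    ∃ N : ℕ, ∀ n, N ≤ n → ∀ x : X, ∃ u : Γ(CohB1.tensorMod M (CohB1.tensorPow L n), ⊤), x ∈ glocus _ u := by
  classical
  obtain ⟨hLi, hc, -⟩ := isAmple_iff_affGlocus.1 hL
  have := isQCoh_of_isInvertible hM
  have key : ∀ x : X, ∃ (A : X.Opens) (N : ℕ), x ∈ A ∧ ∀ n, N ≤ n →
      ∃ u : Γ(CohB1.tensorMod M (CohB1.tensorPow L n), ⊤), A ≤ glocus _ u := fun x => by
    obtain ⟨V, hxV, g, hg⟩ := exists_isGen hLi x
    obtain ⟨V', hxV', g', hg'⟩ := exists_isGen hM x
    obtain ⟨m, hm, b, hxb, hbV, -⟩ := affGlocus_of_mem (x := x) (U := V ⊓ V') hL ⟨hxV, hxV'⟩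
    have hg₁ := hg.restrict (hbV.trans inf_le_left)
    obtain ⟨N, hN⟩ := exists_twist_section hL M hm b hg₁ (resM M (hbV.trans inf_le_right) g')
    refine ⟨glocus _ b, N, hxb, fun n hn => ?_⟩
    obtain ⟨u, h, hh, hu⟩ := hN n hn
    refine ⟨u, ?_⟩
    rw [le_glocus_iff, hu]
    exact isGen_tmul (hg'.restrict _) hh
  choose A N hxA hA using key
  obtain ⟨t, ht⟩ := isCompact_univ.elim_finite_subcover (fun x : X => (A x : Set X)) (fun x => (A x).2)
    fun x _ => Set.mem_iUnion.2 ⟨x, hxA x⟩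
  refine ⟨t.sup N, fun n hn y => ?_⟩
  obtain ⟨x, hxt, hyx⟩ := Set.mem_iUnion₂.1 (ht (Set.mem_univ y))
  obtain ⟨u, hu⟩ := hA x n ((Finset.le_sup hxt).trans hn)
  exact ⟨u, hu hyx⟩

/-- An invertible module with sections generating at each point is globally generated. -/
theorem globallyGenerated_of_glocus (hM : PicF.IsInvertible M) (h : ∀ x : X, ∃ u : Γ(M, ⊤), x ∈ glocus M u) :
    Curv2.IsGloballyGenerated M := by
  refine isGloballyGenerated_of_locally fun y => ?_
  obtain ⟨u, hu⟩ := h y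
  refine ⟨glocus M u, hu, fun W hW a z hz => ⟨W, le_rfl, hz, ?_⟩⟩
  obtain ⟨r, hr⟩ := (isGen_glocus u W hW).2 a
  rw [resM_self, ← hr]
  simp only [resM_resM]
  exact Submodule.smul_mem _ _ (Submodule.subset_span ⟨u, rfl⟩)

/-- High twists of an invertible module are ample and generated. -/
theorem eventually_ample_and_generated (hL : CohB1.IsAmple L) (hM : PicF.IsInvertible M) :
    ∃ N : ℕ, 0 < N ∧ ∀ n, N ≤ n → CohB1.IsAmple (CohB1.tensorMod (CohB1.tensorPow L n) M) ∧
      Curv2.IsGloballyGenerated (CohB1.tensorMod (CohB1.tensorPow L n) M) := by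
  obtain ⟨N, hN⟩ := eventually_exists_mem_glocus hL hM
  refine ⟨N + 1, N.succ_pos, fun n hn => ⟨?_, ?_⟩⟩
  · obtain ⟨j, rfl⟩ : ∃ j, n = j + 1 := ⟨n - 1, by omega⟩
    have hLi := hL.1
    have hG := isInvertible_tensorMod hM (isInvertible_tensorPow hLi j)
    have h1 : CohB1.IsAmple (CohB1.tensorMod L (CohB1.tensorMod M (CohB1.tensorPow L j))) := by
      refine isAmple_tensor_of_generated hL hG fun x => ?_
      obtain ⟨u, hu⟩ := hN j (by omega) x
      have h0 : x ∈ glocus (CohB1.tensorMod (Coh.structureModule X) (CohB1.tensorMod M (CohB1.tensorPow L j)))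
          (tmul (oneSec ⊤) u) := by
        rw [glocus_tmul isInvertible_structureModule hG, glocus_oneSec]; exact ⟨trivial, hu⟩
      exact ⟨1, one_pos, tmul (oneSec ⊤) u, h0⟩
    obtain ⟨e, -⟩ := exists_assocIso hM (isInvertible_tensorPow hLi j) hLi
    exact isAmple_of_iso (tensorComm _ _ ≪≫ e ≪≫ tensorComm _ _) h1
  · exact globallyGenerated_of_iso (tensorComm _ _)
      (globallyGenerated_of_glocus (isInvertible_tensorMod hM (isInvertible_tensorPow hL.1 n)) (hN n (by omega)))

/-- On a quasi-affine scheme every quasi-coherent module is globally generated. -/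
theorem globallyGenerated_of_isQuasiAffine [X.IsQuasiAffine] (F : X.Modules) [Coh.IsQCoh F] :
    Curv2.IsGloballyGenerated F := by
  refine isGloballyGenerated_of_locally fun y => ⟨⊤, trivial, fun W _ a z hz => ?_⟩
  obtain ⟨_, ⟨r, hr, rfl⟩, hzr, hrW⟩ := Opens.isBasis_iff_nbhd.1 (Scheme.IsQuasiAffine.isBasis_basicOpen X) hz
  let s : Γ(Coh.structureModule X, ⊤) := r
  have hs : glocus (Coh.structureModule X) s = X.basicOpen r := glocus_structureModule r
  refine ⟨glocus _ s, hs.le.trans hrW, hs.ge hzr, ?_⟩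
  obtain ⟨n, t, ht⟩ := exists_extend F s isInvertible_structureModule (resM F (hs.le.trans hrW) a)
  obtain ⟨ePow⟩ := exists_structurePowIso (X := X) n
  let v : Γ(X, glocus (Coh.structureModule X) s) :=
    (show Γ(X, glocus (Coh.structureModule X) s) from
      ePow.hom.app _ (powSec (resM _ (le_top : glocus (Coh.structureModule X) s ≤ ⊤) s) n))
  have hv : IsUnit v := by
    have hgen := isGen_map_iso ePow (isGen_powSec (isGen_glocus s) n)
    obtain ⟨w, hw⟩ := (hgen _ le_rfl).2 (oneSec (glocus (Coh.structureModule X) s))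
    refine IsUnit.of_mul_eq_one w ?_
    simp only [resM_self] at hw
    rw [mul_comm]
    exact hw
  let e : CohB1.tensorMod F (CohB1.tensorPow (Coh.structureModule X) n) ≅ F :=
    tensorIso (Iso.refl F) ePow ≪≫ tensorComm _ _ ≪≫ unitTensorIso F
  have he : resM F le_top (e.hom.app ⊤ t) = v • resM F (hs.le.trans hrW) a := by
    rw [← app_resM, ht]
    show (unitTensorIso F).hom.app _ ((tensorSwap _ _).app _ ((tensorMap _ _).app _ (tmul _ _))) = _
    rw [tensorMap_tmul]
    refine (congrArg _ (Bilin.desc_tmul _ _ _ _)).trans ?_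
    exact Bilin.desc_tmul _ _ _ _
  obtain ⟨w, hw⟩ := hv.exists_left_inv
  rw [show resM F (hs.le.trans hrW) a = w • resM F (le_top : _ ≤ ⊤) (e.hom.app ⊤ t) by rw [he, smul_smul, hw, one_smul]]
  exact Submodule.smul_mem _ _ (Submodule.subset_span ⟨_, rfl⟩)

end Groth.Agent.AmpleLib
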