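import Groth.Agent.Coherent.Affineness
import Groth.Agent.PicLib.Invertible
import Mathlib.AlgebraicGeometry.Morphisms.Affine

/-!
# A criterion of affineness of an open, through ideals of closed sets
-/

set_option autoImplicit false
set_option backward.isDefEq.respectTransparency.types false

universe u

open CategoryTheory CategoryTheory.Limits AlgebraicGeometry Opposite TopologicalSpace
open Groth.Agent.Coherent Groth.Agent.PicLib

namespace Groth.Agent.AmpleLib

variable {X : Scheme.{u}}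

/-- Sections of the ideal of a closed set, as an ideal. -/
noncomputable def vanIdeal (Z : Closeds X) (W : X.Opens) : Ideal Γ(X, W) :=
  LinearMap.range (appLin (kernel.ι (toRedSub Z)) W)

theorem mem_vanIdeal {Z : Closeds X} {W : X.Opens} {f : Γ(X, W)} :
    f ∈ vanIdeal Z W ↔ ∀ z ∈ Z, z ∉ X.basicOpen f :=
  exists_idealOf_iff Z W f

/-- On the open `U`, the surjectivity of sections used in Serre's criterion. -/
def IdealSurj (U : X.Opens) : Prop :=
  ∀ (Z Z' : Closeds X) (h : Z ≤ Z'),
    Function.Surjective ((cokernel.π (idealOfLE h)).app U)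

theorem shortExact_idealOfLE {Z Z' : Closeds X} (h : Z ≤ Z') :
    (ShortComplex.mk (idealOfLE h) (cokernel.π (idealOfLE h)) (cokernel.condition _)).ShortExact :=
  { exact := ShortComplex.exact_of_g_is_cokernel _ (cokernelIsCokernel _) }

variable {U : X.Opens}

/-- A relatively closed point of `U` has an affine neighbourhood cut out by a function on `U`. -/
theorem exists_isAffineOpen_basicOpen_rel (H : IdealSurj U) {x : X} (hxU : x ∈ U)
    (hx : IsClosed ({x} ∪ (U : Set X)ᶜ)) :
    ∃ f : Γ(X, U), x ∈ X.basicOpen f ∧ IsAffineOpen (X.basicOpen f) := by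
  obtain ⟨U₀, hU₀, hxU₀, hU₀U⟩ := exists_isAffineOpen_mem_and_subset (x := x) (U := U) hxU
  let Z : Closeds X := ⟨(U₀ : Set X)ᶜ, U₀.2.isClosed_compl⟩
  let Z' : Closeds X := Z ⊔ ⟨_, hx⟩
  have hle : Z ≤ Z' := le_sup_left
  let i := idealOfLE hle
  let V : X.Opens := ⟨(U : Set X) ∩ {x}ᶜ, by
    rw [← isClosed_compl_iff]
    convert hx using 1
    rw [Set.compl_inter, compl_compl, Set.union_comm]⟩
  have hVU : V ≤ U := Set.inter_subset_left
  obtain ⟨k₁, hk₁⟩ : ∃ k, (kernel.ι (toRedSub Z)).app U₀ k = (1 : Γ(X, U₀)) :=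
    (exists_idealOf_iff Z U₀ 1).2 fun z hz hz' => hz (X.basicOpen_le _ hz')
  obtain ⟨k', hk'⟩ : ∃ k', (kernel.ι (toRedSub Z')).app (U₀ ⊓ V) k' = (1 : Γ(X, U₀ ⊓ V)) := by
    refine (exists_idealOf_iff Z' (U₀ ⊓ V) 1).2 fun z hz hz' => ?_
    obtain ⟨hzU, hzV⟩ := X.basicOpen_le _ hz'
    rcases hz with hz | hz
    · exact hz hzU
    · rcases hz with hz | hz
      · exact hzV.2 hz
      · exact hz hzV.1
  have hzero : resM (cokernel i) (inf_le_left : U₀ ⊓ V ≤ U₀) ((cokernel.π i).app U₀ k₁) = 0 := by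
    rw [← app_resM]
    have e : resM (idealOf Z) inf_le_left k₁ = i.app (U₀ ⊓ V) k' := by
      apply app_injective_of_mono (kernel.ι (toRedSub Z)) (U₀ ⊓ V)
      rw [app_resM, hk₁]
      refine (map_one (X.presheaf.map (homOfLE (inf_le_left : U₀ ⊓ V ≤ U₀)).op).hom).trans ?_
      rw [← hk', ← idealOfLE_ι hle]
      rfl
    rw [e]
    exact sections_zero (S := ShortComplex.mk i (cokernel.π i) (cokernel.condition i)) _ k'
  -- glue
  let W : ULift.{u} Bool → X.Opens := fun b => if b.down then U₀ else V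
  obtain ⟨q, hq, -⟩ := TopCat.Sheaf.existsUnique_gluing'
    (⟨(cokernel i).presheaf, (cokernel i).isSheaf⟩ : TopCat.Sheaf Ab X)
    W U (fun b => homOfLE (by rcases b with ⟨_ | _⟩; exacts [hVU, fun z hz => hU₀U hz]))
    (fun z hz => by
      by_cases h : z = x
      · exact Opens.mem_iSup.2 ⟨⟨true⟩, h ▸ hxU₀⟩
      · exact Opens.mem_iSup.2 ⟨⟨false⟩, hz, h⟩)
    (fun b => match b with
      | ⟨true⟩ => (cokernel.π i).app U₀ k₁
      | ⟨false⟩ => (0 : Γ(cokernel i, V)))
    (fun a b => by
      rcases a with ⟨_ | _⟩ <;> rcases b with ⟨_ | _⟩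
      · rfl
      · show resM _ inf_le_left (0 : Γ(cokernel i, V)) = resM _ inf_le_right _
        rw [map_zero, ← resM_resM _ (inf_le_left : U₀ ⊓ V ≤ U₀) (le_inf inf_le_right inf_le_left : V ⊓ U₀ ≤ U₀ ⊓ V), hzero, map_zero]
      · show resM _ inf_le_left _ = resM _ inf_le_right (0 : Γ(cokernel i, V))
        rw [map_zero]
        exact hzero
      · rfl)
  obtain ⟨k, hk⟩ := H Z Z' hle q
  let f : Γ(X, U) := (kernel.ι (toRedSub Z)).app U k
  have hfU : X.basicOpen f ≤ U₀ := fun z hz => by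
    by_contra h
    exact (exists_idealOf_iff Z U f).1 ⟨k, rfl⟩ z h hz
  have hU₀U' : U₀ ≤ U := fun z hz => hU₀U hz
  obtain ⟨c, hc⟩ := sections_exact (shortExact_idealOfLE hle) (resM (idealOf Z) hU₀U' k - k₁) (by
    rw [map_sub]
    refine sub_eq_zero.2 ?_
    show (cokernel.π i).app U₀ _ = (cokernel.π i).app U₀ k₁
    rw [app_resM]
    exact (congrArg (resM (cokernel i) hU₀U') hk).trans (hq ⟨true⟩))
  let fU : Γ(X, U₀) := X.presheaf.map (homOfLE hU₀U').op f
  let g : Γ(X, U₀) := fU - 1
  have hxg : x ∉ X.basicOpen g := by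
    refine (exists_idealOf_iff Z' U₀ g).1 ⟨c, ?_⟩ x (Or.inr (Or.inl rfl))
    have : (i ≫ kernel.ι (toRedSub Z)).app U₀ c = g := by
      refine (congrArg ((kernel.ι (toRedSub Z)).app U₀) hc).trans ?_
      rw [map_sub, app_resM, hk₁]
      rfl
    rwa [idealOfLE_ι] at this
  have hxf : x ∈ X.basicOpen f := by
    have h : x ∈ X.basicOpen fU := by
      refine (Scheme.mem_basicOpen'' _ _ _).2 ⟨hxU₀, ?_⟩
      have hxg' : ¬ IsUnit (X.presheaf.germ U₀ x hxU₀ g) := fun h =>
        hxg ((Scheme.mem_basicOpen'' _ _ _).2 ⟨hxU₀, h⟩)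
      rw [map_sub, map_one] at hxg'
      rcases IsLocalRing.isUnit_or_isUnit_one_sub_self (X.presheaf.germ U₀ x hxU₀ fU) with h | h
      · exact h
      · exact absurd (by simpa using h.neg) hxg'
    rw [Scheme.basicOpen_res] at h
    exact h.2
  refine ⟨f, hxf, ?_⟩
  rw [← inf_eq_right.2 hfU, ← Scheme.basicOpen_res X f (homOfLE hU₀U').op]
  exact hU₀.basicOpen _

/-- The ideal lemma: vanishing loci control powers modulo the ideal of a closed set. -/
theorem exists_pow_mem_vanIdeal (hU : IsCompact (U : Set X)) (H : IdealSurj U) :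
    ∀ (n : ℕ) (g : Fin n → Γ(X, U)) (T : Closeds X) (h : Γ(X, U)),
      (∀ z ∈ T, z ∈ X.basicOpen h → ∃ i, z ∈ X.basicOpen (g i)) →
      ∃ (N : ℕ) (a : Fin n → Γ(X, U)), h ^ N - ∑ i, a i * g i ∈ vanIdeal T U := by
  intro n
  induction n with
  | zero =>
    intro g T h hT
    refine ⟨1, finZeroElim, ?_⟩
    rw [Finset.univ_eq_empty, Finset.sum_empty, sub_zero, pow_one, mem_vanIdeal]
    exact fun z hz hzh => (hT z hz hzh).elim fun i => i.elim0
  | succ n ih =>
    intro g T h hT
    classical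
    let gl := g (Fin.last n)
    let T' : Closeds X := ⟨(T : Set X) ∩ ⋂ i : Fin n, (X.basicOpen (g i.castSucc) : Set X)ᶜ,
      T.2.inter (isClosed_iInter fun i => (X.basicOpen (g i.castSucc)).2.isClosed_compl)⟩
    have hT' : ∀ z ∈ T', z ∈ X.basicOpen h → z ∈ X.basicOpen gl := fun z hz hzh => by
      obtain ⟨i, hi⟩ := hT z hz.1 hzh
      induction i using Fin.lastCases with
      | last => exact hi
      | cast j => exact absurd hi (Set.mem_iInter.1 hz.2 j)
    -- local coefficients
    have hloc : ∀ u : U, ∃ (W : X.Opens) (hW : W ≤ U) (k : ℕ) (c : Γ(X, W)), u.1 ∈ W ∧ IsAffineOpen W ∧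
        res hW h ^ k - c * res hW gl ∈ vanIdeal T' W := fun u => by
      obtain ⟨W, hW, huW, hWU⟩ := exists_isAffineOpen_mem_and_subset (x := u.1) (U := U) u.2
      have hWU' : W ≤ U := fun z hz => hWU hz
      let hh := res hWU' h
      let gg := res hWU' gl
      have hmem : hh ∈ (vanIdeal T' W ⊔ Ideal.span {gg}).radical := by
        rw [Ideal.radical_eq_sInf, Submodule.mem_sInf]
        rintro p ⟨hp, hprime⟩
        by_contra hhp
        let P : PrimeSpectrum Γ(X, W) := ⟨p, hprime⟩
        let z := hW.fromSpec P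
        have hz : ∀ f : Γ(X, W), z ∈ X.basicOpen f ↔ f ∉ p := fun f => by
          show P ∈ hW.fromSpec ⁻¹ᵁ X.basicOpen f ↔ _
          rw [hW.fromSpec_preimage_basicOpen]
          rfl
        have hzW : z ∈ W := hW.range_fromSpec.subset ⟨P, rfl⟩
        have hzT : z ∈ T' := by
          by_contra hzT
          obtain ⟨f, hfle, hzf⟩ := hW.exists_basicOpen_le (V := ⟨(T' : Set X)ᶜ, T'.2.isOpen_compl⟩)
            ⟨z, hzT⟩ hzW
          exact (hz f).1 hzf (hp (Submodule.mem_sup_left (mem_vanIdeal.2 fun w hw hwf => hfle hwf hw)))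
        have h1 := hT' z hzT (by
          have := (hz hh).2 hhp
          rw [show X.basicOpen hh = W ⊓ X.basicOpen h from Scheme.basicOpen_res X h _] at this
          exact this.2)
        have h2 : z ∈ X.basicOpen gg := by
          rw [show X.basicOpen gg = W ⊓ X.basicOpen gl from Scheme.basicOpen_res X gl _]
          exact ⟨hzW, h1⟩
        exact (hz gg).1 h2 (hp (Submodule.mem_sup_right (Ideal.subset_span rfl)))
      obtain ⟨k, hk⟩ := hmem
      obtain ⟨j, hj, y, hy, hjy⟩ := Submodule.mem_sup.1 hk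
      obtain ⟨c, rfl⟩ := Ideal.mem_span_singleton'.1 hy
      refine ⟨W, hWU', k, c, huW, hW, ?_⟩
      rw [← hjy, add_sub_cancel_right]
      exact hj
    choose W hWU k c huW hWaff hc using hloc
    obtain ⟨t, ht⟩ := hU.elim_finite_subcover (fun u : U => (W u : Set X)) (fun u => (W u).2)
      fun z hz => Set.mem_iUnion.2 ⟨⟨z, hz⟩, huW ⟨z, hz⟩⟩
    let M := t.sup k
    let cM : ∀ u : t, Γ(X, W u.1) := fun u => res (hWU u.1) h * (c u.1 * res (hWU u.1) h ^ (M - k u.1))
    have hcM : ∀ u : t, res (hWU u.1) h ^ (M + 1) - cM u * res (hWU u.1) gl ∈ vanIdeal T' (W u.1) := fun u => by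
      obtain ⟨e, he⟩ := Nat.exists_eq_add_of_le (Finset.le_sup (f := k) u.2 : k u.1 ≤ M)
      have : res (hWU u.1) h ^ (M + 1) - cM u * res (hWU u.1) gl =
          res (hWU u.1) h ^ (e + 1) * (res (hWU u.1) h ^ k u.1 - c u.1 * res (hWU u.1) gl) := by
        have he' : M - k u.1 = e := by omega
        simp only [cM, he']
        rw [show M + 1 = e + 1 + k u.1 by omega]
        ring
      rw [this]
      exact Ideal.mul_mem_left _ _ (hc u.1)
    -- glue in the quotient
    let Q := cokernel (idealOfLE (bot_le : (⊥ : Closeds X) ≤ T'))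
    let π := cokernel.π (idealOfLE (bot_le : (⊥ : Closeds X) ≤ T'))
    have hall : ∀ (V : X.Opens) (f : Γ(X, V)), ∃ k, (kernel.ι (toRedSub (⊥ : Closeds X))).app V k = f :=
      fun V f => (exists_idealOf_iff ⊥ V f).2 fun z hz => absurd hz (Set.notMem_empty z)
    choose lift hlift using hall
    have hlift_res : ∀ {V V' : X.Opens} (e : V' ≤ V) (f : Γ(X, V)), resM _ e (lift V f) = lift V' (res e f) :=
      fun {V V'} e f => by
        apply app_injective_of_mono (kernel.ι (toRedSub (⊥ : Closeds X))) V'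
        rw [app_resM, hlift, hlift]
        rfl
    have hker : ∀ (V : X.Opens) (f f' : Γ(X, V)), f - f' ∈ vanIdeal T' V → π.app V (lift V f) = π.app V (lift V f') := by
      intro V f f' hf
      obtain ⟨w, hw⟩ := hf
      have : lift V f - lift V f' = (idealOfLE (bot_le : (⊥ : Closeds X) ≤ T')).app V w := by
        apply app_injective_of_mono (kernel.ι (toRedSub (⊥ : Closeds X))) V
        rw [map_sub, hlift, hlift]
        refine hw.symm.trans ?_
        show _ = ((idealOfLE (bot_le : (⊥ : Closeds X) ≤ T')) ≫ kernel.ι (toRedSub ⊥)).app V w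
        rw [idealOfLE_ι]
        rfl
      rw [← sub_eq_zero, ← map_sub, this]
      exact sections_zero (S := ShortComplex.mk _ π (cokernel.condition _)) _ w
    obtain ⟨q, hq, -⟩ := TopCat.Sheaf.existsUnique_gluing' (⟨Q.presheaf, Q.isSheaf⟩ : TopCat.Sheaf Ab X)
      (fun u : t => W u.1) U (fun u => homOfLE (hWU u.1))
      (fun z hz => by
        obtain ⟨u, hu, hzu⟩ := Set.mem_iUnion₂.1 (ht hz)
        exact Opens.mem_iSup.2 ⟨⟨u, hu⟩, hzu⟩)
      (fun u => π.app (W u.1) (lift _ (cM u)))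
      (fun u v => by
        show resM Q inf_le_left (π.app _ _) = resM Q inf_le_right (π.app _ _)
        rw [← app_resM, ← app_resM, hlift_res, hlift_res]
        refine hker _ _ _ (mem_vanIdeal.2 fun z hz hzd => ?_)
        let V := W u.1 ⊓ W v.1
        have hV : V ≤ U := inf_le_left.trans (hWU u.1)
        have hm : ∀ {W' : X.Opens} (e : V ≤ W') {f : Γ(X, W')}, f ∈ vanIdeal T' W' → res e f ∈ vanIdeal T' V :=
          fun e f hf => mem_vanIdeal.2 fun w hw hwb => mem_vanIdeal.1 hf w hw (by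
            rw [show X.basicOpen (res e f) = V ⊓ X.basicOpen f from Scheme.basicOpen_res X f _] at hwb
            exact hwb.2)
        have d1 := hm (inf_le_left : V ≤ W u.1) (hcM u)
        have d2 := hm (inf_le_right : V ≤ W v.1) (hcM v)
        have hzd' : z ∈ X.basicOpen (res (inf_le_left : V ≤ W u.1) (cM u) - res (inf_le_right : V ≤ W v.1) (cM v)) := hzd
        by_cases hzh : z ∈ X.basicOpen h
        · have hzg : z ∈ X.basicOpen (res hV gl) := by
            rw [show X.basicOpen (res hV gl) = V ⊓ X.basicOpen gl from Scheme.basicOpen_res X gl _]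
            exact ⟨X.basicOpen_le _ hzd', hT' z hz hzh⟩
          have d3 : (res (inf_le_left : V ≤ W u.1) (cM u) - res (inf_le_right : V ≤ W v.1) (cM v)) * res hV gl ∈ vanIdeal T' V := by
            have := Ideal.sub_mem _ d2 d1
            simp only [res, map_sub, map_mul, map_pow, ← ConcreteCategory.comp_apply, ← Functor.map_comp] at this ⊢
            convert this using 1
            simp only [← op_comp, homOfLE_comp]
            ring
          refine mem_vanIdeal.1 d3 z hz ?_
          rw [Scheme.basicOpen_mul]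
          exact ⟨hzd', hzg⟩
        · have d4 : ∀ (w : t) (e : V ≤ W w.1), z ∉ X.basicOpen (res e (cM w)) := fun w e hwb => hzh (by
            simp only [cM, res, map_mul, Scheme.basicOpen_mul] at hwb
            have := hwb.1
            rw [← ConcreteCategory.comp_apply, ← Functor.map_comp, Scheme.basicOpen_res] at this
            exact this.2)
          have hu' := d4 u inf_le_left
          have hv' := d4 v inf_le_right
          rw [Scheme.mem_basicOpen''] at hzd'
          obtain ⟨hzV, hunit⟩ := hzd'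
          rw [map_sub] at hunit
          have nu : ¬ IsUnit (X.presheaf.germ V z hzV (res (inf_le_left : V ≤ W u.1) (cM u))) := fun hh' =>
            hu' ((Scheme.mem_basicOpen'' _ _ _).2 ⟨hzV, hh'⟩)
          have nv : ¬ IsUnit (X.presheaf.germ V z hzV (res (inf_le_right : V ≤ W v.1) (cM v))) := fun hh' =>
            hv' ((Scheme.mem_basicOpen'' _ _ _).2 ⟨hzV, hh'⟩)
          rw [← mem_nonunits_iff, ← IsLocalRing.mem_maximalIdeal] at nu nv
          exact (IsLocalRing.mem_maximalIdeal _).1 (Ideal.sub_mem _ nu nv) hunit)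
    obtain ⟨a₀, ha₀⟩ := H _ _ (bot_le : (⊥ : Closeds X) ≤ T') q
    let a : Γ(X, U) := (kernel.ι (toRedSub (⊥ : Closeds X))).app U a₀
    have hfirst : h ^ (M + 1) - a * gl ∈ vanIdeal T' U := mem_vanIdeal.2 fun z hz hzb => by
      obtain ⟨u, hu, hzu⟩ := Set.mem_iUnion₂.1 (ht (X.basicOpen_le _ hzb))
      obtain ⟨w, hw⟩ := sections_exact (shortExact_idealOfLE (bot_le : (⊥ : Closeds X) ≤ T'))
        (resM _ (hWU u) a₀ - lift _ (cM ⟨u, hu⟩)) (by
          rw [map_sub, app_resM, ha₀]
          exact sub_eq_zero.2 (hq ⟨u, hu⟩))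
      have h1 : res (hWU u) a - cM ⟨u, hu⟩ ∈ vanIdeal T' (W u) := by
        refine ⟨w, ?_⟩
        have := congrArg ((kernel.ι (toRedSub (⊥ : Closeds X))).app (W u)) hw
        rw [map_sub, app_resM, hlift] at this
        refine Eq.trans ?_ this
        show _ = (idealOfLE (bot_le : (⊥ : Closeds X) ≤ T') ≫ kernel.ι (toRedSub ⊥)).app (W u) w
        rw [idealOfLE_ι]
        rfl
      have h2 : res (hWU u) (h ^ (M + 1) - a * gl) ∈ vanIdeal T' (W u) := by
        have := Ideal.sub_mem _ (hcM ⟨u, hu⟩) (Ideal.mul_mem_right (res (hWU u) gl) _ h1)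
        convert this using 1
        simp only [res, map_sub, map_mul, map_pow]
        ring
      refine mem_vanIdeal.1 h2 z hz ?_
      rw [show X.basicOpen (res (hWU u) (h ^ (M + 1) - a * gl)) = W u ⊓ X.basicOpen (h ^ (M + 1) - a * gl) from
        Scheme.basicOpen_res X _ _]
      exact ⟨hzu, hzb⟩
    obtain ⟨N, b, hb⟩ := ih (fun i => g i.castSucc) T ((h ^ (M + 1) - a * gl) * h) (fun z hz hzb => by
      rw [Scheme.basicOpen_mul] at hzb
      by_contra hne
      push Not at hne
      exact mem_vanIdeal.1 hfirst z ⟨hz, Set.mem_iInter.2 fun i => hne i⟩ hzb.1)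
    obtain ⟨e, he⟩ : ∃ e, (h ^ (M + 1) * h) ^ N - ((h ^ (M + 1) - a * gl) * h) ^ N = gl * e := by
      obtain ⟨e, he⟩ := sub_dvd_pow_sub_pow (h ^ (M + 1) * h) ((h ^ (M + 1) - a * gl) * h) N
      exact ⟨a * h * e, by rw [he]; ring⟩
    refine ⟨(M + 2) * N, Fin.snoc b e, ?_⟩
    convert hb using 1
    rw [Fin.sum_univ_castSucc]
    simp only [Fin.snoc_castSucc, Fin.snoc_last]
    have hpow : h ^ ((M + 2) * N) = (h ^ (M + 1) * h) ^ N := by rw [← pow_succ, ← pow_mul]
    rw [hpow]
    have : gl = g (Fin.last n) := rfl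
    rw [← this]
    linear_combination he

/-- An open on which sections of quotients of ideals of closed sets lift is affine. -/
theorem isAffineOpen_of_idealSurj (hU : IsCompact (U : Set X)) (H : IdealSurj U) : IsAffineOpen U := by
  classical
  let s : Set Γ(X, U) := {f | IsAffineOpen (X.basicOpen f)}
  have : CompactSpace (U : Scheme.{u}) := isCompact_iff_compactSpace.1 hU
  have hcov : ∀ x : U, ∃ f ∈ s, x.1 ∈ X.basicOpen f := by
    intro x
    obtain ⟨y, hy, hyc⟩ := (isClosed_closure (s := ({x} : Set U.toScheme))).exists_closed_singleton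
      ⟨x, subset_closure rfl⟩
    have hyc' : IsClosed ({y.1} ∪ (U : Set X)ᶜ) := by
      rw [← isOpen_compl_iff]
      convert U.2.isOpenEmbedding_subtypeVal.isOpenMap _ hyc.isOpen_compl using 1
      ext z
      simp only [Set.mem_compl_iff, Set.mem_union, Set.mem_singleton_iff, not_or, not_not, Set.mem_image]
      exact ⟨fun h => ⟨⟨z, h.2⟩, fun e => h.1 (congrArg Subtype.val e), rfl⟩,
        fun ⟨w, hw, e⟩ => ⟨fun e' => hw (Subtype.ext (e.trans e')), e ▸ w.2⟩⟩
    obtain ⟨f, hyf, hf⟩ := exists_isAffineOpen_basicOpen_rel H y.2 hyc'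
    obtain ⟨z, hzf, rfl⟩ := mem_closure_iff.1 hy (Subtype.val ⁻¹' (X.basicOpen f : Set X))
      ((X.basicOpen f).2.preimage continuous_subtype_val) hyf
    exact ⟨f, hf, hzf⟩
  choose f hfs hxf using hcov
  obtain ⟨t, ht⟩ := hU.elim_finite_subcover (fun x : U => (X.basicOpen (f x) : Set X)) (fun x => (X.basicOpen (f x)).2)
    fun z hz => Set.mem_iUnion.2 ⟨⟨z, hz⟩, hxf _⟩
  let g : Fin t.card → Γ(X, U) := fun i => f (t.equivFin.symm i).1
  obtain ⟨N, a, ha⟩ := exists_pow_mem_vanIdeal hU H _ g ⊤ 1 fun z _ hz => by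
    obtain ⟨x, hxt, hzx⟩ := Set.mem_iUnion₂.1 (ht (X.basicOpen_le _ hz))
    exact ⟨t.equivFin ⟨x, hxt⟩, by simpa [g] using hzx⟩
  rw [one_pow] at ha
  have hnil : IsNilpotent (1 - ∑ i, a i * g i) := by
    rw [Scheme.isNilpotent_iff_basicOpen_eq_bot_of_isCompact hU]
    exact Opens.ext (Set.eq_empty_of_forall_notMem fun z hz => mem_vanIdeal.1 ha z trivial hz)
  have hunit := hnil.isUnit_one_sub
  rw [sub_sub_cancel] at hunit
  refine isAffineOpen_of_isAffineOpen_basicOpen U (Set.range g) ?_ (by rintro _ ⟨i, rfl⟩; exact hfs _)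
  exact Ideal.eq_top_of_isUnit_mem _ (Ideal.sum_mem _ fun i _ => Ideal.mul_mem_left _ _ (Ideal.subset_span ⟨i, rfl⟩)) hunit

end Groth.Agent.AmpleLib
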