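import Groth.Agent.AmpleLib.AffCriterion
import Groth.Agent.Coherent.QcohOps
import Groth.Agent.Coherent.RpushVanish
import Groth.Prelude.Def_Coh

/-!
# Affine morphisms from exactness of direct images
-/

set_option autoImplicit false
set_option backward.isDefEq.respectTransparency.types false

universe u

open CategoryTheory CategoryTheory.Abelian CategoryTheory.Limits AlgebraicGeometry Opposite TopologicalSpace
open Groth.Agent.Coherent Groth.Agent.PicLib

namespace Groth.Agent.AmpleLib

variable {X Y : Scheme.{u}}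

/-- The inclusion of an ideal into a free module of rank one. -/
noncomputable def idealToFree (Z : Closeds X) : idealOf Z ⟶ freeMod X (ULift.{u} (Fin 1)) :=
  kernel.ι (toRedSub Z) ≫ freeInj (⟨0⟩ : ULift.{u} (Fin 1))

instance mono_idealToFree (Z : Closeds X) : Mono (idealToFree Z) := by
  classical
  refine mono_of_mono_fac (show idealToFree Z ≫ freeProj (⟨0⟩ : ULift.{u} (Fin 1)) = kernel.ι (toRedSub Z) from ?_)
  rw [idealToFree, Category.assoc, freeInj_freeProj, if_pos rfl, Category.comp_id]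

theorem isQCoh_cokernel_idealOfLE {Z Z' : Closeds X} (h : Z ≤ Z') : Coh.IsQCoh (cokernel (idealOfLE h)) := by
  have := isQCoh_idealOf Z
  have := isQCoh_idealOf Z'
  exact isQCoh_cokernel _

theorem idealSurj_preimage (f : X ⟶ Y) [QuasiCompact f] [QuasiSeparated f] {V : Y.Opens} (hV : IsAffineOpen V)
    (h : ∀ (Z Z' : Closeds X) (hle : Z ≤ Z'), Epi ((Coh.push f).map (cokernel.π (idealOfLE hle)))) :
    IdealSurj (f ⁻¹ᵁ V) := by
  intro Z Z' hle
  have := h Z Z' hle
  have := isQCoh_idealOf Z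
  have := isQCoh_cokernel_idealOfLE hle
  let φ := (Coh.push f).map (cokernel.π (idealOfLE hle))
  have := isQCoh_push f (idealOf Z)
  have := isQCoh_push f (cokernel (idealOfLE hle))
  have : Coh.IsQCoh (kernel φ) := isQCoh_kernel φ
  let S : ShortComplex Y.Modules := ShortComplex.mk (kernel.ι φ) φ (kernel.condition φ)
  have hS : S.ShortExact := { exact := S.exact_of_f_is_kernel (kernelIsKernel φ) }
  exact sections_surjective (S := S) hS hV

theorem isAffineHom_of_push_epi (f : X ⟶ Y) [QuasiCompact f] [QuasiSeparated f]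
    (h : ∀ (Z Z' : Closeds X) (hle : Z ≤ Z'), Epi ((Coh.push f).map (cokernel.π (idealOfLE hle)))) :
    IsAffineHom f :=
  ⟨fun V hV => isAffineOpen_of_idealSurj (QuasiCompact.isCompact_preimage (f := f) _ V.2 hV.isCompact)
    (idealSurj_preimage f hV h)⟩

/-- Local lifting from the vanishing of the first direct image. -/
theorem epi_push_of_isZero_rpushAb (f : X ⟶ Y) {S : ShortComplex X.Modules} (hS : S.ShortExact)
    (h : IsZero ((Coh.RpushAb f 1).obj (Coh.toAb S.X₁))) : Epi ((Coh.push f).map S.g) := by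
  refine epi_of_locally_surjective _ fun V a y hy => ?_
  have hS' := toAb_shortExact hS
  let A := fun U : X.Opens => freeSh (X := X.toTopCat) U
  let e := secH (X := X.toTopCat) (Coh.toAb S.X₃) (f ⁻¹ᵁ V)
  let z := e.symm a
  let δ : Ext (A (f ⁻¹ᵁ V)) (Coh.toAb S.X₁) 1 := z.comp hS'.extClass (zero_add 1)
  let P := (Opens.map f.base).op ⋙
    (Sheaf.cohomologyPresheafFunctor.{u} (Opens.grothendieckTopology X) 1).obj (Coh.toAb S.X₁)
  have hz : IsZero ((presheafToSheaf (Opens.grothendieckTopology Y) AddCommGrpCat.{u}).obj P) :=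
    IsZero.of_iso h ((SiteCoh.rpushTopIso (X := X.toTopCat) (Y := Y.toTopCat) f.base 1).app (Coh.toAb S.X₁)).symm
  have hloc : ∃ (W : Y.Opens) (hW : W ≤ V), y ∈ W ∧ P.map (homOfLE hW).op δ = 0 := by
    have hinj : CategoryTheory.Presheaf.IsLocallyInjective (Opens.grothendieckTopology Y)
        (toSheafify (Opens.grothendieckTopology Y) P) := inferInstance
    have hs := hinj.equalizerSieve_mem (X := op V) δ 0 (by
      have h0 : Subsingleton (((presheafToSheaf (Opens.grothendieckTopology Y) AddCommGrpCat.{u}).obj P).obj.obj (op V)) := by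
        have := ((sheafToPresheaf _ _).map_isZero hz)
        exact AddCommGrpCat.subsingleton_of_isZero (Functor.map_isZero ((evaluation _ _).obj (op V)) this)
      exact h0.elim _ _)
    obtain ⟨W, g, hg, hyW⟩ := hs y hy
    refine ⟨W, leOfHom g, hyW, ?_⟩
    have := hg
    simp only [CategoryTheory.Presheaf.equalizerSieve] at this
    rw [map_zero] at this
    exact this
  obtain ⟨W, hW, hyW, hδ⟩ := hloc
  have hle : f ⁻¹ᵁ W ≤ f ⁻¹ᵁ V := ((Opens.map f.base).map (homOfLE hW)).le
  let zW := resH (X := X.toTopCat) (Coh.toAb S.X₃) 0 hle z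
  have h0 : zW.comp hS'.extClass (zero_add 1) = 0 := by
    refine Eq.trans ?_ hδ
    show _ = resH (X := X.toTopCat) (Coh.toAb S.X₁) 1 hle δ
    rw [resH_apply]
    show ((Ext.mk₀ _).comp z (zero_add 0)).comp _ (zero_add 1) = _
    exact Ext.comp_assoc (α := Ext.mk₀ (freeShMap (X := X.toTopCat) hle)) (β := z) (γ := hS'.extClass)
      (zero_add 0) (zero_add 1) (by omega)
  obtain ⟨b, hb⟩ := Ext.covariant_sequence_exact₃ (A (f ⁻¹ᵁ W)) hS' zW (rfl : 0 + 1 = 1) h0
  refine ⟨W, hW, hyW, secH (X := X.toTopCat) (Coh.toAb S.X₂) (f ⁻¹ᵁ W) b, ?_⟩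
  show S.g.app (f ⁻¹ᵁ W) _ = resM S.X₃ hle a
  refine ((secH_postH (X := X.toTopCat) (F := Coh.toAb S.X₂) (G := Coh.toAb S.X₃)
    ((toAbFunctor X).map S.g) (f ⁻¹ᵁ W) b).symm.trans ?_)
  refine ((congrArg (secH (X := X.toTopCat) (Coh.toAb S.X₃) (f ⁻¹ᵁ W)) hb).trans
    (secH_resH (X := X.toTopCat) hle z)).trans ?_
  exact congrArg (resM S.X₃ hle) (e.apply_symm_apply a)

end Groth.Agent.AmpleLib
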