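import Groth.Agent.AmpleLib.Relative2
import Mathlib.AlgebraicGeometry.Limits

/-!
# Relative ampleness on a sum
-/

set_option autoImplicit false
set_option backward.isDefEq.respectTransparency.types false

universe u

open CategoryTheory CategoryTheory.Limits AlgebraicGeometry Opposite TopologicalSpace
open Groth.Agent.Coherent Groth.Agent.PicLib

namespace Groth.Agent.AmpleLib

variable {X X' Y : Scheme.{u}}

/-- An open with open complement is a basic open. -/
theorem exists_basicOpen_eq_of_isCompl {A B : X.Opens} (hd : A ⊓ B = ⊥) (hc : A ⊔ B = ⊤) :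
    ∃ r : Γ(X, ⊤), X.basicOpen r = A := by
  let W : ULift.{u} Bool → X.Opens := fun b => if b.down then A else B
  have hbot : ∀ V : X.Opens, V = ⊥ → Subsingleton Γ(X, V) := fun V hV => by
    subst hV
    exact CommRingCat.subsingleton_of_isTerminal X.sheaf.isTerminalOfEmpty
  obtain ⟨r, hr, -⟩ := TopCat.Sheaf.existsUnique_gluing' X.sheaf
    W ⊤ (fun b => homOfLE le_top)
    (fun z _ => by
      rcases (show z ∈ A ⊔ B from hc.ge trivial) with h | h
      · exact Opens.mem_iSup.2 ⟨⟨true⟩, h⟩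
      · exact Opens.mem_iSup.2 ⟨⟨false⟩, h⟩)
    (fun b => match b with
      | ⟨true⟩ => (1 : Γ(X, A))
      | ⟨false⟩ => (0 : Γ(X, B)))
    (fun a b => by
      rcases a with ⟨_ | _⟩ <;> rcases b with ⟨_ | _⟩
      · rfl
      · exact (hbot _ (eq_bot_iff.2 fun z (hz : z ∈ B ⊓ A) => hd.le (show z ∈ A ⊓ B from ⟨hz.2, hz.1⟩))).elim _ _
      · exact (hbot _ hd).elim _ _
      · rfl)
  refine ⟨r, le_antisymm (fun z hz => ?_) fun z hz => ?_⟩
  · rcases (show z ∈ A ⊔ B from hc.ge trivial) with h | h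
    · exact h
    · exfalso
      have : z ∈ X.basicOpen (res (le_top : B ≤ ⊤) r) := by
        rw [show X.basicOpen (res (le_top : B ≤ ⊤) r) = B ⊓ X.basicOpen r from Scheme.basicOpen_res X r _]
        exact ⟨h, hz⟩
      rw [show res (le_top : B ≤ ⊤) r = 0 from hr ⟨false⟩, Scheme.basicOpen_zero] at this
      exact this.elim
  · have : z ∈ X.basicOpen (res (le_top : A ≤ ⊤) r) := by
      rw [show res (le_top : A ≤ ⊤) r = 1 from hr ⟨true⟩, Scheme.basicOpen_of_isUnit X isUnit_one]
      exact hz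
    rw [show X.basicOpen (res (le_top : A ≤ ⊤) r) = A ⊓ X.basicOpen r from Scheme.basicOpen_res X r _] at this
    exact this.2

/-- Preimages of compact pieces of a sum. -/
theorem quasiCompact_coprod_desc (f : X ⟶ Y) (f' : X' ⟶ Y) [QuasiCompact f] [QuasiCompact f'] :
    QuasiCompact (coprod.desc f f') := by
  rw [quasiCompact_iff_forall_isAffineOpen]
  intro V hV
  have h : ((coprod.desc f f') ⁻¹ᵁ V : Set ↥(X ⨿ X')) =
      (coprod.inl : X ⟶ X ⨿ X') '' (f ⁻¹ᵁ V : Set X) ∪ (coprod.inr : X' ⟶ X ⨿ X') '' (f' ⁻¹ᵁ V : Set X') := by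
    ext z
    constructor
    · intro hz
      rcases (isCompl_range_inl_inr X X').codisjoint.top_le (Set.mem_univ z) with ⟨x, rfl⟩ | ⟨x, rfl⟩
      · refine Or.inl ⟨x, ?_, rfl⟩
        show f x ∈ V
        rw [← coprod.inl_desc f f', Scheme.Hom.comp_apply]
        exact hz
      · refine Or.inr ⟨x, ?_, rfl⟩
        show f' x ∈ V
        rw [← coprod.inr_desc f f', Scheme.Hom.comp_apply]
        exact hz
    · rintro (⟨x, hx, rfl⟩ | ⟨x, hx, rfl⟩)
      · show coprod.desc f f' ((coprod.inl : X ⟶ X ⨿ X') x) ∈ V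
        rw [← Scheme.Hom.comp_apply, coprod.inl_desc]
        exact hx
      · show coprod.desc f f' ((coprod.inr : X' ⟶ X ⨿ X') x) ∈ V
        rw [← Scheme.Hom.comp_apply, coprod.inr_desc]
        exact hx
  rw [h]
  exact ((isCompact_preimage_affine hV).image (coprod.inl : X ⟶ X ⨿ X').base.hom.continuous).union
    ((isCompact_preimage_affine hV).image (coprod.inr : X' ⟶ X ⨿ X').base.hom.continuous)

theorem isRelAmple_coprod_iff (f : X ⟶ Y) (f' : X' ⟶ Y) [QuasiCompact f] [QuasiCompact f']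
    (M : (X ⨿ X').Modules)
    (hM : PicF.IsInvertible ((Scheme.Modules.pullback (coprod.inl : X ⟶ X ⨿ X')).obj M))
    (hM' : PicF.IsInvertible ((Scheme.Modules.pullback (coprod.inr : X' ⟶ X ⨿ X')).obj M)) :
    RelAmple.IsRelAmple (coprod.desc f f') M ↔
      RelAmple.IsRelAmple f ((Scheme.Modules.pullback (coprod.inl : X ⟶ X ⨿ X')).obj M) ∧
        RelAmple.IsRelAmple f' ((Scheme.Modules.pullback (coprod.inr : X' ⟶ X ⨿ X')).obj M) := by
  have := quasiCompact_coprod_desc f f'
  have hcompl := isCompl_range_inl_inr X X'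
  constructor
  · intro h
    rw [isRelAmple_iff] at h
    constructor
    · refine (isRelAmple_iff _).2 ⟨inferInstance, fun V => ?_⟩
      have : CompactSpace (f ⁻¹ᵁ V.1 : Scheme.{u}) := isCompact_iff_compactSpace.1 (isCompact_preimage_affine V.2)
      rw [isAmple_pullback_comp_iff]
      refine isAmple_pullback_of_range_subset _ (Scheme.Hom.isOpenEmbedding _).isEmbedding _ ?_ (h.2 V)
      rintro _ ⟨w, rfl⟩
      show coprod.desc f f' (((f ⁻¹ᵁ V.1).ι ≫ coprod.inl) w) ∈ V.1
      simp only [← Scheme.Hom.comp_apply, Category.assoc, coprod.inl_desc]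
      exact w.2
    · refine (isRelAmple_iff _).2 ⟨inferInstance, fun V => ?_⟩
      have : CompactSpace (f' ⁻¹ᵁ V.1 : Scheme.{u}) := isCompact_iff_compactSpace.1 (isCompact_preimage_affine V.2)
      rw [isAmple_pullback_comp_iff]
      refine isAmple_pullback_of_range_subset _ (Scheme.Hom.isOpenEmbedding _).isEmbedding _ ?_ (h.2 V)
      rintro _ ⟨w, rfl⟩
      show coprod.desc f f' (((f' ⁻¹ᵁ V.1).ι ≫ coprod.inr) w) ∈ V.1
      simp only [← Scheme.Hom.comp_apply, Category.assoc, coprod.inr_desc]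
      exact w.2
  · rintro ⟨h, h'⟩
    have hMi : PicF.IsInvertible M := isInvertible_of_pullback_opens fun z => by
      rcases hcompl.codisjoint.top_le (Set.mem_univ z) with hz | hz
      · exact ⟨(coprod.inl : X ⟶ X ⨿ X').opensRange, hz, glocus_isInvertible_of_iso
          ((Scheme.Modules.pullbackComp (coprod.inl : X ⟶ X ⨿ X').isoOpensRange.inv coprod.inl).app M ≪≫
            eqToIso (by rw [Scheme.Hom.isoOpensRange_inv_comp]))
          (PicLoc.isInvertible_pullback _ hM)⟩
      · exact ⟨(coprod.inr : X' ⟶ X ⨿ X').opensRange, hz, glocus_isInvertible_of_iso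
          ((Scheme.Modules.pullbackComp (coprod.inr : X' ⟶ X ⨿ X').isoOpensRange.inv coprod.inr).app M ≪≫
            eqToIso (by rw [Scheme.Hom.isoOpensRange_inv_comp]))
          (PicLoc.isInvertible_pullback _ hM')⟩
    rw [isRelAmple_iff] at h h'
    refine (isRelAmple_iff _).2 ⟨inferInstance, fun V => ?_⟩
    let P := coprod.desc f f' ⁻¹ᵁ V.1
    have : CompactSpace (P : Scheme.{u}) := isCompact_iff_compactSpace.1 (isCompact_preimage_affine V.2)
    let A := P.ι ⁻¹ᵁ (coprod.inl : X ⟶ X ⨿ X').opensRange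
    let B := P.ι ⁻¹ᵁ (coprod.inr : X' ⟶ X ⨿ X').opensRange
    have hd : A ⊓ B = ⊥ := Opens.ext (Set.eq_empty_of_forall_notMem fun w hw =>
      (hcompl.disjoint.le_bot ⟨hw.1, hw.2⟩).elim)
    have hc : A ⊔ B = ⊤ := top_le_iff.1 fun w _ => hcompl.codisjoint.top_le (Set.mem_univ (P.ι w))
    obtain ⟨r, hr⟩ := exists_basicOpen_eq_of_isCompl hd hc
    obtain ⟨r', hr'⟩ := exists_basicOpen_eq_of_isCompl (inf_comm A B ▸ hd) (sup_comm A B ▸ hc)
    refine isAmple_of_basicOpen_cover (PicLoc.isInvertible_pullback _ hMi) (fun b : Bool => if b then r else r')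
      (fun w => ?_) fun b => ?_
    · rcases (show w ∈ A ⊔ B from hc.ge trivial) with hw | hw
      · exact ⟨true, hr.ge hw⟩
      · exact ⟨false, hr'.ge hw⟩
    · rw [isAmple_pullback_comp_iff]
      have key : ∀ {Z : Scheme.{u}} (j : Z ⟶ X ⨿ X') [IsOpenImmersion j] (g : Z ⟶ Y)
          (hg : j ≫ coprod.desc f f' = g) (R : Γ(P.toScheme, ⊤))
          (hR : P.toScheme.basicOpen R = P.ι ⁻¹ᵁ j.opensRange) (hPc : IsCompact ((g ⁻¹ᵁ V.1 : Z.Opens) : Set Z))
          (hA : CohB1.IsAmple ((Scheme.Modules.pullback (g ⁻¹ᵁ V.1).ι).obj ((Scheme.Modules.pullback j).obj M))),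
          CohB1.IsAmple ((Scheme.Modules.pullback ((P.toScheme.basicOpen R).ι ≫ P.ι)).obj M) := by
        intro Z j _ g hg R hR hPc hA
        let Q := P.toScheme.basicOpen R
        have hrange : Set.range (Q.ι ≫ P.ι) ⊆ Set.range j := by
          rintro _ ⟨w, rfl⟩
          exact hR.le w.2
        let τ := IsOpenImmersion.lift j (Q.ι ≫ P.ι) hrange
        refine isAmple_pullback_congr (IsOpenImmersion.lift_fac j _ hrange) ?_
        rw [← isAmple_pullback_comp_iff]
        have : IsOpenImmersion (τ ≫ j) := (IsOpenImmersion.lift_fac j _ hrange).symm ▸ inferInstance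
        have : IsOpenImmersion τ := IsOpenImmersion.of_comp τ j
        have : CompactSpace (Q : Scheme.{u}) :=
          isCompact_iff_compactSpace.1 (isRetrocompact_basicOpen_isCompact R)
        refine isAmple_pullback_of_range_subset τ τ.isOpenEmbedding.isEmbedding _ ?_ hA
        rintro _ ⟨w, rfl⟩
        show g (τ w) ∈ V.1
        rw [← hg, ← Scheme.Hom.comp_apply, ← Category.assoc, IsOpenImmersion.lift_fac]
        exact w.1.2
      cases b
      · exact key coprod.inr f' (coprod.inr_desc f f') r' hr' (isCompact_preimage_affine V.2) (h'.2 V)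
      · exact key coprod.inl f (coprod.inl_desc f f') r hr (isCompact_preimage_affine V.2) (h.2 V)
where
  isRetrocompact_basicOpen_isCompact {Z : Scheme.{u}} [CompactSpace Z] (R : Γ(Z, ⊤)) :
      IsCompact (Z.basicOpen R : Set Z) := by
    have := (isRetrocompact_basicOpen (X := Z) R) isCompact_univ isOpen_univ
    simpa using this

end Groth.Agent.AmpleLib
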