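import Groth.Agent.AmpleLib.Generated
import Groth.Agent.AmpleLib.Relative2

/-!
# Generation from an epimorphic counit
-/

set_option autoImplicit false
set_option backward.isDefEq.respectTransparency.types false

universe u

open CategoryTheory CategoryTheory.Limits AlgebraicGeometry Opposite TopologicalSpace
open Groth.Agent.Coherent Groth.Agent.PicLib

namespace Groth.Agent.AmpleLib

variable {X Y : Scheme.{u}} {L M : X.Modules} {U : X.Opens}

/-- If `f^* f_* M ⟶ M` is epi then near each point a section over a preimage generates. -/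
theorem exists_gen_of_counit_epi (f : X ⟶ Y) (hM : PicF.IsInvertible M)
    [Epi ((Scheme.Modules.pullbackPushforwardAdjunction f).counit.app M)] (x : X) :
    ∃ (V : Y.Opens) (g : Γ(M, f ⁻¹ᵁ V)) (W : X.Opens) (hW : W ≤ f ⁻¹ᵁ V),
      f x ∈ V ∧ x ∈ W ∧ IsGen M W (resM M hW g) := by
  by_contra h
  push Not at h
  let σ := X.fromSpecResidueField x
  have hσx : ∀ s, σ s = x := fun s => X.fromSpecResidueField_apply x s
  let q : M ⟶ (Scheme.Modules.pushforward σ).obj ((Scheme.Modules.pullback σ).obj M) :=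
    (Scheme.Modules.pullbackPushforwardAdjunction σ).unit.app M
  obtain ⟨W₀, hxW₀, z, hz⟩ := exists_isGen hM x
  have key : (Scheme.Modules.pushforward f).map q = 0 := by
    refine Scheme.Modules.hom_ext _ _ fun V => ?_
    ext g
    show pullSec σ g = 0
    refine sec_ext _ _ _ fun s hs => ?_
    have hxV : x ∈ f ⁻¹ᵁ V := hσx s ▸ hs
    let W := (f ⁻¹ᵁ V) ⊓ W₀
    have hWV : W ≤ f ⁻¹ᵁ V := inf_le_left
    have hzW := hz.restrict (inf_le_right : W ≤ W₀)
    obtain ⟨a, ha⟩ := (hzW W le_rfl).2 (resM M hWV g)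
    simp only [resM_self] at ha
    refine ⟨σ ⁻¹ᵁ W, ((Opens.map σ.base).map (homOfLE hWV)).le, show σ s ∈ W by rw [hσx s]; exact ⟨hxV, hxW₀⟩, ?_⟩
    rw [resM_pullSec σ hWV, ← ha, pullSec_smul, map_zero]
    suffices σ.app W a = 0 by rw [this, zero_smul]
    rw [← basicOpen_eq_bot_iff, ← Scheme.preimage_basicOpen]
    refine Opens.ext (Set.eq_empty_of_forall_notMem fun t ht => ?_)
    refine h V g (X.basicOpen a) ((X.basicOpen_le a).trans hWV) hxV (hσx t ▸ ht) ?_
    rw [← resM_resM M hWV (X.basicOpen_le a), ← ha, resM_smul]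
    refine (isGen_smul_iff ?_).2 (hzW.restrict _)
    exact RingedSpace.isUnit_res_basicOpen X.toLocallyRingedSpace.toRingedSpace a
  have h0 : q = 0 := by
    rw [← cancel_epi ((Scheme.Modules.pullbackPushforwardAdjunction f).counit.app M), comp_zero]
    have hn := (Scheme.Modules.pullbackPushforwardAdjunction f).counit.naturality q
    refine hn.symm.trans ?_
    show (Scheme.Modules.pullback f).map ((Scheme.Modules.pushforward f).map q) ≫ _ = 0
    have := (Scheme.Modules.pullbackPushforwardAdjunction f).left_adjoint_additive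
    rw [key, Functor.map_zero, zero_comp]
  have hgen := isGen_pullSec σ hz hM
  have hzero : pullSec σ z = 0 := by
    show q.app W₀ z = 0
    rw [h0]; rfl
  let s₀ : Spec (X.residueField x) := Classical.arbitrary _
  have hs₀ : s₀ ∈ σ ⁻¹ᵁ W₀ := show σ s₀ ∈ W₀ by rw [hσx]; exact hxW₀
  have h01 : (0 : Γ(Spec (X.residueField x), σ ⁻¹ᵁ W₀)) = 1 := (hgen _ le_rfl).1 (by
    simp only [resM_self, hzero, smul_zero])
  have hb := Scheme.basicOpen_of_isUnit (U := σ ⁻¹ᵁ W₀) (Spec (X.residueField x)) (f := 0) (h01 ▸ isUnit_one)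
  rw [Scheme.basicOpen_zero] at hb
  exact (hb.ge hs₀).elim

/-- Over an affine open of the base, sections generate at each point. -/
theorem exists_glocus_of_counit_epi (f : X ⟶ Y) (hM : PicF.IsInvertible M)
    [Epi ((Scheme.Modules.pullbackPushforwardAdjunction f).counit.app M)] {V : Y.Opens} (hV : IsAffineOpen V)
    [CompactSpace (f ⁻¹ᵁ V : Scheme.{u})] [QuasiSeparatedSpace (f ⁻¹ᵁ V : Scheme.{u})]
    (x : (f ⁻¹ᵁ V : Scheme.{u})) :
    ∃ c : Γ((Scheme.Modules.pullback (f ⁻¹ᵁ V).ι).obj M, ⊤), x ∈ glocus _ c := by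
  let P := f ⁻¹ᵁ V
  obtain ⟨U, g, W, hW, hxU, hxW, hg⟩ := exists_gen_of_counit_epi f hM (P.ι x)
  obtain ⟨r, hrU, hxr⟩ := hV.exists_basicOpen_le ⟨f (P.ι x), hxU⟩ x.2
  let R : Γ(P.toScheme, ⊤) := P.topIso.inv (f.app V r)
  have hR : P.ι ''ᵁ (P.toScheme.basicOpen R) = f ⁻¹ᵁ Y.basicOpen r := by
    rw [Scheme.preimage_basicOpen, Scheme.image_basicOpen]
    simp only [R, Scheme.Opens.topIso_inv, Scheme.Opens.ι_appIso, Iso.refl_inv]
    rw [← Scheme.basicOpen_res_eq X (f.app V r) (eqToHom (Scheme.Opens.ι_image_top P)).op]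
    rfl
  let s : Γ(Coh.structureModule P.toScheme, ⊤) := R
  have hs : glocus (Coh.structureModule P.toScheme) s = P.toScheme.basicOpen R := glocus_structureModule R
  have hle : glocus (Coh.structureModule P.toScheme) s ≤ P.ι ⁻¹ᵁ (f ⁻¹ᵁ U) := by
    intro w hw
    exact hrU (hR.le ⟨w, hs.le hw, rfl⟩)
  let M' := (Scheme.Modules.pullback P.ι).obj M
  have hM' : PicF.IsInvertible M' := PicLoc.isInvertible_pullback _ hM
  have := isQCoh_of_isInvertible hM'
  let φ : Γ(M', glocus (Coh.structureModule P.toScheme) s) := resM _ hle (pullSec P.ι g)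
  obtain ⟨n, t, ht⟩ := exists_extend M' s isInvertible_structureModule φ
  obtain ⟨ePow⟩ := exists_structurePowIso (X := P.toScheme) n
  let e : CohB1.tensorMod M' (CohB1.tensorPow (Coh.structureModule P.toScheme) n) ≅ M' :=
    tensorIso (Iso.refl M') ePow ≪≫ tensorComm _ _ ≪≫ unitTensorIso M'
  refine ⟨e.hom.app ⊤ t, ?_⟩
  rw [glocus_map_iso]
  let T := glocus (Coh.structureModule P.toScheme) s ⊓ P.ι ⁻¹ᵁ W
  have hT : IsGen _ T (resM _ (le_top : T ≤ ⊤) t) := by
    rw [← resM_resM _ (le_top : glocus (Coh.structureModule P.toScheme) s ≤ ⊤) (inf_le_left : T ≤ _), ht,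
      resM_tmul]
    refine isGen_tmul ?_ ((isGen_powSec (isGen_glocus s) n).restrict _)
    rw [resM_resM]
    have hW' := (isGen_pullSec P.ι hg hM).restrict (inf_le_right : T ≤ P.ι ⁻¹ᵁ W)
    rw [← resM_pullSec P.ι hW, resM_resM] at hW'
    exact hW'
  refine (le_glocus_iff t T).2 hT ⟨hs.ge ?_, hxW⟩
  obtain ⟨w, hw, he⟩ := hR.ge (show P.ι x ∈ f ⁻¹ᵁ Y.basicOpen r from hxr)
  exact (Subtype.ext he : w = x) ▸ hw

end Groth.Agent.AmpleLib
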