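import Groth.Agent.AmpleLib.Generated
import Groth.Agent.Coherent.QcohOps

/-!
# Detecting generators at a point
-/

set_option autoImplicit false
set_option backward.isDefEq.respectTransparency.types false

universe u

open CategoryTheory CategoryTheory.Limits AlgebraicGeometry Opposite TopologicalSpace
open Groth.Agent.Coherent Groth.Agent.PicLib

namespace Groth.Agent.AmpleLib

variable {X Y : Scheme.{u}} {M F : X.Modules} {x : X}

/-- Evaluation at the residue field of a point. -/
noncomputable def atPoint (M : X.Modules) (x : X) :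
    M ⟶ (Scheme.Modules.pushforward (X.fromSpecResidueField x)).obj
      ((Scheme.Modules.pullback (X.fromSpecResidueField x)).obj M) :=
  (Scheme.Modules.pullbackPushforwardAdjunction (X.fromSpecResidueField x)).unit.app M

/-- A section generating nowhere near the point vanishes at the point. -/
theorem atPoint_eq_zero (hM : PicF.IsInvertible M) {U : X.Opens} (g : Γ(M, U))
    (h : ∀ (W : X.Opens) (hW : W ≤ U), x ∈ W → ¬ IsGen M W (resM M hW g)) :
    (atPoint M x).app U g = 0 := by
  let σ := X.fromSpecResidueField x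
  have hσx : ∀ s, σ s = x := fun s => X.fromSpecResidueField_apply x s
  obtain ⟨W₀, hxW₀, z, hz⟩ := exists_isGen hM x
  show pullSec σ g = 0
  refine sec_ext _ _ _ fun s hs => ?_
  have hxU : x ∈ U := hσx s ▸ hs
  let W := U ⊓ W₀
  have hWU : W ≤ U := inf_le_left
  have hzW := hz.restrict (inf_le_right : W ≤ W₀)
  obtain ⟨a, ha⟩ := (hzW W le_rfl).2 (resM M hWU g)
  simp only [resM_self] at ha
  refine ⟨σ ⁻¹ᵁ W, ((Opens.map σ.base).map (homOfLE hWU)).le, show σ s ∈ W by rw [hσx s]; exact ⟨hxU, hxW₀⟩, ?_⟩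
  rw [resM_pullSec σ hWU, ← ha, pullSec_smul, map_zero]
  suffices σ.app W a = 0 by rw [this, zero_smul]
  rw [← basicOpen_eq_bot_iff, ← Scheme.preimage_basicOpen]
  refine Opens.ext (Set.eq_empty_of_forall_notMem fun t ht => ?_)
  refine h (X.basicOpen a) ((X.basicOpen_le a).trans hWU) (hσx t ▸ ht) ?_
  rw [← resM_resM M hWU (X.basicOpen_le a), ← ha, resM_smul]
  refine (isGen_smul_iff ?_).2 (hzW.restrict _)
  exact RingedSpace.isUnit_res_basicOpen X.toLocallyRingedSpace.toRingedSpace a

/-- A generator does not vanish at the point. -/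
theorem atPoint_ne_zero (hM : PicF.IsInvertible M) {W : X.Opens} (hxW : x ∈ W) {z : Γ(M, W)}
    (hz : IsGen M W z) : (atPoint M x).app W z ≠ 0 := by
  intro hzero
  let σ := X.fromSpecResidueField x
  have hgen := isGen_pullSec σ hz hM
  replace hzero : pullSec σ z = 0 := hzero
  let s₀ : Spec (X.residueField x) := Classical.arbitrary _
  have hs₀ : s₀ ∈ σ ⁻¹ᵁ W := show σ s₀ ∈ W by rw [X.fromSpecResidueField_apply]; exact hxW
  have h01 : (0 : Γ(Spec (X.residueField x), σ ⁻¹ᵁ W)) = 1 := (hgen _ le_rfl).1 (by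
    simp only [resM_self, hzero, smul_zero])
  have hb := Scheme.basicOpen_of_isUnit (U := σ ⁻¹ᵁ W) (Spec (X.residueField x)) (f := 0) (h01 ▸ isUnit_one)
  rw [Scheme.basicOpen_zero] at hb
  exact (hb.ge hs₀).elim

/-- A morphism hits a generator near the point. -/
def HitsAt (φ : F ⟶ M) (x : X) : Prop :=
  ∃ (W : X.Opens) (k : Γ(F, W)), x ∈ W ∧ IsGen M W (φ.app W k)

theorem exists_gen_of_counit_epi_hom (f : X ⟶ Y) (hM : PicF.IsInvertible M) (φ : F ⟶ M) (hφ : HitsAt φ x)
    [Epi ((Scheme.Modules.pullbackPushforwardAdjunction f).counit.app F)] :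
    ∃ (V : Y.Opens) (g : Γ(F, f ⁻¹ᵁ V)) (W : X.Opens) (hW : W ≤ f ⁻¹ᵁ V),
      f x ∈ V ∧ x ∈ W ∧ IsGen M W (resM M hW (φ.app _ g)) := by
  by_contra h
  push Not at h
  let q := φ ≫ atPoint M x
  have key : (Scheme.Modules.pushforward f).map q = 0 := by
    refine Scheme.Modules.hom_ext _ _ fun V => ?_
    ext g
    show (atPoint M x).app (f ⁻¹ᵁ V) (φ.app (f ⁻¹ᵁ V) g) = 0
    exact atPoint_eq_zero hM _ fun W hW hxW => h V g W hW (hW hxW) hxW
  have h0 : q = 0 := by
    rw [← cancel_epi ((Scheme.Modules.pullbackPushforwardAdjunction f).counit.app F), comp_zero]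
    have hn := (Scheme.Modules.pullbackPushforwardAdjunction f).counit.naturality q
    refine hn.symm.trans ?_
    show (Scheme.Modules.pullback f).map ((Scheme.Modules.pushforward f).map q) ≫ _ = 0
    have := (Scheme.Modules.pullbackPushforwardAdjunction f).left_adjoint_additive
    rw [key, Functor.map_zero, zero_comp]
  obtain ⟨W, k, hxW, hk⟩ := hφ
  exact atPoint_ne_zero hM hxW hk (show q.app W k = 0 by rw [h0]; rfl)

theorem exists_mem_glocus_of_epi_free (hM : PicF.IsInvertible M) (φ : F ⟶ M) (hφ : HitsAt φ x) {I : Type u}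
    (p : freeMod X I ⟶ F) [Epi p] :
    ∃ i : I, x ∈ glocus M (φ.app ⊤ (p.app ⊤ (freeBasisVec i ⊤))) := by
  by_contra h
  push Not at h
  have key : p ≫ φ ≫ atPoint M x = 0 := by
    refine freeMod_hom_ext fun i => ?_
    rw [comp_zero]
    let ψ := freeInj i ≫ p ≫ φ ≫ atPoint M x
    have h1 : unitVal ψ ⊤ = 0 := by
      show (atPoint M x).app ⊤ (φ.app ⊤ (p.app ⊤ (freeBasisVec i ⊤))) = 0
      refine atPoint_eq_zero hM _ fun W hW hxW hg => h i ?_
      exact (le_glocus_iff _ W).2 hg hxW
    refine Scheme.Modules.hom_ext _ _ fun W => ?_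
    ext r
    show ψ.app W r = 0
    refine (app_unit ψ r).trans ?_
    rw [← resM_unitVal ψ (le_top : W ≤ ⊤), h1, map_zero, smul_zero]
  have h0 : φ ≫ atPoint M x = 0 := by rw [← cancel_epi p, key, comp_zero]
  obtain ⟨W, k, hxW, hk⟩ := hφ
  exact atPoint_ne_zero hM hxW hk (show (φ ≫ atPoint M x).app W k = 0 by rw [h0]; rfl)

end Groth.Agent.AmpleLib
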